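import Groth.Agent.Lib.TorsorQuillen.Extend
import Groth.Agent.Lib.TorsorSch.Descent
import Groth.Prelude.Def_ActBC

/-!
# Quillen patching: faithfully flat algebras with local sections, base change squares
-/

universe u

open CategoryTheory CategoryTheory.Limits AlgebraicGeometry Polynomial MonoidalCategory

namespace Groth.Agent.Lib.TorsorQuillen.Cover

variable {A : Scheme.{u}} {X : Over A}

/-- A scheme which is fpqc locally trivial has a section over a faithfully flat algebra of any
affine scheme over the base. -/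
theorem exists_section (hX : NonAbH1.IsLocallyTrivialFor Scheme.fpqcPrecoverage X) {B : Type u} [CommRing B]
    (u : Spec (CommRingCat.of B) ⟶ A) :
    ∃ (B' : Type u) (_ : CommRing B') (_ : Algebra B B')
      (_ : Flat (Spec.map (CommRingCat.ofHom (algebraMap B B'))))
      (_ : Surjective (Spec.map (CommRingCat.ofHom (algebraMap B B'))))
      (s : Spec (CommRingCat.of B') ⟶ X.left),
      s ≫ X.hom = Spec.map (CommRingCat.ofHom (algebraMap B B')) ≫ u := by
  obtain ⟨R, hR, hsec⟩ := NonAbH1.isLocallyTrivialFor_bc u Scheme.fpqcPrecoverage hX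
  obtain ⟨T, _, q, _, _, _, 𝒱, h𝒱⟩ :=
    Groth.Agent.Lib.TorsorSch.Descent.exists_affine_cover hR ⊤ (isAffineOpen_top _)
  let q' : T ⟶ Spec (CommRingCat.of B) := q ≫ (⊤ : (Spec (CommRingCat.of B)).Opens).ι
  have : ∀ i, ∃ z : 𝒱.X i ⟶ X.left, z ≫ X.hom = 𝒱.f i ≫ q' ≫ u := by
    intro i
    obtain ⟨S', g, hg, b, hb⟩ := h𝒱 i
    obtain ⟨t, ht⟩ := hsec g hg
    refine ⟨b ≫ t ≫ pullback.fst X.hom u, ?_⟩
    rw [Category.assoc, Category.assoc, pullback.condition, ← Category.assoc t,
      show t ≫ pullback.snd X.hom u = g from ht, reassoc_of% hb]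
    rfl
  choose z hz using this
  let 𝒲 := 𝒱.affineRefinement.openCover.finiteSubcover
  have hW : ∀ j, ∃ z' : 𝒲.X j ⟶ X.left, z' ≫ X.hom = 𝒲.f j ≫ q' ≫ u := by
    intro j
    refine ⟨(𝒱.X (𝒱.affineRefinement.openCover.idx j.1).1).affineCover.f (𝒱.affineRefinement.openCover.idx j.1).2 ≫ z _, ?_⟩
    rw [Category.assoc, hz]
    exact (Category.assoc _ _ _).symm
  choose z' hz' using hW
  have : Finite 𝒲.I₀ := Finite.of_fintype _
  have hWaff : ∀ j, IsAffine (𝒲.X j) := fun j =>
    inferInstanceAs (IsAffine ((𝒱.X (𝒱.affineRefinement.openCover.idx j.1).1).affineCover.X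
      (𝒱.affineRefinement.openCover.idx j.1).2))
  let T' := ∐ fun j => 𝒲.X j
  let p : T' ⟶ T := Sigma.desc fun j => 𝒲.f j
  have hp : Flat p := inferInstance
  have hps : Surjective p := ⟨fun t => by
    obtain ⟨j, y, hy⟩ := 𝒲.exists_eq t
    exact ⟨Sigma.ι (fun j => 𝒲.X j) j y, (congr($(Sigma.ι_desc (fun j => 𝒲.f j) j) y)).trans hy⟩⟩
  have : IsAffine T' := inferInstance
  have : Flat q' := inferInstance
  have : Surjective (⊤ : (Spec (CommRingCat.of B)).Opens).ι :=
    ⟨fun x => ⟨⟨x, trivial⟩, rfl⟩⟩
  have : Surjective q' := inferInstance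
  let φ : CommRingCat.of B ⟶ Γ(T', ⊤) := Spec.preimage (T'.isoSpec.inv ≫ p ≫ q')
  have hφ : Spec.map φ = T'.isoSpec.inv ≫ p ≫ q' := Spec.map_preimage _
  let _ : Algebra B Γ(T', ⊤) := φ.hom.toAlgebra
  have e : Spec.map (CommRingCat.ofHom (algebraMap B Γ(T', ⊤))) = T'.isoSpec.inv ≫ p ≫ q' := hφ
  refine ⟨Γ(T', ⊤), inferInstance, φ.hom.toAlgebra, ?_, ?_, T'.isoSpec.inv ≫ Sigma.desc z', ?_⟩
  · rw [e]
    infer_instance
  · rw [e]
    infer_instance
  · rw [e, Category.assoc, Category.assoc]
    congr 1
    refine Sigma.hom_ext _ _ fun j => ?_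
    simp only [p, Sigma.ι_desc_assoc, hz', Category.assoc]

variable {B B' : Type u} [CommRing B] [CommRing B'] [Algebra B B']

/-- The base change square of polynomial rings. -/
theorem isPullback_poly :
    IsPullback (Spec.map (CommRingCat.ofHom (Polynomial.C : B' →+* B'[X])))
      (Spec.map (CommRingCat.ofHom (mapRingHom (algebraMap B B'))))
      (Spec.map (CommRingCat.ofHom (algebraMap B B')))
      (Spec.map (CommRingCat.ofHom (Polynomial.C : B →+* B[X]))) := by
  let _ : Algebra B[X] B'[X] := (mapRingHom (algebraMap B B')).toAlgebra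
  exact isPullback_SpecMap_of_isPushout _ _ _ _ (CommRingCat.isPushout_of_isPushout B B' B[X] B'[X])

theorem flat_poly [Flat (Spec.map (CommRingCat.ofHom (algebraMap B B')))] :
    Flat (Spec.map (CommRingCat.ofHom (mapRingHom (algebraMap B B')))) :=
  MorphismProperty.of_isPullback (P := @Flat) isPullback_poly ‹_›

theorem surjective_poly [Surjective (Spec.map (CommRingCat.ofHom (algebraMap B B')))] :
    Surjective (Spec.map (CommRingCat.ofHom (mapRingHom (algebraMap B B')))) :=
  MorphismProperty.of_isPullback (P := @Surjective) isPullback_poly ‹_›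

/-- The self fibre product of `Spec B'[X]` over `Spec B[X]`. -/
theorem isPullback_poly_self :
    IsPullback
      (Spec.map (CommRingCat.ofHom (mapRingHom (Algebra.TensorProduct.includeLeftRingHom : B' →+* TensorProduct B B' B'))))
      (Spec.map (CommRingCat.ofHom (mapRingHom (Algebra.TensorProduct.includeRight.toRingHom : B' →+* TensorProduct B B' B'))))
      (Spec.map (CommRingCat.ofHom (mapRingHom (algebraMap B B'))))
      (Spec.map (CommRingCat.ofHom (mapRingHom (algebraMap B B')))) := by
  let Q := TensorProduct B B' B'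
  let l : B' →+* Q := Algebra.TensorProduct.includeLeftRingHom
  let r : B' →+* Q := (Algebra.TensorProduct.includeRight : B' →ₐ[B] Q).toRingHom
  have hlr : l.comp (algebraMap B B') = r.comp (algebraMap B B') := by
    refine RingHom.ext fun b => ?_
    exact ((Algebra.TensorProduct.includeLeft : B' →ₐ[B] Q).commutes b).trans
      ((Algebra.TensorProduct.includeRight : B' →ₐ[B] Q).commutes b).symm
  have hQ : IsPullback (Spec.map (CommRingCat.ofHom l)) (Spec.map (CommRingCat.ofHom r))
      (Spec.map (CommRingCat.ofHom (algebraMap B B'))) (Spec.map (CommRingCat.ofHom (algebraMap B B'))) := by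
    refine .of_iso (IsPullback.of_hasPullback _ _) (pullbackSpecIso B B' B') (Iso.refl _) (Iso.refl _) (Iso.refl _)
      ?_ ?_ (by simp) (by simp)
    · rw [Iso.refl_hom, Category.comp_id]
      exact (pullbackSpecIso_hom_fst B B' B').symm
    · rw [Iso.refl_hom, Category.comp_id]
      exact (pullbackSpecIso_hom_snd B B' B').symm
  have hr : IsPullback (Spec.map (CommRingCat.ofHom (Polynomial.C : Q →+* Q[X])))
      (Spec.map (CommRingCat.ofHom (mapRingHom r))) (Spec.map (CommRingCat.ofHom r))
      (Spec.map (CommRingCat.ofHom (Polynomial.C : B' →+* B'[X]))) :=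
    @isPullback_poly B' Q _ _ r.toAlgebra
  have h1 := hr.paste_horiz hQ
  refine IsPullback.of_right ?_ ?_ (isPullback_poly (B := B) (B' := B'))
  · convert h1 using 1
    · rw [← Spec.map_comp, ← Spec.map_comp, ← CommRingCat.ofHom_comp, ← CommRingCat.ofHom_comp]
      congr 2
      exact RingHom.ext fun b => (Polynomial.map_C _).trans rfl
    · rw [← Spec.map_comp, ← Spec.map_comp, ← CommRingCat.ofHom_comp, ← CommRingCat.ofHom_comp]
      congr 2
      exact RingHom.ext fun b => (Polynomial.map_C _).trans rfl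
  · rw [← Spec.map_comp, ← Spec.map_comp, ← CommRingCat.ofHom_comp, ← CommRingCat.ofHom_comp]
    congr 2
    refine RingHom.ext fun p => ?_
    show (p.map _).map l = (p.map _).map r
    rw [Polynomial.map_map, Polynomial.map_map, hlr]

end Groth.Agent.Lib.TorsorQuillen.Cover
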