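import Groth.Agent.Lib.TorsorQuillen.Pts

/-!
# Quillen patching: families of equivariant maps from their values on a cover
-/

universe u

open CategoryTheory CategoryTheory.Limits MonoidalCategory CartesianMonoidalCategory MonObj GrpObj AlgebraicGeometry

namespace Groth.Agent.Lib.TorsorQuillen.Descend

open Pts

variable {S A : Scheme.{u}} {q : A ⟶ S} {G : Over S} [GrpObj G] {X : Over A}
  {a : AlgGrp.Action (Red.bc q G) X} (ha : NonAbH1.IsPseudoTorsorSch a)
  {T T' : Scheme.{u}} (c : T' ⟶ T) [Flat c] [Surjective c] [QuasiCompact c]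

include ha in
/-- Two families agreeing at a local section agree. -/
theorem hm_ext {u : T ⟶ A} {A' : Scheme.{u}} {q' : A' ⟶ S} {X' : Over A'} {a' : AlgGrp.Action (Red.bc q' G) X'}
    {v : T ⟶ A'} (s : T' ⟶ X.left) (hs : s ≫ X.hom = c ≫ u) {f f' : Hm a a' u v}
    (e : f.app c s hs = f'.app c s hs) : f = f' := by
  refine Hm.ext' fun {W} w x h => ?_
  rw [← cancel_epi (pullback.fst w c), f.nat, f'.nat]
  have hk : (pullback.fst w c ≫ x) ≫ X.hom = (pullback.snd w c ≫ s) ≫ X.hom := by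
    rw [Category.assoc, h, Category.assoc, hs, pullback.condition_assoc]
  obtain ⟨gam, ⟨hg, hgam⟩, -⟩ := existsUnique_gact a ha _ _ hk.symm
  have h' : (pullback.snd w c ≫ s) ≫ X.hom = (pullback.snd w c ≫ c) ≫ u := by
    rw [Category.assoc, hs, Category.assoc]
  rw [f.app_congr pullback.condition hgam.symm (h' := by rw [gact_π]; exact h'),
    f'.app_congr pullback.condition hgam.symm (h' := by rw [gact_π]; exact h'),
    f.equiv _ _ _ h' hg, f'.equiv _ _ _ h' hg]
  refine gact_congr a' rfl ?_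
  rw [← f.nat (pullback.snd w c) c s hs, ← f'.nat (pullback.snd w c) c s hs, e]

variable {u : T ⟶ A} (s y : T' ⟶ X.left) (hs : s ≫ X.hom = c ≫ u) (hy : y ≫ X.hom = c ≫ u)

/-- The compatibility of a value on the cover. -/
def Compat : Prop :=
  ∀ (gam : pullback c c ⟶ G.left) (h : gam ≫ G.hom = ((pullback.snd c c ≫ s) ≫ X.hom) ≫ q),
    gact a gam (pullback.snd c c ≫ s) h = pullback.fst c c ≫ s →
    gact a gam (pullback.snd c c ≫ y) (by
      rw [h, Category.assoc (pullback.snd c c), Category.assoc (pullback.snd c c) y, hs, hy]) =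
        pullback.fst c c ≫ y

variable {c s y hs hy}

include ha in
theorem compat_gen (H : Compat (a := a) c s y hs hy) {W : Scheme.{u}} (k1 k2 : W ⟶ T') (hk : k1 ≫ c = k2 ≫ c)
    (gam : W ⟶ G.left) (h : gam ≫ G.hom = ((k2 ≫ s) ≫ X.hom) ≫ q) (hgam : gact a gam (k2 ≫ s) h = k1 ≫ s)
    (h' : gam ≫ G.hom = ((k2 ≫ y) ≫ X.hom) ≫ q) :
    gact a gam (k2 ≫ y) h' = k1 ≫ y := by
  have hss : (pullback.snd c c ≫ s) ≫ X.hom = (pullback.fst c c ≫ s) ≫ X.hom := by
    rw [Category.assoc, Category.assoc, hs, pullback.condition_assoc]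
  obtain ⟨g, ⟨hg, hg'⟩, -⟩ := existsUnique_gact a ha _ _ hss
  have H' := H g hg hg'
  let l := pullback.lift k1 k2 hk
  have e1 : gam = l ≫ g := by
    refine (existsUnique_gact a ha (k2 ≫ s) (k1 ≫ s) (by rw [← gact_π a gam _ h, hgam])).unique
      ⟨h, hgam⟩ ⟨?_, ?_⟩
    · rw [Category.assoc, hg]
      simp only [Category.assoc, l, pullback.lift_snd_assoc]
    · have := congrArg (l ≫ ·) hg'
      simp only [comp_gact, l, pullback.lift_fst_assoc] at this
      exact (gact_congr a rfl (by rw [pullback.lift_snd_assoc])).trans this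
  have := congrArg (l ≫ ·) H'
  simp only [comp_gact, l, pullback.lift_fst_assoc] at this
  exact (gact_congr a e1 (by rw [pullback.lift_snd_assoc])).trans this

section build

variable (H : Compat (a := a) c s y hs hy) {W : Scheme.{u}} (w : W ⟶ T) (x : W ⟶ X.left) (h : x ≫ X.hom = w ≫ u)

include hs h in
theorem base_eq : (pullback.snd w c ≫ s) ≫ X.hom = (pullback.fst w c ≫ x) ≫ X.hom := by
  rw [Category.assoc, Category.assoc, hs, h, pullback.condition_assoc]

/-- The point of the group comparing `x` with the section. -/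
noncomputable def gamma : pullback w c ⟶ G.left :=
  (existsUnique_gact a ha _ _ (base_eq (hs := hs) w x h)).exists.choose

theorem gamma_spec : ∃ hh, gact a (gamma ha (hs := hs) w x h) (pullback.snd w c ≫ s) hh = pullback.fst w c ≫ x :=
  (existsUnique_gact a ha _ _ (base_eq (hs := hs) w x h)).exists.choose_spec

/-- The value on the cover. -/
noncomputable def loc : pullback w c ⟶ X.left :=
  gact a (gamma ha (hs := hs) w x h) (pullback.snd w c ≫ y) (by
    obtain ⟨hh, -⟩ := gamma_spec ha (hs := hs) w x h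
    rw [hh, show (pullback.snd w c ≫ s) ≫ X.hom = (pullback.snd w c ≫ y) ≫ X.hom by
      rw [Category.assoc, Category.assoc, hs, hy]])

include ha H h in
theorem loc_cond {Z : Scheme.{u}} (g₁ g₂ : Z ⟶ pullback w c) (e : g₁ ≫ pullback.fst w c = g₂ ≫ pullback.fst w c) :
    g₁ ≫ loc ha (hs := hs) (hy := hy) w x h = g₂ ≫ loc ha (hs := hs) (hy := hy) w x h := by
  obtain ⟨hh, hgam⟩ := gamma_spec ha (hs := hs) w x h
  set gam := gamma ha (hs := hs) w x h with hdef
  let k1 := g₁ ≫ pullback.snd w c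
  let k2 := g₂ ≫ pullback.snd w c
  have hk : k1 ≫ c = k2 ≫ c := by
    simp only [k1, k2, Category.assoc, ← pullback.condition]
    rw [reassoc_of% e]
  have hb1 : (k1 ≫ s) ≫ X.hom = (g₁ ≫ pullback.fst w c ≫ x) ≫ X.hom := by
    simp only [k1, Category.assoc, h, hs, pullback.condition_assoc]
  have hb2 : (k2 ≫ s) ≫ X.hom = (k1 ≫ s) ≫ X.hom := by
    rw [Category.assoc k2 s, Category.assoc k1 s, hs, ← Category.assoc k2, ← hk, Category.assoc]
  obtain ⟨d, ⟨hd, hd'⟩, -⟩ := existsUnique_gact a ha _ _ hb2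
  have hbase : ((k2 ≫ s) ≫ X.hom) ≫ q = ((k2 ≫ y) ≫ X.hom) ≫ q := by
    rw [Category.assoc k2 s, hs, Category.assoc k2 y, hy]
  have hdy := compat_gen ha H k1 k2 hk d hd hd' (by rw [hd, hbase])
  have hg1 : (g₁ ≫ gam) ≫ G.hom = ((k2 ≫ s) ≫ X.hom) ≫ q := by
    rw [hb2, Category.assoc, hh]; simp only [k1, Category.assoc]
  let m := gmul (q := q) ((k2 ≫ s) ≫ X.hom) (g₁ ≫ gam) d hg1 hd
  have em : m = g₂ ≫ gam := by
    refine (existsUnique_gact a ha (k2 ≫ s) (g₁ ≫ pullback.fst w c ≫ x) (hb2.trans hb1)).unique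
      ⟨gmul_hom _ _ _ _ _, ?_⟩ ⟨?_, ?_⟩
    · rw [← gact_gact a _ _ _ hg1 hd _ rfl]
      have := congrArg (g₁ ≫ ·) hgam
      simp only [comp_gact] at this
      refine Eq.trans (gact_congr a rfl (hd'.trans (Category.assoc g₁ _ _))) this
    · rw [Category.assoc, hh]
      simp only [k2, Category.assoc]
    · have := congrArg (g₂ ≫ ·) hgam
      simp only [comp_gact] at this
      refine (gact_congr a rfl (Category.assoc g₂ _ _)).trans (this.trans ?_)
      rw [reassoc_of% e]
  have hyb : (k2 ≫ y) ≫ X.hom = (k2 ≫ s) ≫ X.hom := by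
    rw [Category.assoc k2 y, hy, Category.assoc k2 s, hs]
  have main := gact_gact a ((k2 ≫ s) ≫ X.hom) (g₁ ≫ gam) d hg1 hd (k2 ≫ y) hyb
  rw [loc, comp_gact, comp_gact]
  exact ((gact_congr a rfl ((Category.assoc g₁ _ _).symm.trans hdy.symm)).trans main).trans
    (gact_congr a em (Category.assoc g₂ _ _))

/-- The descended value. -/
noncomputable def desc : W ⟶ X.left :=
  EffectiveEpi.desc (pullback.fst w c) (loc ha (hs := hs) (hy := hy) w x h)
    fun g₁ g₂ e => loc_cond ha H w x h g₁ g₂ e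

theorem desc_spec {Z : Scheme.{u}} (l1 : Z ⟶ W) (l2 : Z ⟶ T') (e : l1 ≫ w = l2 ≫ c) (gam : Z ⟶ G.left)
    (hg : gam ≫ G.hom = ((l2 ≫ s) ≫ X.hom) ≫ q) (hgam : gact a gam (l2 ≫ s) hg = l1 ≫ x)
    (hg' : gam ≫ G.hom = ((l2 ≫ y) ≫ X.hom) ≫ q) :
    l1 ≫ desc ha H w x h = gact a gam (l2 ≫ y) hg' := by
  obtain ⟨hh, hgam'⟩ := gamma_spec ha (hs := hs) w x h
  let l := pullback.lift l1 l2 e
  have e1 : l ≫ gamma ha (hs := hs) w x h = gam := by
    refine (existsUnique_gact a ha (l2 ≫ s) (l1 ≫ x) (by rw [← gact_π a gam _ hg, hgam])).unique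
      ⟨?_, ?_⟩ ⟨hg, hgam⟩
    · rw [Category.assoc, hh]
      simp only [Category.assoc, l, pullback.lift_snd_assoc]
    · have := congrArg (l ≫ ·) hgam'
      simp only [comp_gact, l, pullback.lift_fst_assoc] at this
      exact (gact_congr a rfl (by rw [pullback.lift_snd_assoc])).trans this
  have h1 : l1 ≫ desc ha H w x h = l ≫ pullback.fst w c ≫ desc ha H w x h := by
    rw [pullback.lift_fst_assoc]
  rw [h1, desc, EffectiveEpi.fac, loc, comp_gact]
  exact gact_congr a e1 (by rw [pullback.lift_snd_assoc])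

end build

/-- The family of equivariant maps with a given compatible value on a cover. -/
noncomputable def mk (H : Compat (a := a) c s y hs hy) : Hm a a u u where
  hq := rfl
  app w x h := desc ha H w x h
  π w x h := by
    rw [← cancel_epi (pullback.fst w c)]
    show pullback.fst w c ≫ desc ha H w x h ≫ X.hom = _
    rw [desc, EffectiveEpi.fac_assoc, loc, gact_π, Category.assoc, hy, pullback.condition_assoc]
  nat {W W'} b w x h := by
    rw [← cancel_epi (pullback.fst (b ≫ w) c)]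
    obtain ⟨hh, hgam⟩ := gamma_spec ha (hs := hs) (b ≫ w) (b ≫ x) (by rw [Category.assoc, h, Category.assoc])
    have hg' : gamma ha (hs := hs) (b ≫ w) (b ≫ x) (by rw [Category.assoc, h, Category.assoc]) ≫ G.hom =
        ((pullback.snd (b ≫ w) c ≫ y) ≫ X.hom) ≫ q := by
      rw [hh, Category.assoc (pullback.snd (b ≫ w) c) s, hs, Category.assoc (pullback.snd (b ≫ w) c) y, hy]
    rw [desc_spec ha H (b ≫ w) (b ≫ x) _ (pullback.fst _ _) (pullback.snd _ _) pullback.condition _ hh hgam hg',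
      ← Category.assoc, desc_spec ha H w x h (pullback.fst (b ≫ w) c ≫ b) (pullback.snd _ _)
        (by rw [Category.assoc]; exact pullback.condition) _ hh (hgam.trans (Category.assoc _ _ _).symm) hg']
  equiv {W} w g x h hg := by
    rw [← cancel_epi (pullback.fst w c)]
    obtain ⟨hh, hgam⟩ := gamma_spec ha (hs := hs) w x h
    have hsb : (pullback.snd w c ≫ s) ≫ X.hom = (pullback.fst w c ≫ w) ≫ u := by
      rw [Category.assoc, hs, pullback.condition, Category.assoc]
    have hgg : (pullback.fst w c ≫ g) ≫ G.hom = ((pullback.snd w c ≫ s) ≫ X.hom) ≫ q := by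
      rw [hsb, Category.assoc, hg, h]; simp only [Category.assoc]
    have hyb : (pullback.snd w c ≫ y) ≫ X.hom = (pullback.snd w c ≫ s) ≫ X.hom := by
      rw [Category.assoc, Category.assoc, hy, hs]
    have hm := gmul_hom (q := q) ((pullback.snd w c ≫ s) ≫ X.hom) (pullback.fst w c ≫ g)
      (gamma ha (hs := hs) w x h) hgg hh
    rw [desc_spec ha H w _ _ (pullback.fst w c) (pullback.snd w c) pullback.condition _ hm (by
        rw [← gact_gact a _ _ _ hgg hh _ rfl, comp_gact]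
        exact gact_congr a rfl hgam) (by rw [hm, hyb]),
      ← gact_gact a _ _ _ hgg hh _ hyb, comp_gact]
    refine gact_congr a rfl ?_
    exact (desc_spec ha H w x h _ _ pullback.condition _ hh hgam _).symm

theorem mk_app_section (H : Compat (a := a) c s y hs hy) : (mk ha H).app c s hs = y := by
  show desc ha H c s hs = y
  have h := desc_spec ha H c s hs (𝟙 _) (𝟙 _) rfl (((𝟙 T' ≫ s) ≫ X.hom) ≫ q ≫ (η[G] : 𝟙_ _ ⟶ G).left) (by
      have : (η[G] : 𝟙_ _ ⟶ G).left ≫ G.hom = 𝟙 S := Over.w η[G]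
      simp only [Category.assoc, this, Category.comp_id])
    ((gact_congr a (Category.assoc _ _ _).symm rfl).trans (gact_one a _ (by
      have : (η[G] : 𝟙_ _ ⟶ G).left ≫ G.hom = 𝟙 S := Over.w η[G]
      simp only [Category.assoc, this, Category.comp_id]))) (by
      have : (η[G] : 𝟙_ _ ⟶ G).left ≫ G.hom = 𝟙 S := Over.w η[G]
      simp only [Category.assoc, this, Category.comp_id, Category.id_comp]
      rw [reassoc_of% hs, reassoc_of% hy])
  rw [Category.id_comp] at h
  rw [h]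
  refine Eq.trans (gact_congr a ?_ rfl) ((gact_one a (𝟙 T' ≫ y) ?_).trans (Category.id_comp _))
  · simp only [Category.id_comp, Category.assoc]
    rw [reassoc_of% hs, reassoc_of% hy]
  · have : (η[G] : 𝟙_ _ ⟶ G).left ≫ G.hom = 𝟙 S := Over.w η[G]
    simp only [Category.assoc, this, Category.comp_id]

section glue

variable {A' : Scheme.{u}} {q' : A' ⟶ S} {X' : Over A'} {a' : AlgGrp.Action (Red.bc q' G) X'}
  {u' : T ⟶ A'} (𝒰 : Scheme.OpenCover.{0} T)

/-- Gluing families over an open cover of the parameter scheme. -/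
theorem exists_glue (hq : u ≫ q = u' ≫ q') (F : ∀ i, Hm a a' (𝒰.f i ≫ u) (𝒰.f i ≫ u'))
    (hF : ∀ i j {W : Scheme.{u}} (w₁ : W ⟶ 𝒰.X i) (w₂ : W ⟶ 𝒰.X j) (x : W ⟶ X.left)
      (e : w₁ ≫ 𝒰.f i = w₂ ≫ 𝒰.f j) (h₁ : x ≫ X.hom = w₁ ≫ 𝒰.f i ≫ u) (h₂ : x ≫ X.hom = w₂ ≫ 𝒰.f j ≫ u),
      (F i).app w₁ x h₁ = (F j).app w₂ x h₂) :
    Nonempty (Hm a a' u u') := by
  classical
  let g : ∀ {W : Scheme.{u}} (w : W ⟶ T) (x : W ⟶ X.left), x ≫ X.hom = w ≫ u → ∀ i, pullback w (𝒰.f i) ⟶ X'.left :=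
    fun w x h i => (F i).app (pullback.snd w (𝒰.f i)) (pullback.fst w (𝒰.f i) ≫ x)
      (by rw [Category.assoc, h, pullback.condition_assoc])
  have hg : ∀ {W : Scheme.{u}} (w : W ⟶ T) (x : W ⟶ X.left) (h : x ≫ X.hom = w ≫ u) (i j : 𝒰.I₀),
      pullback.fst ((𝒰.pullback₁ w).f i) ((𝒰.pullback₁ w).f j) ≫ g w x h i =
        pullback.snd ((𝒰.pullback₁ w).f i) ((𝒰.pullback₁ w).f j) ≫ g w x h j := by
    intro W w x h i j
    have hc : pullback.fst (pullback.fst w (𝒰.f i)) (pullback.fst w (𝒰.f j)) ≫ pullback.fst w (𝒰.f i) =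
        pullback.snd (pullback.fst w (𝒰.f i)) (pullback.fst w (𝒰.f j)) ≫ pullback.fst w (𝒰.f j) := pullback.condition
    show pullback.fst (pullback.fst w (𝒰.f i)) (pullback.fst w (𝒰.f j)) ≫ g w x h i =
      pullback.snd (pullback.fst w (𝒰.f i)) (pullback.fst w (𝒰.f j)) ≫ g w x h j
    simp only [g]
    rw [(F i).nat, (F j).nat]
    refine Eq.trans ?_ ((hF i j (pullback.fst (pullback.fst w (𝒰.f i)) (pullback.fst w (𝒰.f j)) ≫ pullback.snd w (𝒰.f i))
      (pullback.snd (pullback.fst w (𝒰.f i)) (pullback.fst w (𝒰.f j)) ≫ pullback.snd w (𝒰.f j))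
      (pullback.snd (pullback.fst w (𝒰.f i)) (pullback.fst w (𝒰.f j)) ≫ pullback.fst w (𝒰.f j) ≫ x) ?_ ?_ ?_))
    · exact (F i).app_congr rfl (by rw [reassoc_of% hc])
    · rw [Category.assoc, Category.assoc, ← pullback.condition, ← pullback.condition, reassoc_of% hc]
    · simp only [Category.assoc, h]
      rw [← reassoc_of% hc]
      simp only [pullback.condition_assoc]
    · simp only [Category.assoc, h, pullback.condition_assoc]
  let app : ∀ {W : Scheme.{u}} (w : W ⟶ T) (x : W ⟶ X.left), x ≫ X.hom = w ≫ u → (W ⟶ X'.left) :=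
    fun w x h => Scheme.Cover.glueMorphisms (𝒰.pullback₁ w) (g w x h) (hg w x h)
  have spec : ∀ {W : Scheme.{u}} (w : W ⟶ T) (x : W ⟶ X.left) (h : x ≫ X.hom = w ≫ u) i,
      pullback.fst w (𝒰.f i) ≫ app w x h = g w x h i :=
    fun w x h i => Scheme.Cover.ι_glueMorphisms (𝒰.pullback₁ w) _ _ i
  refine ⟨{ hq := hq, app := app, π := ?_, nat := ?_, equiv := ?_ }⟩
  · intro W w x h
    refine Scheme.Cover.hom_ext (𝒰.pullback₁ w) _ _ fun i => ?_
    show pullback.fst w (𝒰.f i) ≫ _ = pullback.fst w (𝒰.f i) ≫ _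
    rw [reassoc_of% (spec w x h i), (F i).π, pullback.condition_assoc]
  · intro W W' b w x h
    refine Scheme.Cover.hom_ext (𝒰.pullback₁ (b ≫ w)) _ _ fun i => ?_
    show pullback.fst (b ≫ w) (𝒰.f i) ≫ _ = pullback.fst (b ≫ w) (𝒰.f i) ≫ _
    rw [spec (b ≫ w) (b ≫ x) (by rw [Category.assoc, h, Category.assoc]) i]
    let l : pullback (b ≫ w) (𝒰.f i) ⟶ pullback w (𝒰.f i) :=
      pullback.lift (pullback.fst _ _ ≫ b) (pullback.snd _ _) (by rw [Category.assoc]; exact pullback.condition)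
    have : pullback.fst (b ≫ w) (𝒰.f i) ≫ b ≫ app w x h = l ≫ g w x h i := by
      rw [← spec w x h i, pullback.lift_fst_assoc, Category.assoc]
    rw [this, (F i).nat]
    exact (F i).app_congr (pullback.lift_snd _ _ _) (by rw [pullback.lift_fst_assoc]; simp only [Category.assoc])
  · intro W w g₀ x h hg₀
    refine Scheme.Cover.hom_ext (𝒰.pullback₁ w) _ _ fun i => ?_
    show pullback.fst w (𝒰.f i) ≫ _ = pullback.fst w (𝒰.f i) ≫ _
    rw [spec w (gact a g₀ x hg₀) (by rw [gact_π]; exact h) i, comp_gact]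
    refine ((F i).app_congr rfl (comp_gact a _ _ _ _)).trans (((F i).equiv _ _ _ ?_ _).trans (gact_congr a' rfl (spec w x h i).symm))
    rw [Category.assoc, h, pullback.condition_assoc]

end glue

end Groth.Agent.Lib.TorsorQuillen.Descend
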