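import Groth.Agent.Lib.TorsorQuillen.Extend
import Groth.Agent.Lib.TorsorQuillen.Descend
import Groth.Agent.Lib.TorsorQuillen.Cover

/-!
# Quillen patching: extension of automorphisms of torsors from a localisation
-/

universe u

open CategoryTheory CategoryTheory.Limits MonoidalCategory CartesianMonoidalCategory MonObj GrpObj AlgebraicGeometry
open Polynomial

namespace Groth.Agent.Lib.TorsorQuillen.Aut

open Pts Descend Cover Extend

theorem toC_map {B B' C C' : Type u} [CommRing B] [CommRing B'] [CommRing C] [CommRing C'] [Algebra B C]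
    [Algebra B' C'] (mu : B →+* B') (muC : C →+* C') (h : ∀ b, muC (algebraMap B C b) = algebraMap B' C' (mu b)) :
    (toC C').comp (mapRingHom mu) = (mapRingHom muC).comp (toC C) := by
  refine RingHom.ext fun p => ?_
  show (p.map mu).map _ = (p.map _).map muC
  rw [Polynomial.map_map, Polynomial.map_map]
  congr 1
  exact RingHom.ext fun b => (h b).symm

theorem scale_map {B B' : Type u} [CommRing B] [CommRing B'] (mu : B →+* B') (b : B) :
    (scale (mu b)).comp (mapRingHom mu) = (mapRingHom mu).comp (scale b) := by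
  refine RingHom.ext fun p => Polynomial.ext fun i => ?_
  show (scale (mu b) (p.map mu)).coeff i = ((scale b p).map mu).coeff i
  rw [coeff_scale, coeff_map, coeff_map, coeff_scale, map_mul, map_pow]

theorem at0_map {B B' : Type u} [CommRing B] [CommRing B'] (mu : B →+* B') :
    (at0 B').comp (mapRingHom mu) = mu.comp (at0 B) :=
  RingHom.ext fun p => coeff_map mu 0

/-- `Spec` of a commuting square of rings. -/
theorem spec_sq {A B C D : Type u} [CommRing A] [CommRing B] [CommRing C] [CommRing D] {f : A →+* B} {g : B →+* D}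
    {f' : A →+* C} {g' : C →+* D} (h : g.comp f = g'.comp f') :
    Spec.map (CommRingCat.ofHom g) ≫ Spec.map (CommRingCat.ofHom f) =
      Spec.map (CommRingCat.ofHom g') ≫ Spec.map (CommRingCat.ofHom f') := by
  rw [← Spec.map_comp, ← Spec.map_comp, ← CommRingCat.ofHom_comp, ← CommRingCat.ofHom_comp, h]

variable {S A : Scheme.{u}} {q : A ⟶ S} {G : Over S} [GrpObj G] {X : Over A}
  {a : AlgGrp.Action (Red.bc q G) X}

/-- **Extension of automorphisms**: an automorphism of the torsor over `C[U]`, constant over `B`,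
which is the identity at `U = 0` is defined over `B[U]` after scaling `U` by a power of `s`. -/
theorem exists_extend_aut (ha : NonAbH1.IsTorsorFor Scheme.fpqcPrecoverage a) [LocallyOfFinitePresentation X.hom]
    {B : Type u} [CommRing B] (s : B) (C : Type u) [CommRing C] [Algebra B C] [IsLocalization.Away s C]
    (z : Spec (CommRingCat.of B) ⟶ A)
    (φ : Hm a a (Spec.map (CommRingCat.ofHom (toC C)) ≫ Spec.map (CommRingCat.ofHom Polynomial.C) ≫ z)
      (Spec.map (CommRingCat.ofHom (toC C)) ≫ Spec.map (CommRingCat.ofHom Polynomial.C) ≫ z))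
    (h0 : ∀ {W : Scheme.{u}} (w : W ⟶ Spec (CommRingCat.of C)) (x : W ⟶ X.left) (hx),
      φ.app (w ≫ Spec.map (CommRingCat.ofHom (at0 C))) x hx = x) :
    ∃ (N : ℕ) (ψ : Hm a a (Spec.map (CommRingCat.ofHom Polynomial.C) ≫ z) (Spec.map (CommRingCat.ofHom Polynomial.C) ≫ z)),
      ∀ {W : Scheme.{u}} (w : W ⟶ Spec (CommRingCat.of C[X])) (x : W ⟶ X.left) (h₁) (h₂),
        ψ.app (w ≫ Spec.map (CommRingCat.ofHom (toC C))) x h₁ =
          φ.app (w ≫ Spec.map (CommRingCat.ofHom (scale (algebraMap B C s ^ N)))) x h₂ := by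
  obtain ⟨B', _, _, hflat, hsurj, s0, hs0⟩ := exists_section ha.2 z
  let algB' := algebraMap B B'
  let s' : B' := algB' s
  let C' : Type u := TensorProduct B B' C
  have hmap : Algebra.algebraMapSubmonoid B' (Submonoid.powers s) = Submonoid.powers s' :=
    Submonoid.map_powers (algebraMap B B') s
  have : IsLocalization.Away s' C' := by
    have := IsLocalization.tensor (S := B') C (Submonoid.powers s)
    rwa [hmap] at this
  let mC : C →+* C' := (Algebra.TensorProduct.includeRight : C →ₐ[B] C').toRingHom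
  have hmC : ∀ b, mC (algebraMap B C b) = algebraMap B' C' (algB' b) := fun b =>
    ((Algebra.TensorProduct.includeRight : C →ₐ[B] C').commutes b).trans (IsScalarTower.algebraMap_apply B B' C' b)
  let cB := Spec.map (CommRingCat.ofHom (mapRingHom algB'))
  let cC := Spec.map (CommRingCat.ofHom (mapRingHom mC))
  let σB := Spec.map (CommRingCat.ofHom (Polynomial.C : B' →+* B'[X])) ≫ s0
  have hCmap : ∀ {R₁ R₂ : Type u} [CommRing R₁] [CommRing R₂] (mu : R₁ →+* R₂),
      (mapRingHom mu).comp Polynomial.C = Polynomial.C.comp mu := fun mu => RingHom.ext fun b => Polynomial.map_C mu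
  have hσB : σB ≫ X.hom = cB ≫ Spec.map (CommRingCat.ofHom Polynomial.C) ≫ z := by
    rw [Category.assoc, hs0, ← Category.assoc, ← Category.assoc cB]
    congr 1
    exact spec_sq (hCmap algB').symm
  let σC := Spec.map (CommRingCat.ofHom (toC C')) ≫ σB
  have htoC : Spec.map (CommRingCat.ofHom (toC C')) ≫ cB = cC ≫ Spec.map (CommRingCat.ofHom (toC C)) :=
    spec_sq (toC_map algB' mC hmC)
  have hσC : σC ≫ X.hom = cC ≫ Spec.map (CommRingCat.ofHom (toC C)) ≫ Spec.map (CommRingCat.ofHom Polynomial.C) ≫ z := by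
    rw [Category.assoc, hσB, reassoc_of% htoC]
  let yC := φ.app cC σC hσC
  have hyC : yC ≫ X.hom = cC ≫ Spec.map (CommRingCat.ofHom (toC C)) ≫ Spec.map (CommRingCat.ofHom Polynomial.C) ≫ z :=
    φ.π _ _ _
  -- extend the value on the cover
  let z' := Spec.map (CommRingCat.ofHom algB') ≫ z
  have hz' : Spec.map (CommRingCat.ofHom (toC C')) ≫ Spec.map (CommRingCat.ofHom (Polynomial.C : B' →+* B'[X])) ≫ z' =
      cC ≫ Spec.map (CommRingCat.ofHom (toC C)) ≫ Spec.map (CommRingCat.ofHom Polynomial.C) ≫ z := by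
    rw [← reassoc_of% htoC]
    congr 1
    simp only [z', cB, ← Category.assoc]
    congr 1
    exact spec_sq (hCmap algB').symm
  let h : Spec (CommRingCat.of C'[X]) ⟶ pullback X.hom z' :=
    pullback.lift yC (Spec.map (CommRingCat.ofHom (toC C')) ≫ Spec.map (CommRingCat.ofHom (Polynomial.C : B' →+* B'[X])))
      (by rw [hyC, Category.assoc, hz'])
  let e : Spec (CommRingCat.of B') ⟶ pullback X.hom z' :=
    pullback.lift s0 (𝟙 _) (by rw [Category.id_comp]; exact hs0)
  have hat : Spec.map (CommRingCat.ofHom (at0 C')) ≫ cC = Spec.map (CommRingCat.ofHom mC) ≫ Spec.map (CommRingCat.ofHom (at0 C)) :=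
    spec_sq (at0_map mC)
  have hat2 : ((at0 C').comp (toC C')).comp (Polynomial.C : B' →+* B'[X]) = algebraMap B' C' :=
    RingHom.ext fun b => by
      show ((Polynomial.C b).map (algebraMap B' C')).coeff 0 = _
      rw [Polynomial.map_C, coeff_C_zero]
  have hat3 : Spec.map (CommRingCat.ofHom (at0 C')) ≫ σC = Spec.map (CommRingCat.ofHom (algebraMap B' C')) ≫ s0 := by
    simp only [σC, σB]
    rw [← Spec.map_comp_assoc, ← Spec.map_comp_assoc, ← CommRingCat.ofHom_comp, ← CommRingCat.ofHom_comp, hat2]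
  have hw : Spec.map (CommRingCat.ofHom (at0 C')) ≫ h = Spec.map (CommRingCat.ofHom (algebraMap B' C')) ≫ e := by
    apply pullback.hom_ext
    · rw [Category.assoc, Category.assoc, pullback.lift_fst, pullback.lift_fst, ← hat3]
      simp only [yC]
      rw [φ.nat, φ.app_congr hat rfl (h' := by rw [← hat, Category.assoc, hσC, Category.assoc])]
      exact h0 _ _ _
    · rw [Category.assoc, Category.assoc, pullback.lift_snd, pullback.lift_snd, Category.comp_id,
        ← Spec.map_comp, ← Spec.map_comp, ← CommRingCat.ofHom_comp, ← CommRingCat.ofHom_comp, ← RingHom.comp_assoc, hat2]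
  obtain ⟨N, H, hH, hH0, hHC⟩ := exists_extend s' C' (pullback.snd X.hom z') (𝟙 _) h e (pullback.lift_snd _ _ _)
    (by rw [pullback.lift_snd, sBX, Category.comp_id]) hw
  let Hf := H ≫ pullback.fst X.hom z'
  have hHf : Hf ≫ X.hom = cB ≫ Spec.map (CommRingCat.ofHom Polynomial.C) ≫ z := by
    rw [Category.assoc, pullback.condition, reassoc_of% hH]
    simp only [z', cB, sBX, Category.comp_id, ← Category.assoc]
    congr 1
    exact spec_sq (hCmap algB').symm
  have hHf0 : Spec.map (CommRingCat.ofHom (at0 B')) ≫ Hf = s0 := by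
    rw [← Category.assoc, hH0, pullback.lift_fst]
  have hHfC : Spec.map (CommRingCat.ofHom (toC C')) ≫ Hf =
      Spec.map (CommRingCat.ofHom (scale (algebraMap B' C' s' ^ N))) ≫ yC := by
    rw [← Category.assoc, hHC, Category.assoc, pullback.lift_fst]
  -- compatibility after scaling
  let Q : Type u := TensorProduct B B' B'
  let C'' : Type u := TensorProduct B Q C
  let l : B' →ₐ[B] Q := Algebra.TensorProduct.includeLeft
  let r : B' →ₐ[B] Q := Algebra.TensorProduct.includeRight
  let jl : C' →+* C'' := (Algebra.TensorProduct.map l (AlgHom.id B C)).toRingHom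
  let jr : C' →+* C'' := (Algebra.TensorProduct.map r (AlgHom.id B C)).toRingHom
  let s'' : Q := algebraMap B Q s
  have : IsLocalization.Away s'' C'' := by
    have := IsLocalization.tensor (S := Q) C (Submonoid.powers s)
    rwa [show Algebra.algebraMapSubmonoid Q (Submonoid.powers s) = Submonoid.powers s'' from
      Submonoid.map_powers (algebraMap B Q) s] at this
  have hjl : ∀ b, jl (algebraMap B' C' b) = algebraMap Q C'' (l b) := fun b => by
    show Algebra.TensorProduct.map l (AlgHom.id B C) (b ⊗ₜ[B] (1 : C)) = l b ⊗ₜ[B] (1 : C)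
    rfl
  have hjr : ∀ b, jr (algebraMap B' C' b) = algebraMap Q C'' (r b) := fun b => by
    show Algebra.TensorProduct.map r (AlgHom.id B C) (b ⊗ₜ[B] (1 : C)) = r b ⊗ₜ[B] (1 : C)
    rfl
  have hjm : jl.comp mC = jr.comp mC := RingHom.ext fun c => by
    show Algebra.TensorProduct.map l (AlgHom.id B C) ((1 : B') ⊗ₜ[B] c) =
      Algebra.TensorProduct.map r (AlgHom.id B C) ((1 : B') ⊗ₜ[B] c)
    rw [Algebra.TensorProduct.map_tmul, Algebra.TensorProduct.map_tmul, map_one, map_one]
  let il := Spec.map (CommRingCat.ofHom (mapRingHom l.toRingHom))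
  let ir := Spec.map (CommRingCat.ofHom (mapRingHom r.toRingHom))
  have hbase : (Spec.map (CommRingCat.ofHom r.toRingHom) ≫ s0) ≫ X.hom =
      (Spec.map (CommRingCat.ofHom l.toRingHom) ≫ s0) ≫ X.hom := by
    rw [Category.assoc, Category.assoc, hs0, ← Category.assoc, ← Category.assoc (Spec.map (CommRingCat.ofHom l.toRingHom))]
    congr 1
    exact spec_sq (RingHom.ext fun b => (r.commutes b).trans (l.commutes b).symm)
  obtain ⟨g0, ⟨hg0, hg0'⟩, -⟩ := existsUnique_gact a ha.1 _ _ hbase
  let CQ := Spec.map (CommRingCat.ofHom (Polynomial.C : Q →+* Q[X]))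
  let gQ := CQ ≫ g0
  have hCl : CQ ≫ Spec.map (CommRingCat.ofHom l.toRingHom) = il ≫ Spec.map (CommRingCat.ofHom (Polynomial.C : B' →+* B'[X])) :=
    spec_sq (hCmap l.toRingHom).symm
  have hCr : CQ ≫ Spec.map (CommRingCat.ofHom r.toRingHom) = ir ≫ Spec.map (CommRingCat.ofHom (Polynomial.C : B' →+* B'[X])) :=
    spec_sq (hCmap r.toRingHom).symm
  have hgQ : gQ ≫ G.hom = ((ir ≫ σB) ≫ X.hom) ≫ q := by
    rw [Category.assoc, hg0]
    simp only [σB, ← Category.assoc, hCr]
  have hgQ' : gact a gQ (ir ≫ σB) hgQ = il ≫ σB := by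
    have := congrArg (CQ ≫ ·) hg0'
    simp only [comp_gact] at this
    refine (gact_congr a rfl ?_).trans (this.trans ?_)
    · simp only [σB]; rw [← Category.assoc, ← hCr, Category.assoc]
    · rw [← Category.assoc, hCl, Category.assoc]
  have hil : il ≫ cB = ir ≫ cB := (isPullback_poly_self (B := B) (B' := B')).w
  have hgQy : gQ ≫ G.hom = ((ir ≫ Hf) ≫ X.hom) ≫ q := by
    rw [hgQ, Category.assoc ir σB, hσB, Category.assoc ir Hf, hHf]
  let y1 := il ≫ Hf
  let y2 := gact a gQ (ir ≫ Hf) hgQy
  let zQ := Spec.map (CommRingCat.ofHom (algebraMap B Q)) ≫ z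
  have hCz : il ≫ cB ≫ Spec.map (CommRingCat.ofHom Polynomial.C) ≫ z = CQ ≫ zQ := by
    have e1 : cB ≫ Spec.map (CommRingCat.ofHom Polynomial.C) =
        Spec.map (CommRingCat.ofHom (Polynomial.C : B' →+* B'[X])) ≫ Spec.map (CommRingCat.ofHom algB') :=
      spec_sq (hCmap algB')
    rw [reassoc_of% e1, ← reassoc_of% hCl, ← Spec.map_comp_assoc (CommRingCat.ofHom algB'), ← CommRingCat.ofHom_comp]
    congr 3
  have hy1 : y1 ≫ X.hom = CQ ≫ zQ := by rw [Category.assoc, hHf, hCz]
  have hy2 : y2 ≫ X.hom = CQ ≫ zQ := by rw [gact_π, Category.assoc, hHf, ← reassoc_of% hil, hCz]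
  let Y1 : Spec (CommRingCat.of Q[X]) ⟶ pullback X.hom zQ := pullback.lift y1 CQ hy1
  let Y2 : Spec (CommRingCat.of Q[X]) ⟶ pullback X.hom zQ := pullback.lift y2 CQ hy2
  have hat0' : ∀ (m : B' →ₐ[B] Q), Spec.map (CommRingCat.ofHom (at0 Q)) ≫ Spec.map (CommRingCat.ofHom (mapRingHom m.toRingHom)) =
      Spec.map (CommRingCat.ofHom m.toRingHom) ≫ Spec.map (CommRingCat.ofHom (at0 B')) :=
    fun m => spec_sq (at0_map m.toRingHom)
  have hat0C : Spec.map (CommRingCat.ofHom (at0 Q)) ≫ CQ = 𝟙 _ := by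
    rw [← Spec.map_comp, ← CommRingCat.ofHom_comp, ← Spec.map_id]
    congr 2
    exact RingHom.ext fun b => coeff_C_zero
  have e0 : Spec.map (CommRingCat.ofHom (at0 Q)) ≫ Y1 = Spec.map (CommRingCat.ofHom (at0 Q)) ≫ Y2 := by
    apply pullback.hom_ext
    · rw [Category.assoc, Category.assoc, pullback.lift_fst, pullback.lift_fst]
      simp only [y1, y2, comp_gact, il, reassoc_of% (hat0' l), hHf0]
      refine hg0'.symm.trans (gact_congr a ?_ ?_)
      · simp only [gQ, ← Category.assoc, hat0C, Category.id_comp]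
      · simp only [ir, reassoc_of% (hat0' r), hHf0]
    · rw [Category.assoc, Category.assoc, pullback.lift_snd, pullback.lift_snd]
  let tQ := Spec.map (CommRingCat.ofHom (toC C'' : Q[X] →+* C''[X]))
  let Jl := Spec.map (CommRingCat.ofHom (R := C'[X]) (S := C''[X]) (mapRingHom jl))
  let Jr := Spec.map (CommRingCat.ofHom (R := C'[X]) (S := C''[X]) (mapRingHom jr))
  have htl : tQ ≫ il = Jl ≫ Spec.map (CommRingCat.ofHom (toC C')) := spec_sq (toC_map l.toRingHom jl hjl)
  have htr : tQ ≫ ir = Jr ≫ Spec.map (CommRingCat.ofHom (toC C')) := spec_sq (toC_map r.toRingHom jr hjr)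
  let sc := Spec.map (CommRingCat.ofHom (scale (algebraMap Q C'' s'' ^ N)))
  have hs'' : ∀ (m : B' →ₐ[B] Q), m s' = s'' := fun m => m.commutes s
  have hscl : Jl ≫ Spec.map (CommRingCat.ofHom (scale (algebraMap B' C' s' ^ N))) = sc ≫ Jl := by
    refine spec_sq ?_
    rw [← scale_map, map_pow, hjl, hs'']
  have hscr : Jr ≫ Spec.map (CommRingCat.ofHom (scale (algebraMap B' C' s' ^ N))) = sc ≫ Jr := by
    refine spec_sq ?_
    rw [← scale_map, map_pow, hjr, hs'']
  have hJc : Jl ≫ cC = Jr ≫ cC := by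
    refine spec_sq ?_
    rw [Polynomial.mapRingHom_comp, Polynomial.mapRingHom_comp, hjm]
  have hscC : sc ≫ tQ ≫ CQ = tQ ≫ CQ := by
    rw [← Spec.map_comp, ← Spec.map_comp, ← CommRingCat.ofHom_comp, ← CommRingCat.ofHom_comp]
    congr 2
    refine RingHom.ext fun b => ?_
    show scale _ ((Polynomial.C b).map _) = (Polynomial.C b).map _
    rw [Polynomial.map_C]
    exact Polynomial.C_comp
  have eC : tQ ≫ Y1 = tQ ≫ Y2 := by
    apply pullback.hom_ext
    · rw [Category.assoc, Category.assoc, pullback.lift_fst, pullback.lift_fst]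
      simp only [y1, y2, comp_gact]
      have h1 : tQ ≫ il ≫ Hf = sc ≫ Jl ≫ yC := by rw [reassoc_of% htl, hHfC, reassoc_of% hscl]
      have h2 : tQ ≫ ir ≫ Hf = sc ≫ Jr ≫ yC := by rw [reassoc_of% htr, hHfC, reassoc_of% hscr]
      have hσ : Jl ≫ σC = tQ ≫ il ≫ σB := by simp only [σC, reassoc_of% htl]
      have hσr : Jr ≫ σC = tQ ≫ ir ≫ σB := by simp only [σC, reassoc_of% htr]
      have hg3 : (tQ ≫ gQ) ≫ G.hom = ((Jr ≫ σC) ≫ X.hom) ≫ q := by
        rw [hσr, Category.assoc, hgQ]; simp only [Category.assoc]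
      have h3 : Jl ≫ σC = gact a (tQ ≫ gQ) (Jr ≫ σC) hg3 := by
        rw [hσ, ← hgQ', comp_gact]
        exact gact_congr a rfl hσr.symm
      have hb : (Jr ≫ σC) ≫ X.hom =
          (Jr ≫ cC) ≫ Spec.map (CommRingCat.ofHom (toC C)) ≫ Spec.map (CommRingCat.ofHom Polynomial.C) ≫ z := by
        rw [Category.assoc, hσC, Category.assoc]
      rw [h1]
      simp only [yC]
      rw [φ.nat Jl, φ.app_congr hJc h3 (h' := by rw [gact_π]; exact hb), φ.equiv _ _ _ hb hg3, comp_gact]
      refine gact_congr a (by simp only [gQ, reassoc_of% hscC]) ?_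
      rw [h2, ← φ.nat Jr]
    · rw [Category.assoc, Category.assoc, pullback.lift_snd, pullback.lift_snd]
  obtain ⟨k, hk⟩ := exists_eq s'' C'' (pullback.snd X.hom zQ) (𝟙 _) Y1 Y2
    (by rw [pullback.lift_snd, sBX, Category.comp_id]) (by rw [pullback.lift_snd, sBX, Category.comp_id]) e0 eC
  have hk' : Spec.map (CommRingCat.ofHom (scale (s'' ^ k))) ≫ y1 = Spec.map (CommRingCat.ofHom (scale (s'' ^ k))) ≫ y2 := by
    have := congrArg (· ≫ pullback.fst X.hom zQ) hk
    rw [Category.assoc, Category.assoc, pullback.lift_fst, pullback.lift_fst] at this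
    exact this
  let y := Spec.map (CommRingCat.ofHom (scale (s' ^ k))) ≫ Hf
  have hsk : Spec.map (CommRingCat.ofHom (scale (s' ^ k))) ≫ Spec.map (CommRingCat.ofHom (Polynomial.C : B' →+* B'[X])) =
      Spec.map (CommRingCat.ofHom (Polynomial.C : B' →+* B'[X])) := by
    rw [← Spec.map_comp, ← CommRingCat.ofHom_comp]
    congr 2
    exact RingHom.ext fun b => Polynomial.C_comp
  have e1 : cB ≫ Spec.map (CommRingCat.ofHom Polynomial.C) =
      Spec.map (CommRingCat.ofHom (Polynomial.C : B' →+* B'[X])) ≫ Spec.map (CommRingCat.ofHom algB') :=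
    spec_sq (hCmap algB')
  have hy : y ≫ X.hom = cB ≫ Spec.map (CommRingCat.ofHom Polynomial.C) ≫ z := by
    rw [Category.assoc, hHf, reassoc_of% e1, reassoc_of% hsk]
  have : Flat cB := flat_poly
  have : Surjective cB := surjective_poly
  have hscσ : Spec.map (CommRingCat.ofHom (scale (s'' ^ k))) ≫ CQ = CQ := by
    rw [← Spec.map_comp, ← CommRingCat.ofHom_comp]
    congr 2
    exact RingHom.ext fun b => Polynomial.C_comp
  have Hc : Compat (a := a) cB σB y hσB hy := by
    intro gam hgam hgam'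
    let L := (isPullback_poly_self (B := B) (B' := B')).isoPullback
    have hL1 : L.hom ≫ pullback.fst cB cB = il := (isPullback_poly_self (B := B) (B' := B')).isoPullback_hom_fst
    have hL2 : L.hom ≫ pullback.snd cB cB = ir := (isPullback_poly_self (B := B) (B' := B')).isoPullback_hom_snd
    rw [← cancel_epi L.hom, comp_gact]
    have e2 : L.hom ≫ gam = gQ := by
      refine (existsUnique_gact a ha.1 (ir ≫ σB) (il ≫ σB) (by rw [← hgQ', gact_π])).unique ⟨?_, ?_⟩ ⟨hgQ, hgQ'⟩
      · rw [Category.assoc, hgam, ← hL2]; simp only [Category.assoc]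
      · have := congrArg (L.hom ≫ ·) hgam'
        simp only [comp_gact] at this
        exact (gact_congr a rfl (by rw [← hL2, Category.assoc])).trans (this.trans (by rw [← Category.assoc, hL1]))
    have hsl : il ≫ Spec.map (CommRingCat.ofHom (scale (s' ^ k))) = Spec.map (CommRingCat.ofHom (scale (s'' ^ k))) ≫ il := by
      refine spec_sq ?_
      rw [← scale_map, map_pow]
      exact congrArg (fun t => (scale (t ^ k)).comp _) (hs'' l)
    have hsr : ir ≫ Spec.map (CommRingCat.ofHom (scale (s' ^ k))) = Spec.map (CommRingCat.ofHom (scale (s'' ^ k))) ≫ ir := by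
      refine spec_sq ?_
      rw [← scale_map, map_pow]
      exact congrArg (fun t => (scale (t ^ k)).comp _) (hs'' r)
    simp only [y, reassoc_of% hL1, reassoc_of% hsl]
    refine Eq.trans ?_ hk'.symm
    simp only [y2, comp_gact]
    exact gact_congr a (by rw [e2]; simp only [gQ, reassoc_of% hscσ]) (by rw [reassoc_of% hL2, reassoc_of% hsr])
  let ψ := Descend.mk ha.1 Hc
  refine ⟨k + N, ψ, ?_⟩
  have hsq : IsPullback (Spec.map (CommRingCat.ofHom (algebraMap B' C'))) (Spec.map (CommRingCat.ofHom mC))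
      (Spec.map (CommRingCat.ofHom algB')) (Spec.map (CommRingCat.ofHom (algebraMap B C))) := by
    refine .of_iso (IsPullback.of_hasPullback _ _) (pullbackSpecIso B B' C) (Iso.refl _) (Iso.refl _) (Iso.refl _)
      ?_ ?_ (by simp [algB']) (by simp)
    · rw [Iso.refl_hom, Category.comp_id]
      exact (pullbackSpecIso_hom_fst B B' C).symm
    · rw [Iso.refl_hom, Category.comp_id]
      exact (pullbackSpecIso_hom_snd B B' C).symm
  have hf1 : Flat (Spec.map (CommRingCat.ofHom mC)) := MorphismProperty.of_isPullback hsq hflat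
  have hf2 : Surjective (Spec.map (CommRingCat.ofHom mC)) := MorphismProperty.of_isPullback hsq hsurj
  have : Flat cC := @flat_poly C C' _ _ mC.toAlgebra hf1
  have : Surjective cC := @surjective_poly C C' _ _ mC.toAlgebra hf2
  let scC := Spec.map (CommRingCat.ofHom (scale (algebraMap B C s ^ (k + N))))
  have hscC' : scC ≫ Spec.map (CommRingCat.ofHom (toC C)) ≫ Spec.map (CommRingCat.ofHom Polynomial.C) ≫ z =
      Spec.map (CommRingCat.ofHom (toC C)) ≫ Spec.map (CommRingCat.ofHom Polynomial.C) ≫ z := by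
    simp only [← Category.assoc]
    congr 1
    rw [← Spec.map_comp, ← Spec.map_comp, ← Spec.map_comp, ← CommRingCat.ofHom_comp, ← CommRingCat.ofHom_comp,
      ← CommRingCat.ofHom_comp]
    congr 2
    refine RingHom.ext fun b => ?_
    show scale _ ((Polynomial.C b).map _) = (Polynomial.C b).map _
    rw [Polynomial.map_C]
    exact Polynomial.C_comp
  have key : ψ.pull (Spec.map (CommRingCat.ofHom (toC C))) _ _ rfl rfl = φ.pull scC _ _ hscC' hscC' := by
    refine hm_ext ha.1 cC σC hσC ?_
    rw [Hm.pull_app, Hm.pull_app]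
    have hval : ψ.app cB σB hσB = y := mk_app_section ha.1 Hc
    refine ((ψ.app_congr htoC.symm rfl (h' := by rw [hσC, htoC]; simp only [Category.assoc])).trans
      ((ψ.nat (Spec.map (CommRingCat.ofHom (toC C'))) cB σB hσB).symm.trans (congrArg _ hval))).trans ?_
    have hsc1 : Spec.map (CommRingCat.ofHom (toC C')) ≫ Spec.map (CommRingCat.ofHom (scale (s' ^ k))) =
        Spec.map (CommRingCat.ofHom (scale (algebraMap B' C' s' ^ k))) ≫ Spec.map (CommRingCat.ofHom (toC C')) := by
      refine spec_sq ?_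
      rw [toC_scale, map_pow]
    have hsc2 : Spec.map (CommRingCat.ofHom (scale (algebraMap B' C' s' ^ k))) ≫
        Spec.map (CommRingCat.ofHom (scale (algebraMap B' C' s' ^ N))) =
        Spec.map (CommRingCat.ofHom (scale (algebraMap B' C' s' ^ (k + N)))) := by
      rw [← Spec.map_comp, ← CommRingCat.ofHom_comp, scale_comp, ← pow_add, add_comm]
    have hsc3 : Spec.map (CommRingCat.ofHom (scale (algebraMap B' C' s' ^ (k + N)))) ≫ cC = cC ≫ scC := by
      refine spec_sq ?_
      rw [← scale_map, map_pow, hmC]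
    simp only [y, reassoc_of% hsc1, hHfC, reassoc_of% hsc2, yC]
    rw [φ.nat]
    refine φ.app_congr hsc3 ?_
    simp only [σC, σB, ← Category.assoc]
    congr 1
    rw [Category.assoc, ← Spec.map_comp, ← Spec.map_comp, ← CommRingCat.ofHom_comp, ← CommRingCat.ofHom_comp]
    congr 2
    refine RingHom.ext fun b => ?_
    show scale _ ((Polynomial.C b).map _) = (Polynomial.C b).map _
    rw [Polynomial.map_C]
    exact Polynomial.C_comp
  intro W w x h₁ h₂
  have h := congrArg (fun f => f.app w x (h₁.trans (Category.assoc _ _ _))) key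
  simp only [Hm.pull_app] at h
  exact h

end Groth.Agent.Lib.TorsorQuillen.Aut
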