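import Groth.Agent.Lib.TorsorQuillen.Patch

/-!
# Quillen patching: descended torsors and families of transition maps
-/

universe u

open CategoryTheory CategoryTheory.Limits MonoidalCategory CartesianMonoidalCategory MonObj GrpObj AlgebraicGeometry

namespace Groth.Agent.Lib.TorsorQuillen.Descends

open Pts Descend Patch

variable {n : Type u} {S : Scheme.{u}} {G : Over S} [GrpObj G] {X : Over 𝔸(n; S)}

/-- The torsor `X` descends along `ρ`. -/
def Descends (a : AlgGrp.Action (Red.bc (𝔸(n; S) ↘ S) G) X) {U : Scheme.{u}} (ρ : U ⟶ S) : Prop :=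
  ∃ P : NonAbH1.TorsorSch (Red.bc ρ G) Scheme.fppfPrecoverage,
    Nonempty (NonAbH1.EquivIso
      ((P.act.bc (pullback.snd (𝔸(n; S) ↘ S) ρ)).restrict
        (ActBC.bcCompIso (pullback.snd (𝔸(n; S) ↘ S) ρ) ρ G rfl).inv)
      ((a.bc (pullback.fst (𝔸(n; S) ↘ S) ρ)).restrict
        (ActBC.bcCompIso (pullback.fst (𝔸(n; S) ↘ S) ρ) (𝔸(n; S) ↘ S) G pullback.condition).inv))

variable {a : AlgGrp.Action (Red.bc (𝔸(n; S) ↘ S) G) X}

theorem inv_equivariant {A : Scheme.{u}} {H Y Y' : Over A} [GrpObj H] {b : AlgGrp.Action H Y}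
    {b' : AlgGrp.Action H Y'} (e : NonAbH1.EquivIso b b') : AlgGrp.Action.IsEquivariant b' b e.iso.inv := by
  show b'.act ≫ e.iso.inv = (H ◁ e.iso.inv) ≫ b.act
  rw [Iso.comp_inv_eq, Category.assoc, e.comm, ← Category.assoc, ← whiskerLeft_comp, e.iso.inv_hom_id,
    whiskerLeft_id, Category.id_comp]

section bpt

variable {A T : Scheme.{u}} {f : T ⟶ A}

theorem bpt_of_hom {Y : Over A} {W : Scheme.{u}} (w : W ⟶ T) (z : Over.mk w ⟶ Red.bc f Y) (h) :
    bpt (f := f) w (z.left ≫ pullback.fst Y.hom f) h = z := by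
  ext1
  apply pullback.hom_ext
  · exact bpt_fst _ _ _
  · exact (Over.w (bpt (f := f) w (z.left ≫ pullback.fst Y.hom f) h)).trans (Over.w z).symm

end bpt

/-- A descended torsor gives transition maps between the fibres. -/
theorem desc_of_descends {U : Scheme.{u}} {ρ : U ⟶ S} (h : Descends a ρ) : Nonempty (Desc a ρ) := by
  obtain ⟨P, ⟨e⟩⟩ := h
  have he : AlgGrp.Action.IsEquivariant _ _ e.iso.hom := e.comm
  let F := ofMor P.act a (f := pullback.snd (𝔸(n; S) ↘ S) ρ) rfl pullback.condition e.iso.hom he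
  let F' := ofMor a P.act (f' := pullback.snd (𝔸(n; S) ↘ S) ρ) pullback.condition rfl e.iso.inv (inv_equivariant e)
  have hFF' : ∀ {W : Scheme.{u}} (w : W ⟶ pullback (𝔸(n; S) ↘ S) ρ) (x : W ⟶ X.left) (hx),
      F.app w (F'.app w x hx) (F'.π w x hx) = x := by
    intro W w x hx
    simp only [F, F', ofMor_app]
    have e1 : bpt (f := pullback.snd (𝔸(n; S) ↘ S) ρ) w
        ((bpt w x hx).left ≫ e.iso.inv.left ≫ pullback.fst P.X.hom _) (F'.π w x hx) = bpt w x hx ≫ e.iso.inv := by
      ext1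
      apply pullback.hom_ext
      · rw [bpt_fst, Over.comp_left, Category.assoc]
      · exact (Over.w (bpt w _ (F'.π w x hx))).trans (Over.w (bpt w x hx ≫ e.iso.inv)).symm
    rw [e1, ← Category.assoc, ← Over.comp_left, Category.assoc, e.iso.inv_hom_id, Category.comp_id, bpt_fst]
  have hF'F : ∀ {W : Scheme.{u}} (w : W ⟶ pullback (𝔸(n; S) ↘ S) ρ) (x : W ⟶ P.X.left) (hx),
      F'.app w (F.app w x hx) (F.π w x hx) = x := by
    intro W w x hx
    simp only [F, F', ofMor_app]
    have e1 : bpt (f := pullback.fst (𝔸(n; S) ↘ S) ρ) w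
        ((bpt w x hx).left ≫ e.iso.hom.left ≫ pullback.fst X.hom _) (F.π w x hx) = bpt w x hx ≫ e.iso.hom := by
      ext1
      apply pullback.hom_ext
      · rw [bpt_fst, Over.comp_left, Category.assoc]
      · exact (Over.w (bpt w _ (F.π w x hx))).trans (Over.w (bpt w x hx ≫ e.iso.hom)).symm
    rw [e1, ← Category.assoc, ← Over.comp_left, Category.assoc, e.iso.hom_inv_id, Category.comp_id, bpt_fst]
  let mp : ∀ {W : Scheme.{u}} (y y' : W ⟶ 𝔸(n; S)) (t : W ⟶ U), y ≫ 𝔸(n; S) ↘ S = t ≫ ρ →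
      y' ≫ 𝔸(n; S) ↘ S = t ≫ ρ → ∀ (x : W ⟶ X.left), x ≫ X.hom = y → (W ⟶ X.left) := fun y y' t h h' x hx =>
    F.app (pullback.lift y' t h') (F'.app (pullback.lift y t h) x (by rw [pullback.lift_fst]; exact hx))
      (by rw [F'.π, pullback.lift_snd, pullback.lift_snd])
  refine ⟨{ map := mp, π := ?_, nat := ?_, equiv := ?_, self := ?_, comp := ?_ }⟩
  · intro W y y' t h h' x hx
    exact (F.π _ _ _).trans (pullback.lift_fst _ _ _)
  · intro W W' b y y' t h h' x hx
    simp only [mp]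
    rw [F.nat]
    refine F.app_congr (by apply pullback.hom_ext <;> simp only [Category.assoc, pullback.lift_fst, pullback.lift_snd]) ((F'.nat _ _ _ _).trans ?_)
    exact F'.app_congr (by apply pullback.hom_ext <;> simp only [Category.assoc, pullback.lift_fst, pullback.lift_snd]) rfl
  · intro W y y' t h h' g x hx hg
    simp only [mp]
    exact (F.app_congr rfl (F'.equiv (pullback.lift y t h) g x (by rw [pullback.lift_fst]; exact hx) hg)).trans
      (F.equiv _ g _ (by rw [F'.π, pullback.lift_snd, pullback.lift_snd]) _)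
  · intro W y t h x hx
    exact hFF' _ _ _
  · intro W y y' y'' t h h' h'' x hx
    simp only [mp]
    exact F.app_congr rfl (hF'F _ _ _)

/-- A single descent gives the family of maps from the fibre at zero to the fibre. -/
theorem hm_of_desc {U : Scheme.{u}} {ρ : U ⟶ S} (Φ : Desc a ρ) {T : Scheme.{u}} (p : T ⟶ 𝔸(n; S)) (tr : T ⟶ U)
    (htr : p ≫ 𝔸(n; S) ↘ S = tr ≫ ρ) : Nonempty (Hm a a (zz p) p) := by
  have hp : ∀ {W : Scheme.{u}} (w : W ⟶ T), (w ≫ p) ≫ 𝔸(n; S) ↘ S = (w ≫ tr) ≫ ρ := fun w => by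
    simp only [Category.assoc, htr]
  refine ⟨{ hq := zz_q p
            app := fun w x h => Φ.map (zz (w ≫ p)) (w ≫ p) (w ≫ tr) (by rw [zz_q]; exact hp w) (hp w) x
              (by rw [h, comp_zz])
            π := fun w x h => Φ.π _ _ _ _ _ _ _
            nat := fun b w x h => ?_
            equiv := fun w g x h hg => Φ.equiv _ _ _ _ _ g x (by rw [h, comp_zz]) hg }⟩
  rw [Φ.nat]
  exact Φ.congr (by simp only [comp_zz, Category.assoc]) (Category.assoc _ _ _).symm (Category.assoc _ _ _).symm rfl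

/-- A family of maps from the fibre at zero to the fibre over `U` gives a descent. -/
theorem descends_of_hm (ha : NonAbH1.IsTorsorFor Scheme.fppfPrecoverage a) {U : Scheme.{u}} (ρ : U ⟶ S)
    (H : Hm a a (zz (pullback.fst (𝔸(n; S) ↘ S) ρ)) (pullback.fst (𝔸(n; S) ↘ S) ρ)) : Descends a ρ := by
  let q := 𝔸(n; S) ↘ S
  let z : U ⟶ 𝔸(n; S) := ρ ≫ zer
  have hz : z ≫ q = ρ := by simp only [z, q, Category.assoc, zer_q, Category.comp_id]
  haveI : IsMonHom (ActBC.bcCompIso z q G hz).symm.hom := inferInstanceAs (IsMonHom (ActBC.bcCompIso z q G hz).inv)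
  let a₀ : AlgGrp.Action (Red.bc ρ G) (Red.bc z X) := (a.bc z).restrict (ActBC.bcCompIso z q G hz).inv
  have ha₀ : NonAbH1.IsTorsorFor Scheme.fppfPrecoverage a₀ :=
    ⟨isPseudoTorsorSch_restrict (ActBC.bcCompIso z q G hz).symm (NonAbH1.isPseudoTorsorSch_bc z ha.1),
      NonAbH1.isLocallyTrivialFor_bc z _ ha.2⟩
  refine ⟨⟨Red.bc z X, a₀, ha₀⟩, ?_⟩
  let fT := pullback.fst q ρ
  let sT := pullback.snd q ρ
  have hpts : ∀ {W : Scheme.{u}} (w : W ⟶ pullback q ρ) (x : W ⟶ pullback X.hom z),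
      x ≫ pullback.snd X.hom z = w ≫ sT → (x ≫ pullback.fst X.hom z) ≫ X.hom = w ≫ zz fT := by
    intro W w x h
    rw [Category.assoc, pullback.condition, ← Category.assoc, h]
    simp only [zz, z, fT, sT, q, Category.assoc, pullback.condition_assoc]
  let F : Hm a₀ a sT fT :=
    { hq := pullback.condition.symm
      app := fun w x h => H.app w (x ≫ pullback.fst X.hom z) (hpts w x h)
      π := fun w x h => H.π _ _ _
      nat := fun b w x h => (H.nat b w _ _).trans (H.app_congr rfl (Category.assoc _ _ _).symm)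
      equiv := fun {W} w g x h hg => by
        have e : gact a₀ g x hg ≫ pullback.fst X.hom z = gact a g (x ≫ pullback.fst X.hom z) (by
            rw [hg]
            simp only [Category.assoc, Red.bc, pullback.condition_assoc, ← hz]
            rfl) := by
          have h1 := bc_restrict_act a z hz (gpt (q := ρ) g (x ≫ (Red.bc z X).hom) hg)
            (Over.homMk (U := Over.mk (x ≫ (Red.bc z X).hom)) x rfl)
          exact h1.trans (gact_congr a (gpt_fst _ _ _) rfl)
        exact (H.app_congr rfl e).trans (H.equiv w g _ (hpts w x h) _) }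
  let φ := toMor a₀ a F
  have hφ := isEquivariant_toMor a₀ a (d := sT ≫ ρ) rfl pullback.condition F
  haveI : IsMonHom (ActBC.bcCompIso sT ρ G rfl).symm.hom := inferInstanceAs (IsMonHom (ActBC.bcCompIso sT ρ G rfl).inv)
  haveI : IsMonHom (ActBC.bcCompIso fT q G pullback.condition).symm.hom :=
    inferInstanceAs (IsMonHom (ActBC.bcCompIso fT q G pullback.condition).inv)
  have hsrc : NonAbH1.IsTorsorFor Scheme.fpqcPrecoverage
      ((a₀.bc sT).restrict (ActBC.bcCompIso sT ρ G rfl).inv) :=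
    Groth.Agent.Lib.TorsorSch.Descent.isTorsorFor_mono Scheme.fppfPrecoverage_le_fpqcPrecoverage
      ⟨isPseudoTorsorSch_restrict (ActBC.bcCompIso sT ρ G rfl).symm (NonAbH1.isPseudoTorsorSch_bc sT ha₀.1),
        NonAbH1.isLocallyTrivialFor_bc sT _ ha₀.2⟩
  have htgt : NonAbH1.IsPseudoTorsorSch ((a.bc fT).restrict (ActBC.bcCompIso fT q G pullback.condition).inv) :=
    isPseudoTorsorSch_restrict (ActBC.bcCompIso fT q G pullback.condition).symm (NonAbH1.isPseudoTorsorSch_bc fT ha.1)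
  haveI : IsIso φ := Groth.Agent.Lib.TorsorSch.Basic.isIso_of_isEquivariant hsrc htgt φ hφ
  exact ⟨⟨asIso φ, hφ⟩⟩

end Groth.Agent.Lib.TorsorQuillen.Descends
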