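import Mathlib
import Groth.Agent.Lib.Ferrand.Spec

/-!
# Quillen patching: extending morphisms from a localisation after scaling the variable

`Spec` of the union of the rings `B[X] → B[X]`, `X ↦ sX`, is the pushout of `Spec B` and
`Spec C[X]` over `Spec C`, where `C = B[1/s]`; a scheme locally of finite presentation turns
this colimit into a colimit.
-/

universe u

open CategoryTheory Limits AlgebraicGeometry Opposite Polynomial

namespace Groth.Agent.Lib.TorsorQuillen.Extend

variable {B : Type u} [CommRing B]

/-- Scaling of the variable. -/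
noncomputable abbrev scale {A : Type u} [CommRing A] (a : A) : A[X] →+* A[X] :=
  compRingHom (Polynomial.C a * Polynomial.X)

theorem coeff_scale {A : Type u} [CommRing A] (a : A) (p : A[X]) (i : ℕ) :
    (scale a p).coeff i = p.coeff i * a ^ i :=
  comp_C_mul_X_coeff

theorem scale_comp {A : Type u} [CommRing A] (a b : A) :
    (scale b).comp (scale a) = scale (a * b) := by
  refine RingHom.ext fun p => Polynomial.ext fun i => ?_
  rw [RingHom.comp_apply, coeff_scale, coeff_scale, coeff_scale, mul_assoc, ← mul_pow]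

theorem scale_one {A : Type u} [CommRing A] : scale (1 : A) = RingHom.id _ :=
  RingHom.ext fun p => Polynomial.ext fun i => by rw [coeff_scale, one_pow, mul_one]; rfl

/-- Evaluation at zero. -/
noncomputable abbrev at0 (A : Type u) [CommRing A] : A[X] →+* A := constantCoeff

variable (s : B) (C : Type u) [CommRing C] [Algebra B C] [IsLocalization.Away s C]

/-- The map to the polynomials over the localisation. -/
noncomputable abbrev toC : B[X] →+* C[X] := mapRingHom (algebraMap B C)

omit [IsLocalization.Away s C] in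
theorem toC_scale (b : B) : (toC C).comp (scale b) = (scale (algebraMap B C b)).comp (toC C) := by
  refine RingHom.ext fun p => Polynomial.ext fun i => ?_
  rw [RingHom.comp_apply, RingHom.comp_apply]
  show ((scale b p).map _).coeff i = _
  rw [coeff_map, coeff_scale, coeff_scale, map_mul, map_pow]
  show _ = (p.map _).coeff i * _
  rw [coeff_map]

/-- The fibre product of `B` and `C[X]` over `C`. -/
noncomputable def sqRing : Subring (B × C[X]) :=
  RingHom.eqLocus ((algebraMap B C).comp (RingHom.fst B C[X])) ((at0 C).comp (RingHom.snd B C[X]))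

/-- The inverse of `s` in `C`. -/
noncomputable abbrev u : C := IsLocalization.Away.invSelf (S := C) s

theorem s_mul_u : algebraMap B C s * u s C = 1 := IsLocalization.Away.mul_invSelf s

/-- The map of the `N`-th stage to the fibre product. -/
noncomputable def stage (N : ℕ) : B[X] →+* sqRing (B := B) C :=
  ((at0 B).prod ((scale (u s C ^ N)).comp (toC C))).codRestrict _ fun p => by
    show algebraMap B C (p.coeff 0) = (scale (u s C ^ N) (p.map (algebraMap B C))).coeff 0
    rw [coeff_scale, pow_zero, mul_one, coeff_map]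

theorem stage_comp_scale (N : ℕ) : (stage s C (N + 1)).comp (scale s) = stage s C N := by
  refine RingHom.ext fun p => Subtype.ext (Prod.ext ?_ ?_)
  · show (scale s p).coeff 0 = p.coeff 0
    rw [coeff_scale, pow_zero, mul_one]
  · show scale (u s C ^ (N + 1)) (toC C (scale s p)) = scale (u s C ^ N) (toC C p)
    rw [show toC C (scale s p) = scale (algebraMap B C s) (toC C p) from congr($(toC_scale C s) p),
      ← RingHom.comp_apply, scale_comp, pow_succ', ← mul_assoc, s_mul_u, one_mul]

/-- The sequence `B[X] → B[X]`, `X ↦ sX`. -/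
noncomputable def diag : ℕ ⥤ CommRingCat.{u} :=
  Functor.ofSequence (X := fun _ => CommRingCat.of B[X]) fun _ => CommRingCat.ofHom (scale s)

theorem diag_map (i j : ℕ) (h : i ≤ j) :
    (diag s).map (homOfLE h) = CommRingCat.ofHom (scale (s ^ (j - i))) := by
  obtain ⟨k, rfl⟩ := Nat.exists_eq_add_of_le h
  induction k with
  | zero =>
    rw [show homOfLE h = 𝟙 i from rfl, CategoryTheory.Functor.map_id, Nat.add_sub_cancel_left, pow_zero, scale_one]
    rfl
  | succ k ih =>
    rw [← homOfLE_comp (Nat.le_add_right i k) (Nat.le_succ (i + k)), Functor.map_comp, ih,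
      show (diag s).map (homOfLE (Nat.le_succ (i + k))) = CommRingCat.ofHom (scale s) from
        Functor.ofSequence_map_homOfLE_succ (fun _ => CommRingCat.ofHom (scale s)) (i + k)]
    refine (CommRingCat.ofHom_comp _ _).symm.trans (congrArg CommRingCat.ofHom ?_)
    rw [scale_comp, ← pow_succ, Nat.add_sub_cancel_left, Nat.add_sub_cancel_left]

/-- The sequence, indexed in the universe of the rings. -/
noncomputable def diagU : ULift.{u} ℕ ⥤ CommRingCat.{u} :=
  Monotone.functor (f := ULift.down) (fun _ _ h => h) ⋙ diag s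

theorem diagU_map {i j : ULift.{u} ℕ} (φ : i ⟶ j) :
    (diagU s).map φ = CommRingCat.ofHom (scale (s ^ (j.down - i.down))) :=
  diag_map s i.down j.down (show i ≤ j from leOfHom φ)

/-- The cocone on the fibre product. -/
noncomputable def cocone : Cocone (diagU s) where
  pt := CommRingCat.of (sqRing (B := B) C)
  ι :=
    { app := fun N => CommRingCat.ofHom (stage s C N.down)
      naturality := fun i j φ => by
        rw [diagU_map]
        refine ((CommRingCat.ofHom_comp _ _).symm.trans (congrArg CommRingCat.ofHom ?_)).trans (Category.comp_id _).symm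
        obtain ⟨k, hk⟩ := Nat.exists_eq_add_of_le (show i.down ≤ j.down from (show i ≤ j from leOfHom φ))
        rw [hk, Nat.add_sub_cancel_left]
        clear hk
        induction k with
        | zero => rw [pow_zero, scale_one, RingHom.comp_id, Nat.add_zero]
        | succ k ih =>
          rw [pow_succ, ← scale_comp, ← RingHom.comp_assoc,
            show i.down + (k + 1) = i.down + k + 1 from rfl, stage_comp_scale, ih] }

/-- The fibre product is the colimit. -/
noncomputable def isColimit : IsColimit (cocone s C) := by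
  classical
  haveI : ReflectsColimit (diagU s) (forget CommRingCat.{u}) := reflectsColimit_of_reflectsIsomorphisms _ _
  refine isColimitOfReflects (forget CommRingCat) (Types.FilteredColimit.isColimitOf' _ _ ?_ ?_)
  · rintro ⟨⟨b, q⟩, hbq⟩
    change algebraMap B C b = q.coeff 0 at hbq
    obtain ⟨⟨_, m, rfl⟩, hm⟩ := IsLocalization.exist_integer_multiples_of_finset (Submonoid.powers s)
      (q.support.image q.coeff)
    have hd : ∀ i, ∃ d : B, algebraMap B C d = algebraMap B C (s ^ m) * q.coeff i := by
      intro i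
      by_cases hi : i ∈ q.support
      · obtain ⟨d, hd⟩ := hm _ (Finset.mem_image_of_mem _ hi)
        exact ⟨d, hd.trans (Algebra.smul_def _ _)⟩
      · exact ⟨0, by rw [notMem_support_iff.1 hi, mul_zero, map_zero]⟩
    choose d hd using hd
    let p : B[X] := Polynomial.C b + ∑ i ∈ q.support.erase 0, monomial i (d i * s ^ (m * (i - 1)))
    refine ⟨⟨m⟩, p, Subtype.ext (Prod.ext ?_ ?_)⟩
    · show b = p.coeff 0
      simp [p, coeff_monomial]
    · show q = scale (u s C ^ m) (p.map (algebraMap B C))
      refine Polynomial.ext fun i => ?_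
      rw [coeff_scale, coeff_map]
      rcases eq_or_ne i 0 with rfl | hi
      · rw [pow_zero, mul_one, ← hbq]
        simp [p, coeff_monomial]
      · have hp : p.coeff i = if i ∈ q.support.erase 0 then d i * s ^ (m * (i - 1)) else 0 := by
          rw [show p.coeff i = _ from coeff_add _ _ i, coeff_C, if_neg hi, zero_add, finsetSum_coeff]
          simp only [coeff_monomial, Finset.sum_ite_eq']
        rw [hp]
        split_ifs with hmem
        · rw [map_mul, hd, map_pow, map_pow]
          obtain ⟨j, rfl⟩ := Nat.exists_eq_succ_of_ne_zero hi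
          rw [Nat.succ_sub_one, Nat.succ_eq_add_one]
          have : algebraMap B C s ^ m * algebraMap B C s ^ (m * j) * (u s C ^ m) ^ (j + 1) = 1 := by
            rw [← pow_add, ← pow_mul, show m + m * j = m * (j + 1) by ring, ← mul_pow, s_mul_u, one_pow]
          linear_combination (-q.coeff (j + 1)) * this
        · have : q.coeff i = 0 := by
            by_contra h0
            exact hmem (Finset.mem_erase.2 ⟨hi, mem_support_iff.2 h0⟩)
          rw [this, map_zero, zero_mul]
  · rintro ⟨i⟩ x y hxy
    have hxy' : stage s C i x = stage s C i y := hxy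
    have h0 : x.coeff 0 = y.coeff 0 := congrArg (fun z => z.1.1) hxy'
    have hn : ∀ n, ∃ k, s ^ k * x.coeff n = s ^ k * y.coeff n := by
      intro n
      have h1 : scale (u s C ^ i) (x.map (algebraMap B C)) = scale (u s C ^ i) (y.map (algebraMap B C)) :=
        congrArg (fun z => z.1.2) hxy'
      have h2 := congrArg (fun z : C[X] => z.coeff n) h1
      simp only [coeff_scale, coeff_map] at h2
      have hu : IsUnit ((u s C ^ i) ^ n) := ((IsUnit.of_mul_eq_one_right _ (s_mul_u s C)).pow i).pow n
      obtain ⟨⟨_, k, rfl⟩, hk⟩ := (IsLocalization.eq_iff_exists (Submonoid.powers s) C).1 (hu.mul_left_inj.1 h2)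
      exact ⟨k, hk⟩
    choose k hk using hn
    let K := (x.support ∪ y.support).sup k
    let φ : (⟨i⟩ : ULift.{u} ℕ) ⟶ ⟨i + K⟩ := homOfLE (Nat.le_add_right i K)
    refine ⟨⟨i + K⟩, φ, ?_⟩
    show ((diagU s).map φ).hom x = ((diagU s).map φ).hom y
    rw [diagU_map, Nat.add_sub_cancel_left]
    refine Polynomial.ext fun n => ?_
    show (scale (s ^ K) x).coeff n = (scale (s ^ K) y).coeff n
    rw [coeff_scale, coeff_scale]
    rcases Nat.eq_zero_or_pos n with rfl | hn
    · rw [h0]
    by_cases hmem : n ∈ x.support ∪ y.support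
    · have hle : k n ≤ K * n := (Finset.le_sup hmem).trans (Nat.le_mul_of_pos_right K hn)
      rw [← pow_mul, ← Nat.add_sub_cancel' hle, pow_add]
      linear_combination (s ^ (K * n - k n)) * hk n
    · simp only [Finset.mem_union, mem_support_iff, not_or, not_not] at hmem
      rw [hmem.1, hmem.2]

/-- The system of affine schemes. -/
noncomputable def specDiag : (ULift.{u} ℕ)ᵒᵖ ⥤ Scheme.{u} := (diagU s).op ⋙ Scheme.Spec

/-- The cone on the spectrum of the fibre product. -/
noncomputable def cone : Cone (specDiag s) := Scheme.Spec.mapCone (cocone s C).op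

noncomputable def isLimit : IsLimit (cone s C) := isLimitOfPreserves Scheme.Spec (isColimit s C).op

/-- The fibre product square. -/
theorem isPushout :
    IsPushout (Spec.map (CommRingCat.ofHom (at0 C))) (Spec.map (CommRingCat.ofHom (algebraMap B C)))
      (Spec.map (CommRingCat.ofHom ((RingHom.snd B C[X]).comp (sqRing (B := B) C).subtype)))
      (Spec.map (CommRingCat.ofHom ((RingHom.fst B C[X]).comp (sqRing (B := B) C).subtype))) := by
  refine (Groth.Agent.Lib.Ferrand.affSq_Spec ?_ ?_).isLocPushout.isPushout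
  · ext x
    exact x.2
  · refine ⟨fun x => x.2, fun c => ⟨Polynomial.C c, coeff_C_zero⟩, fun x y h₁ h₂ => Subtype.ext (Prod.ext h₁ h₂),
      fun b a h => ⟨⟨(b, a), h⟩, rfl, rfl⟩⟩

variable {S Z : Scheme.{u}} (f : Z ⟶ S) (sB : Spec (CommRingCat.of B) ⟶ S)

/-- The structure map of the polynomial ring over the base. -/
noncomputable abbrev sBX : Spec (CommRingCat.of B[X]) ⟶ S :=
  Spec.map (CommRingCat.ofHom Polynomial.C) ≫ sB

theorem scale_sBX (b : B) : Spec.map (CommRingCat.ofHom (scale b)) ≫ sBX sB = sBX sB := by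
  rw [← Spec.map_comp_assoc, ← CommRingCat.ofHom_comp]
  congr 3
  exact RingHom.ext fun b => Polynomial.C_comp

/-- The structure maps of the system. -/
noncomputable def structNat : specDiag s ⟶ (Functor.const (ULift.{u} ℕ)ᵒᵖ).obj S where
  app _ := sBX sB
  naturality := by
    rintro ⟨j⟩ ⟨i⟩ ⟨φ⟩
    show Spec.map ((diagU s).map φ) ≫ sBX sB = sBX sB ≫ 𝟙 _
    rw [diagU_map, Category.comp_id]
    exact scale_sBX sB _

theorem snd_stage (N : ℕ) :
    ((RingHom.snd B C[X]).comp (sqRing (B := B) C).subtype).comp (stage s C N) = (scale (u s C ^ N)).comp (toC C) :=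
  rfl

theorem fst_stage (N : ℕ) :
    ((RingHom.fst B C[X]).comp (sqRing (B := B) C).subtype).comp (stage s C N) = at0 B :=
  rfl

/-- **Extension**: a point over `C[X]` whose value at `0` comes from `B` comes from `B[X]`
after scaling the variable by a power of `s`. -/
theorem exists_extend [LocallyOfFinitePresentation f] (h : Spec (CommRingCat.of C[X]) ⟶ Z)
    (e : Spec (CommRingCat.of B) ⟶ Z) (he : e ≫ f = sB)
    (hh : h ≫ f = Spec.map (CommRingCat.ofHom (toC C)) ≫ sBX sB)
    (w : Spec.map (CommRingCat.ofHom (at0 C)) ≫ h = Spec.map (CommRingCat.ofHom (algebraMap B C)) ≫ e) :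
    ∃ (N : ℕ) (H : Spec (CommRingCat.of B[X]) ⟶ Z), H ≫ f = sBX sB ∧
      Spec.map (CommRingCat.ofHom (at0 B)) ≫ H = e ∧
      Spec.map (CommRingCat.ofHom (toC C)) ≫ H =
        Spec.map (CommRingCat.ofHom (scale (algebraMap B C s ^ N))) ≫ h := by
  let G := (isPushout C).desc h e w
  have hconst : ∀ N, CommRingCat.ofHom (stage s C N) = (cocone s C).ι.app N := fun N => rfl
  have hG : (cone s C).π ≫ structNat s sB = (Functor.const _).map (G ≫ f) := by
    ext ⟨⟨N⟩⟩
    show Spec.map (CommRingCat.ofHom (stage s C N)) ≫ sBX sB = G ≫ f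
    apply (isPushout C).hom_ext
    · rw [IsPushout.inl_desc_assoc, hh, ← Spec.map_comp_assoc, ← Spec.map_comp_assoc, ← Spec.map_comp_assoc,
        ← CommRingCat.ofHom_comp, ← CommRingCat.ofHom_comp, ← CommRingCat.ofHom_comp, snd_stage]
      congr 3
      refine RingHom.ext fun b => ?_
      show scale _ ((Polynomial.C b).map _) = (Polynomial.C b).map _
      rw [Polynomial.map_C]
      exact Polynomial.C_comp
    · rw [IsPushout.inr_desc_assoc, he, ← Spec.map_comp_assoc, ← Spec.map_comp_assoc,
        ← CommRingCat.ofHom_comp, ← CommRingCat.ofHom_comp, fst_stage]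
      have : (at0 B).comp Polynomial.C = RingHom.id B := RingHom.ext fun b => coeff_C_zero
      rw [this, CommRingCat.ofHom_id, Spec.map_id, Category.id_comp]
  haveI : ∀ i, CompactSpace ((specDiag s).obj i) := fun i => inferInstanceAs (CompactSpace (Spec ((diagU s).obj i.unop)))
  haveI : ∀ i, QuasiSeparatedSpace ((specDiag s).obj i) := fun i => inferInstanceAs (QuasiSeparatedSpace (Spec ((diagU s).obj i.unop)))
  haveI : ∀ {i j} (φ : i ⟶ j), IsAffineHom ((specDiag s).map φ) := fun φ => inferInstanceAs (IsAffineHom (Spec.map _))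
  obtain ⟨⟨⟨N⟩⟩, H, hH, hHf⟩ := Scheme.exists_π_app_comp_eq_of_locallyOfFinitePresentation
    (specDiag s) (structNat s sB) f (cone s C) (isLimit s C) G hG
  refine ⟨N, H, hHf, ?_, ?_⟩
  · have h1 : Spec.map (CommRingCat.ofHom ((RingHom.fst B C[X]).comp (sqRing (B := B) C).subtype)) ≫
        Spec.map (CommRingCat.ofHom (stage s C N)) ≫ H = e := by
      refine (congrArg (_ ≫ ·) hH).trans ?_
      exact IsPushout.inr_desc _ _ _ _
    rwa [← Spec.map_comp_assoc, ← CommRingCat.ofHom_comp, fst_stage] at h1
  have h1 := congrArg (Spec.map (CommRingCat.ofHom ((RingHom.snd B C[X]).comp (sqRing (B := B) C).subtype)) ≫ ·) hH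
  change _ = _ at h1
  simp only [G, IsPushout.inl_desc] at h1
  have h2 : Spec.map (CommRingCat.ofHom ((scale (u s C ^ N)).comp (toC C))) ≫ H = h := by
    rw [← snd_stage, CommRingCat.ofHom_comp, Spec.map_comp, Category.assoc]
    exact h1
  clear h1
  rename _ => h1
  rw [← h1, ← Spec.map_comp_assoc, ← CommRingCat.ofHom_comp, ← RingHom.comp_assoc, scale_comp,
    ← mul_pow, mul_comm (u s C), s_mul_u, one_pow, scale_one, RingHom.id_comp]

/-- **Injectivity**: two points over `B[X]` which agree at `0` and over `C[X]` agree after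
scaling the variable by a power of `s`. -/
theorem exists_eq [LocallyOfFiniteType f] (H₁ H₂ : Spec (CommRingCat.of B[X]) ⟶ Z)
    (h₁ : H₁ ≫ f = sBX sB) (h₂ : H₂ ≫ f = sBX sB)
    (h0 : Spec.map (CommRingCat.ofHom (at0 B)) ≫ H₁ = Spec.map (CommRingCat.ofHom (at0 B)) ≫ H₂)
    (hC : Spec.map (CommRingCat.ofHom (toC C)) ≫ H₁ = Spec.map (CommRingCat.ofHom (toC C)) ≫ H₂) :
    ∃ k : ℕ, Spec.map (CommRingCat.ofHom (scale (s ^ k))) ≫ H₁ =
      Spec.map (CommRingCat.ofHom (scale (s ^ k))) ≫ H₂ := by
  haveI : ∀ i, CompactSpace ((specDiag s).obj i) := fun i => inferInstanceAs (CompactSpace (Spec ((diagU s).obj i.unop)))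
  haveI : ∀ i, QuasiSeparatedSpace ((specDiag s).obj i) := fun i => inferInstanceAs (QuasiSeparatedSpace (Spec ((diagU s).obj i.unop)))
  haveI : ∀ {i j} (φ : i ⟶ j), IsAffineHom ((specDiag s).map φ) := fun φ => inferInstanceAs (IsAffineHom (Spec.map _))
  have hab : (cone s C).π.app (op ⟨0⟩) ≫ H₁ = (cone s C).π.app (op ⟨0⟩) ≫ H₂ := by
    show Spec.map (CommRingCat.ofHom (stage s C 0)) ≫ H₁ = Spec.map (CommRingCat.ofHom (stage s C 0)) ≫ H₂
    apply (isPushout C).hom_ext
    · rw [← Spec.map_comp_assoc, ← CommRingCat.ofHom_comp, snd_stage, pow_zero, scale_one, RingHom.id_comp,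
        ← Spec.map_comp_assoc, ← CommRingCat.ofHom_comp, snd_stage, pow_zero, scale_one, RingHom.id_comp]
      exact hC
    · rw [← Spec.map_comp_assoc, ← CommRingCat.ofHom_comp, fst_stage,
        ← Spec.map_comp_assoc, ← CommRingCat.ofHom_comp, fst_stage]
      exact h0
  obtain ⟨⟨⟨k⟩⟩, φ, hφ⟩ := Scheme.exists_hom_comp_eq_comp_of_locallyOfFiniteType (specDiag s) (structNat s sB) f
    (cone s C) (isLimit s C) (i := op ⟨0⟩) H₁ H₂ h₁.symm h₂.symm hab
  refine ⟨k, ?_⟩
  have hm : (specDiag s).map φ = Spec.map (CommRingCat.ofHom (scale (s ^ k))) := by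
    show Spec.map ((diagU s).map φ.unop) = _
    rw [diagU_map]
    rfl
  rwa [hm] at hφ

end Groth.Agent.Lib.TorsorQuillen.Extend
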