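import Groth.Agent.Lib.TorsorQuillen.Pts
import Groth.Agent.Lib.TorsorQuillen.Descend

/-!
# Gluing two torsors along an isomorphism over the overlap of two open subschemes
-/

universe u

open CategoryTheory CategoryTheory.Limits MonoidalCategory CartesianMonoidalCategory MonObj GrpObj AlgebraicGeometry

namespace Groth.Agent.Lib.TorsorQuillen.Glue

open Pts Descend

variable {S A : Scheme.{u}} {q : A ⟶ S} {G : Over S} [GrpObj G] {M N : Over A}
  {a : AlgGrp.Action (Red.bc q G) M} {b : AlgGrp.Action (Red.bc q G) N}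

section secs

variable (ha : NonAbH1.IsPseudoTorsorSch a) (hb : NonAbH1.IsPseudoTorsorSch b) {T : Scheme.{u}} {c : T ⟶ A}
  (σ : T ⟶ M.left) (hσ : σ ≫ M.hom = c) (τ : T ⟶ N.left) (hτ : τ ≫ N.hom = c)

include ha hσ in
theorem secGamma_exists {W : Scheme.{u}} (w : W ⟶ T) (x : W ⟶ M.left) (h : x ≫ M.hom = w ≫ c) :
    ∃! g : W ⟶ G.left, ∃ hg, gact a g (w ≫ σ) hg = x :=
  existsUnique_gact a ha _ _ (by rw [Category.assoc, hσ, h])

/-- The product of two points of the group only depends on the point of the base. -/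
theorem gmul_eq_of_base {W : Scheme.{u}} (β β' : W ⟶ A) (g g' : W ⟶ G.left) (h : g ≫ G.hom = β ≫ q)
    (h' : g' ≫ G.hom = β ≫ q) (h₁ : g ≫ G.hom = β' ≫ q) (h₁' : g' ≫ G.hom = β' ≫ q) :
    gmul β g g' h h' = gmul β' g g' h₁ h₁' := by
  have key : ∀ (β : W ⟶ A) (h : g ≫ G.hom = β ≫ q) (h' : g' ≫ G.hom = β ≫ q),
      gmul β g g' h h' = (Over.homMk (U := Over.mk (g ≫ G.hom)) g rfl *
        (Over.homMk g' (h'.trans h.symm) : Over.mk (g ≫ G.hom) ⟶ G)).left := by
    intro β h h'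
    obtain ⟨g₀, hg₀⟩ : ∃ g₀, (Over.mapPullbackAdj q).homEquiv (Over.mk β) G g₀ = gpt g β h :=
      ⟨_, Equiv.apply_symm_apply _ _⟩
    obtain ⟨g₁, hg₁⟩ : ∃ g₁, (Over.mapPullbackAdj q).homEquiv (Over.mk β) G g₁ = gpt g' β h' :=
      ⟨_, Equiv.apply_symm_apply _ _⟩
    have e₀ : g₀.left = g := by rw [← gpt_fst g β h, ← hg₀, homEquiv_left_fst]
    have e₁ : g₁.left = g' := by rw [← gpt_fst g' β h', ← hg₁, homEquiv_left_fst]
    have hm : gpt g β h * gpt g' β h' = (Over.mapPullbackAdj q).homEquiv (Over.mk β) G (g₀ * g₁) := by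
      rw [← hg₀, ← hg₁, AlgGrp.Action.homEquiv_mul]
    rw [gmul, hm, homEquiv_left_fst]
    let c : (Over.map q).obj (Over.mk β) ⟶ Over.mk (g ≫ G.hom) :=
      Over.homMk (𝟙 W) (by simp [h])
    have : g₀ * g₁ = c ≫ (Over.homMk (U := Over.mk (g ≫ G.hom)) g rfl *
        (Over.homMk g' (h'.trans h.symm) : Over.mk (g ≫ G.hom) ⟶ G)) := by
      rw [comp_mul]
      congr 1
      · ext1; simp [c, e₀]
      · ext1; simp [c, e₁]
    rw [this, Over.comp_left]
    exact Category.id_comp _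
  rw [key β h h', key β' h₁ h₁']

omit hσ hτ in
include ha in
/-- Two sections give a family of equivariant maps of fibres. -/
theorem exists_hm_map {c' : T ⟶ A} (hcc' : c ≫ q = c' ≫ q) (hσ : σ ≫ M.hom = c) (hτ : τ ≫ N.hom = c') :
    ∃ f : Hm a b c c', ∀ {W : Scheme.{u}} (w : W ⟶ T) (x : W ⟶ M.left) (h : x ≫ M.hom = w ≫ c) (g : W ⟶ G.left) (hg)
      (hg'), gact a g (w ≫ σ) hg = x → f.app w x h = gact b g (w ≫ τ) hg' := by
  have hst : ∀ {W : Scheme.{u}} (w : W ⟶ T), ((w ≫ σ) ≫ M.hom) ≫ q = ((w ≫ τ) ≫ N.hom) ≫ q := fun w => by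
    simp only [Category.assoc, reassoc_of% hσ, reassoc_of% hτ, hcc']
  choose gam hg hgam using fun (W : Scheme.{u}) (w : W ⟶ T) (x : W ⟶ M.left) (h : x ≫ M.hom = w ≫ c) =>
    (secGamma_exists ha σ hσ w x h).exists
  have huniq : ∀ {W : Scheme.{u}} (w : W ⟶ T) (x : W ⟶ M.left) (h : x ≫ M.hom = w ≫ c) (g : W ⟶ G.left) (hg),
      gact a g (w ≫ σ) hg = x → gam W w x h = g := fun w x h g hg' e =>
    (secGamma_exists ha σ hσ w x h).unique ⟨hg _ w x h, hgam _ w x h⟩ ⟨hg', e⟩
  refine ⟨{ hq := hcc'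
            app := fun w x h => gact b (gam _ w x h) (w ≫ τ) ((hg _ w x h).trans (hst w))
            π := fun w x h => by rw [gact_π, Category.assoc, hτ]
            nat := fun {W W'} k w x h => ?_
            equiv := fun {W} w g x h hgg => ?_ }, fun w x h g hg₁ hg' e => gact_congr b (huniq w x h g hg₁ e) rfl⟩
  · rw [comp_gact]
    refine gact_congr b (huniq (k ≫ w) (k ≫ x) (by rw [Category.assoc, h, Category.assoc]) _ ?_ ?_).symm
      (Category.assoc _ _ _).symm
    · rw [Category.assoc, hg]; simp only [Category.assoc]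
    · have := congrArg (k ≫ ·) (hgam _ w x h)
      simp only [comp_gact] at this
      exact (gact_congr a rfl (Category.assoc _ _ _)).trans this
  · have hbM : (w ≫ σ) ≫ M.hom = w ≫ c := by rw [Category.assoc, hσ]
    have hbN : (w ≫ τ) ≫ N.hom = w ≫ c' := by rw [Category.assoc, hτ]
    have hbq : (w ≫ c) ≫ q = (w ≫ c') ≫ q := by simp only [Category.assoc, hcc']
    have h1 : g ≫ G.hom = (w ≫ c) ≫ q := by rw [hgg, h]
    have h2 : gam W w x h ≫ G.hom = (w ≫ c) ≫ q := by rw [hg, hbM]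
    have e : gact a (gmul (w ≫ c) g (gam W w x h) h1 h2) (w ≫ σ) (by rw [gmul_hom, hbM]) = gact a g x hgg :=
      (gact_gact a _ _ _ h1 h2 _ hbM).symm.trans (gact_congr a rfl (hgam W w x h))
    refine (gact_congr b (huniq w _ (by rw [gact_π, h]) _ _ e) rfl (h' := by rw [gmul_hom, hbN, hbq])).trans ?_
    exact (gact_congr b (gmul_eq_of_base _ _ _ _ h1 h2 (h1.trans hbq) (h2.trans hbq)) rfl (h' := by rw [gmul_hom, hbN])).trans
      (gact_gact b _ _ _ (h1.trans hbq) (h2.trans hbq) _ hbN).symm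

include ha hb hσ hτ in
/-- Two sections give an isomorphism of torsors. -/
theorem exists_hm_of_sections :
    ∃ (f : Hm a b c c) (f' : Hm b a c c),
      (∀ {W : Scheme.{u}} (w : W ⟶ T) (x : W ⟶ M.left) (h), f'.app w (f.app w x h) (f.π w x h) = x) ∧
      (∀ {W : Scheme.{u}} (w : W ⟶ T) (x : W ⟶ N.left) (h), f.app w (f'.app w x h) (f'.π w x h) = x) := by
  obtain ⟨f, hf⟩ := exists_hm_map ha σ τ rfl hσ hτ (b := b)
  obtain ⟨f', hf'⟩ := exists_hm_map hb τ σ rfl hτ hσ (b := a)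
  refine ⟨f, f', fun w x h => ?_, fun w x h => ?_⟩
  · obtain ⟨g, ⟨hg, e⟩, -⟩ := secGamma_exists ha σ hσ w x h
    have hg' : g ≫ G.hom = ((w ≫ τ) ≫ N.hom) ≫ q := by
      rw [hg]; simp only [Category.assoc, reassoc_of% hσ, reassoc_of% hτ]
    exact (hf' w _ _ g hg' hg (hf w x h g hg hg' e).symm).trans e
  · obtain ⟨g, ⟨hg, e⟩, -⟩ := secGamma_exists hb τ hτ w x h
    have hg' : g ≫ G.hom = ((w ≫ σ) ≫ M.hom) ≫ q := by
      rw [hg]; simp only [Category.assoc, reassoc_of% hσ, reassoc_of% hτ]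
    exact (hf w _ _ g hg' hg (hf' w x h g hg hg' e).symm).trans e

end secs

section glue

variable (a b) {U₁ U₂ : Scheme.{u}} (j₁ : U₁ ⟶ A) (j₂ : U₂ ⟶ A) [IsOpenImmersion j₁] [IsOpenImmersion j₂]

/-- The inclusion of the overlap. -/
noncomputable abbrev jV : pullback j₁ j₂ ⟶ A := pullback.fst j₁ j₂ ≫ j₁

/-- A gluing datum. -/
structure Datum where
  f : Hm a b (jV j₁ j₂) (jV j₁ j₂)
  f' : Hm b a (jV j₁ j₂) (jV j₁ j₂)
  left_inv : ∀ {W : Scheme.{u}} (w : W ⟶ pullback j₁ j₂) (x : W ⟶ M.left) (h), f'.app w (f.app w x h) (f.π w x h) = x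
  right_inv : ∀ {W : Scheme.{u}} (w : W ⟶ pullback j₁ j₂) (x : W ⟶ N.left) (h), f.app w (f'.app w x h) (f'.π w x h) = x

variable {a b j₁ j₂} (D : Datum a b j₁ j₂)

/-- The first leg. -/
noncomputable def leg₁ (_ : Datum a b j₁ j₂) : pullback M.hom (jV j₁ j₂) ⟶ pullback M.hom j₁ :=
  pullback.lift (pullback.fst _ _) (pullback.snd _ _ ≫ pullback.fst j₁ j₂)
    (by rw [pullback.condition, Category.assoc])

/-- The second leg. -/
noncomputable def leg₂ : pullback M.hom (jV j₁ j₂) ⟶ pullback N.hom j₂ :=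
  pullback.lift (D.f.app (pullback.snd _ _) (pullback.fst _ _) pullback.condition)
    (pullback.snd _ _ ≫ pullback.snd j₁ j₂) (by rw [D.f.π, jV, pullback.condition (f := j₁), Category.assoc])

instance : IsOpenImmersion (jV j₁ j₂) := inferInstanceAs (IsOpenImmersion (_ ≫ _))

instance : IsOpenImmersion (leg₁ D) := by
  haveI : IsOpenImmersion (leg₁ D ≫ pullback.fst M.hom j₁) := by
    rw [leg₁, pullback.lift_fst]; infer_instance
  exact IsOpenImmersion.of_comp (leg₁ D) (pullback.fst M.hom j₁)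

instance : IsOpenImmersion (leg₂ D) := by
  let e : pullback M.hom (jV j₁ j₂) ≅ pullback N.hom (jV j₁ j₂) :=
    { hom := pullback.lift (D.f.app (pullback.snd _ _) (pullback.fst _ _) pullback.condition) (pullback.snd _ _)
        (D.f.π _ _ _)
      inv := pullback.lift (D.f'.app (pullback.snd _ _) (pullback.fst _ _) pullback.condition) (pullback.snd _ _)
        (D.f'.π _ _ _)
      hom_inv_id := by
        apply pullback.hom_ext
        · rw [Category.assoc, pullback.lift_fst, D.f'.nat, Category.id_comp]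
          exact (D.f'.app_congr (pullback.lift_snd _ _ _) (pullback.lift_fst _ _ _)).trans
            (D.left_inv _ _ pullback.condition)
        · simp only [Category.assoc, pullback.lift_snd, Category.id_comp]
      inv_hom_id := by
        apply pullback.hom_ext
        · rw [Category.assoc, pullback.lift_fst, D.f.nat, Category.id_comp]
          exact (D.f.app_congr (pullback.lift_snd _ _ _) (pullback.lift_fst _ _ _)).trans
            (D.right_inv _ _ pullback.condition)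
        · simp only [Category.assoc, pullback.lift_snd, Category.id_comp] }
  haveI : IsOpenImmersion (leg₂ D ≫ pullback.fst N.hom j₂) := by
    rw [leg₂, pullback.lift_fst, ← pullback.lift_fst (f := N.hom) (g := jV j₁ j₂) _ (pullback.snd _ _) (D.f.π _ _ _)]
    haveI : IsOpenImmersion (pullback.fst N.hom (jV j₁ j₂)) := inferInstance
    haveI : IsIso e.hom := e.isIso_hom
    haveI : IsOpenImmersion e.hom := IsOpenImmersion.of_isIso _
    show IsOpenImmersion (e.hom ≫ pullback.fst N.hom (jV j₁ j₂))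
    exact IsOpenImmersion.comp _ _
  exact IsOpenImmersion.of_comp (leg₂ D) (pullback.fst N.hom j₂)

/-- The glued scheme. -/
noncomputable def obj : Over A :=
  Over.mk (pushout.desc (pullback.fst M.hom j₁ ≫ M.hom) (pullback.fst N.hom j₂ ≫ N.hom) (by
    rw [leg₁, leg₂, pullback.lift_fst_assoc, pullback.lift_fst_assoc, D.f.π, pullback.condition]) :
      pushout (leg₁ D) (leg₂ D) ⟶ A)

/-- The first chart. -/
noncomputable def inc₁ : pullback M.hom j₁ ⟶ (obj D).left := pushout.inl (leg₁ D) (leg₂ D)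

/-- The second chart. -/
noncomputable def inc₂ : pullback N.hom j₂ ⟶ (obj D).left := pushout.inr (leg₁ D) (leg₂ D)

instance : IsOpenImmersion (inc₁ D) :=
  inferInstanceAs (IsOpenImmersion (colimit.ι (span (leg₁ D) (leg₂ D)) WalkingSpan.left))

instance : IsOpenImmersion (inc₂ D) :=
  inferInstanceAs (IsOpenImmersion (colimit.ι (span (leg₁ D) (leg₂ D)) WalkingSpan.right))

@[reassoc]
theorem inc₁_hom : inc₁ D ≫ (obj D).hom = pullback.snd M.hom j₁ ≫ j₁ :=
  (pushout.inl_desc _ _ _).trans pullback.condition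

@[reassoc]
theorem inc₂_hom : inc₂ D ≫ (obj D).hom = pullback.snd N.hom j₂ ≫ j₂ :=
  (pushout.inr_desc _ _ _).trans pullback.condition

@[reassoc]
theorem legs_inc : leg₁ D ≫ inc₁ D = leg₂ D ≫ inc₂ D := pushout.condition

theorem exists_inc (x : (obj D).left) : (∃ y, inc₁ D y = x) ∨ ∃ y, inc₂ D y = x := by
  obtain ⟨i, y, hy⟩ := Scheme.IsLocallyDirected.ι_jointly_surjective (span (leg₁ D) (leg₂ D)) x
  obtain (_ | (_ | _)) := i
  · refine Or.inl ⟨leg₁ D y, ?_⟩
    rw [← hy, ← colimit.w (span (leg₁ D) (leg₂ D)) WalkingSpan.Hom.fst]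
    rfl
  · exact Or.inl ⟨y, hy⟩
  · exact Or.inr ⟨y, hy⟩

theorem inc₁_eq_inc₂ {y₁ : (pullback M.hom j₁ : Scheme.{u})} {y₂ : (pullback N.hom j₂ : Scheme.{u})}
    (h : inc₁ D y₁ = inc₂ D y₂) : ∃ z, leg₁ D z = y₁ ∧ leg₂ D z = y₂ := by
  have e : j₁ (pullback.snd M.hom j₁ y₁) = j₂ (pullback.snd N.hom j₂ y₂) := by
    rw [← Scheme.Hom.comp_apply, ← inc₁_hom D, Scheme.Hom.comp_apply, h, ← Scheme.Hom.comp_apply, inc₂_hom,
      Scheme.Hom.comp_apply]
  obtain ⟨v, hv₁, -⟩ := Scheme.Pullback.exists_preimage_pullback _ _ e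
  have e' : M.hom (pullback.fst M.hom j₁ y₁) = jV j₁ j₂ v := by
    rw [Scheme.Hom.comp_apply, hv₁, ← Scheme.Hom.comp_apply, pullback.condition, Scheme.Hom.comp_apply]
  obtain ⟨z, hz, -⟩ := Scheme.Pullback.exists_preimage_pullback _ _ e'
  have hz₁ : leg₁ D z = y₁ := (pullback.fst M.hom j₁).isOpenEmbedding.injective (by
    rw [← Scheme.Hom.comp_apply, leg₁, pullback.lift_fst, hz])
  refine ⟨z, hz₁, (inc₂ D).isOpenEmbedding.injective ?_⟩
  rw [← Scheme.Hom.comp_apply, ← legs_inc, Scheme.Hom.comp_apply, hz₁, h]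

/-- The two charts meet along the overlap. -/
theorem exists_factor {W : Scheme.{u}} (w₁ : W ⟶ pullback M.hom j₁) (w₂ : W ⟶ pullback N.hom j₂)
    (h : w₁ ≫ inc₁ D = w₂ ≫ inc₂ D) :
    ∃ z : W ⟶ pullback M.hom (jV j₁ j₂), z ≫ leg₁ D = w₁ ∧ z ≫ leg₂ D = w₂ := by
  have hr : Set.range w₁ ⊆ Set.range (leg₁ D) := by
    rintro _ ⟨p, rfl⟩
    obtain ⟨z, hz, -⟩ := inc₁_eq_inc₂ D (y₁ := w₁ p) (y₂ := w₂ p) (by
      rw [← Scheme.Hom.comp_apply, h, Scheme.Hom.comp_apply])
    exact ⟨z, hz⟩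
  refine ⟨IsOpenImmersion.lift (leg₁ D) w₁ hr, IsOpenImmersion.lift_fac _ _ _, ?_⟩
  rw [← cancel_mono (inc₂ D), Category.assoc, ← legs_inc, IsOpenImmersion.lift_fac_assoc, h]

/-- The open cover of the glued scheme by the two charts. -/
noncomputable def charts : Scheme.OpenCover.{0} (obj D).left :=
  Scheme.Cover.mkOfCovers Bool
    (fun | true => pullback M.hom j₁ | false => pullback N.hom j₂)
    (fun | true => inc₁ D | false => inc₂ D)
    (fun x => (exists_inc D x).elim (fun ⟨y, hy⟩ => ⟨true, y, hy⟩) (fun ⟨y, hy⟩ => ⟨false, y, hy⟩))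
    (fun | true => inferInstanceAs (IsOpenImmersion (inc₁ D)) | false => inferInstanceAs (IsOpenImmersion (inc₂ D)))

/-- A morphism out of a scheme mapping to the glued scheme is determined on the two charts. -/
theorem hom_ext_charts {W Z : Scheme.{u}} (x : W ⟶ (obj D).left) {f f' : W ⟶ Z}
    (h₁ : pullback.fst x (inc₁ D) ≫ f = pullback.fst x (inc₁ D) ≫ f')
    (h₂ : pullback.fst x (inc₂ D) ≫ f = pullback.fst x (inc₂ D) ≫ f') : f = f' :=
  Scheme.Cover.hom_ext ((charts D).pullback₁ x) _ _ fun | true => h₁ | false => h₂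

theorem hom_chart₁ {W : Scheme.{u}} (u : W ⟶ pullback M.hom j₁) (g : W ⟶ G.left)
    (h : g ≫ G.hom = ((u ≫ inc₁ D) ≫ (obj D).hom) ≫ q) : g ≫ G.hom = ((u ≫ pullback.fst _ _) ≫ M.hom) ≫ q := by
  rw [h, Category.assoc u, inc₁_hom, ← pullback.condition]
  simp only [Category.assoc]

theorem hom_chart₂ {W : Scheme.{u}} (u : W ⟶ pullback N.hom j₂) (g : W ⟶ G.left)
    (h : g ≫ G.hom = ((u ≫ inc₂ D) ≫ (obj D).hom) ≫ q) : g ≫ G.hom = ((u ≫ pullback.fst _ _) ≫ N.hom) ≫ q := by
  rw [h, Category.assoc u, inc₂_hom, ← pullback.condition]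
  simp only [Category.assoc]

/-- The action in the first chart. -/
noncomputable def act₁ {W : Scheme.{u}} (g : W ⟶ G.left) (u : W ⟶ pullback M.hom j₁)
    (h : g ≫ G.hom = ((u ≫ pullback.fst _ _) ≫ M.hom) ≫ q) : W ⟶ pullback M.hom j₁ :=
  pullback.lift (gact a g (u ≫ pullback.fst _ _) h) (u ≫ pullback.snd _ _)
    (by rw [gact_π, Category.assoc, pullback.condition, Category.assoc])

/-- The action in the second chart. -/
noncomputable def act₂ {W : Scheme.{u}} (g : W ⟶ G.left) (u : W ⟶ pullback N.hom j₂)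
    (h : g ≫ G.hom = ((u ≫ pullback.fst _ _) ≫ N.hom) ≫ q) : W ⟶ pullback N.hom j₂ :=
  pullback.lift (gact b g (u ≫ pullback.fst _ _) h) (u ≫ pullback.snd _ _)
    (by rw [gact_π, Category.assoc, pullback.condition, Category.assoc])

theorem comp_act₁ {W W' : Scheme.{u}} (k : W' ⟶ W) (g : W ⟶ G.left) (u : W ⟶ pullback M.hom j₁) (h) :
    k ≫ act₁ (a := a) g u h = act₁ (a := a) (k ≫ g) (k ≫ u) (by rw [Category.assoc, h]; simp only [Category.assoc]) := by
  apply pullback.hom_ext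
  · simp only [act₁, Category.assoc, pullback.lift_fst, comp_gact]
  · simp only [act₁, Category.assoc, pullback.lift_snd]

theorem comp_act₂ {W W' : Scheme.{u}} (k : W' ⟶ W) (g : W ⟶ G.left) (u : W ⟶ pullback N.hom j₂) (h) :
    k ≫ act₂ (b := b) g u h = act₂ (b := b) (k ≫ g) (k ≫ u) (by rw [Category.assoc, h]; simp only [Category.assoc]) := by
  apply pullback.hom_ext
  · simp only [act₂, Category.assoc, pullback.lift_fst, comp_gact]
  · simp only [act₂, Category.assoc, pullback.lift_snd]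

theorem leg₂_fst {W : Scheme.{u}} (z : W ⟶ pullback M.hom (jV j₁ j₂))
    (h : (z ≫ pullback.fst M.hom (jV j₁ j₂)) ≫ M.hom = (z ≫ pullback.snd M.hom _) ≫ jV j₁ j₂) :
    (z ≫ leg₂ D) ≫ pullback.fst N.hom j₂ = D.f.app (z ≫ pullback.snd _ _) (z ≫ pullback.fst _ _) h :=
  (Category.assoc _ _ _).trans ((congrArg (z ≫ ·) (pullback.lift_fst _ _ _)).trans (D.f.nat _ _ _ _))

theorem act_overlap {W : Scheme.{u}} (g g' : W ⟶ G.left) (eg : g = g') (u₁ : W ⟶ pullback M.hom j₁)
    (u₂ : W ⟶ pullback N.hom j₂) (h₁) (h₂) (e : u₁ ≫ inc₁ D = u₂ ≫ inc₂ D) :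
    act₁ (a := a) g u₁ h₁ ≫ inc₁ D = act₂ (b := b) g' u₂ h₂ ≫ inc₂ D := by
  subst eg
  obtain ⟨z, rfl, rfl⟩ := exists_factor D _ _ e
  have hw : (z ≫ pullback.fst M.hom (jV j₁ j₂)) ≫ M.hom = (z ≫ pullback.snd M.hom _) ≫ jV j₁ j₂ := by
    rw [Category.assoc, pullback.condition, Category.assoc]
  have hg : g ≫ G.hom = ((z ≫ pullback.fst M.hom (jV j₁ j₂)) ≫ M.hom) ≫ q := by
    rw [h₁]; simp only [leg₁, Category.assoc, pullback.lift_fst_assoc]
  let y : W ⟶ pullback M.hom (jV j₁ j₂) := pullback.lift (gact a g (z ≫ pullback.fst _ _) hg) (z ≫ pullback.snd _ _)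
    (by rw [gact_π, hw])
  have e₁ : act₁ (a := a) g (z ≫ leg₁ D) h₁ = y ≫ leg₁ D := by
    apply pullback.hom_ext
    · simp only [act₁, leg₁, y, Category.assoc, pullback.lift_fst]
    · simp only [act₁, leg₁, y, Category.assoc, pullback.lift_snd, pullback.lift_snd_assoc]
  have e₂ : act₂ (b := b) g (z ≫ leg₂ D) h₂ = y ≫ leg₂ D := by
    have hy₁ : y ≫ pullback.fst M.hom (jV j₁ j₂) = gact a g (z ≫ pullback.fst _ _) hg := pullback.lift_fst _ _ _
    have hy₂ : y ≫ pullback.snd M.hom (jV j₁ j₂) = z ≫ pullback.snd _ _ := pullback.lift_snd _ _ _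
    have hyw : (y ≫ pullback.fst M.hom (jV j₁ j₂)) ≫ M.hom = (y ≫ pullback.snd M.hom _) ≫ jV j₁ j₂ := by
      rw [hy₁, hy₂, gact_π, hw]
    apply pullback.hom_ext
    · rw [leg₂_fst D y hyw]
      refine (pullback.lift_fst _ _ _).trans ?_
      refine (gact_congr b rfl (leg₂_fst D z hw) (h' := by rw [D.f.π, ← hw]; exact hg)).trans ?_
      exact (D.f.equiv (z ≫ pullback.snd _ _) g _ hw hg).symm.trans (D.f.app_congr hy₂.symm hy₁.symm)
    · simp only [act₂, leg₂, Category.assoc, pullback.lift_snd, pullback.lift_snd_assoc]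
      rw [reassoc_of% hy₂]
  rw [e₁, e₂, Category.assoc, Category.assoc, legs_inc]

theorem exists_eact {W : Scheme.{u}} (g : W ⟶ G.left) (x : W ⟶ (obj D).left)
    (h : g ≫ G.hom = (x ≫ (obj D).hom) ≫ q) :
    ∃ y : W ⟶ (obj D).left,
      (∀ {W' : Scheme.{u}} (k : W' ⟶ W) (u : W' ⟶ pullback M.hom j₁) (e : k ≫ x = u ≫ inc₁ D),
        k ≫ y = act₁ (a := a) (k ≫ g) u (hom_chart₁ D u _ (by rw [← e, Category.assoc, h]; simp only [Category.assoc])) ≫ inc₁ D) ∧
      (∀ {W' : Scheme.{u}} (k : W' ⟶ W) (u : W' ⟶ pullback N.hom j₂) (e : k ≫ x = u ≫ inc₂ D),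
        k ≫ y = act₂ (b := b) (k ≫ g) u (hom_chart₂ D u _ (by rw [← e, Category.assoc, h]; simp only [Category.assoc])) ≫ inc₂ D) := by
  let 𝒲 := (charts D).pullback₁ x
  let H₁ : (pullback.fst x (inc₁ D) ≫ g) ≫ G.hom = _ := hom_chart₁ D (pullback.snd x (inc₁ D)) _
    (by rw [← pullback.condition, Category.assoc, h]; simp only [Category.assoc])
  let H₂ : (pullback.fst x (inc₂ D) ≫ g) ≫ G.hom = _ := hom_chart₂ D (pullback.snd x (inc₂ D)) _
    (by rw [← pullback.condition, Category.assoc, h]; simp only [Category.assoc])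
  let p : ∀ i, 𝒲.X i ⟶ (obj D).left := fun
    | true => act₁ (a := a) (pullback.fst x (inc₁ D) ≫ g) (pullback.snd x (inc₁ D)) H₁ ≫ inc₁ D
    | false => act₂ (b := b) (pullback.fst x (inc₂ D) ≫ g) (pullback.snd x (inc₂ D)) H₂ ≫ inc₂ D
  have hp : ∀ i j, pullback.fst (𝒲.f i) (𝒲.f j) ≫ p i = pullback.snd (𝒲.f i) (𝒲.f j) ≫ p j := by
    intro i j
    match i, j with
    | true, true =>
      haveI : Mono (pullback.fst x (inc₁ D)) := inferInstance
      rw [show pullback.fst (𝒲.f true) (𝒲.f true) = pullback.snd (𝒲.f true) (𝒲.f true) from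
        (cancel_mono (pullback.fst x (inc₁ D))).1 pullback.condition]
    | false, false =>
      haveI : Mono (pullback.fst x (inc₂ D)) := inferInstance
      rw [show pullback.fst (𝒲.f false) (𝒲.f false) = pullback.snd (𝒲.f false) (𝒲.f false) from
        (cancel_mono (pullback.fst x (inc₂ D))).1 pullback.condition]
    | true, false =>
      let l := pullback.fst (pullback.fst x (inc₁ D)) (pullback.fst x (inc₂ D))
      let r := pullback.snd (pullback.fst x (inc₁ D)) (pullback.fst x (inc₂ D))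
      have hlr : l ≫ pullback.fst x (inc₁ D) = r ≫ pullback.fst x (inc₂ D) := pullback.condition
      show l ≫ _ ≫ _ = r ≫ _ ≫ _
      refine (Category.assoc _ _ _).symm.trans (Eq.trans ?_ (Category.assoc _ _ _))
      refine (congrArg (· ≫ inc₁ D) (comp_act₁ (a := a) l _ _ H₁)).trans (Eq.trans ?_ (congrArg (· ≫ inc₂ D) (comp_act₂ (b := b) r _ _ H₂)).symm)
      exact act_overlap D _ _ (by rw [reassoc_of% hlr]) _ _ _ _
        (by rw [Category.assoc, Category.assoc, ← pullback.condition, ← pullback.condition, reassoc_of% hlr])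
    | false, true =>
      let l := pullback.fst (pullback.fst x (inc₂ D)) (pullback.fst x (inc₁ D))
      let r := pullback.snd (pullback.fst x (inc₂ D)) (pullback.fst x (inc₁ D))
      have hlr : l ≫ pullback.fst x (inc₂ D) = r ≫ pullback.fst x (inc₁ D) := pullback.condition
      show l ≫ _ ≫ _ = r ≫ _ ≫ _
      refine (Category.assoc _ _ _).symm.trans (Eq.trans ?_ (Category.assoc _ _ _))
      refine (congrArg (· ≫ inc₂ D) (comp_act₂ (b := b) l _ _ H₂)).trans (Eq.trans ?_ (congrArg (· ≫ inc₁ D) (comp_act₁ (a := a) r _ _ H₁)).symm)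
      exact (act_overlap D _ _ (by rw [reassoc_of% hlr]) _ _ _ _
        (by rw [Category.assoc, Category.assoc, ← pullback.condition, ← pullback.condition, reassoc_of% hlr])).symm
  refine ⟨Scheme.Cover.glueMorphisms 𝒲 p hp, fun {W'} k u e => ?_, fun {W'} k u e => ?_⟩
  · have hg := Scheme.Cover.ι_glueMorphisms 𝒲 p hp true
    have hl := pullback.lift_fst k u e
    refine ((congrArg (· ≫ Scheme.Cover.glueMorphisms 𝒲 p hp) hl).symm.trans (Category.assoc _ _ _)).trans ?_
    refine (congrArg (pullback.lift k u e ≫ ·) hg).trans ((Category.assoc _ _ _).symm.trans ?_)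
    refine congrArg (· ≫ inc₁ D) ((comp_act₁ (a := a) _ _ _ H₁).trans ?_)
    congr 1
    · rw [reassoc_of% hl]
    · exact pullback.lift_snd _ _ _
  · have hg := Scheme.Cover.ι_glueMorphisms 𝒲 p hp false
    have hl := pullback.lift_fst k u e
    refine ((congrArg (· ≫ Scheme.Cover.glueMorphisms 𝒲 p hp) hl).symm.trans (Category.assoc _ _ _)).trans ?_
    refine (congrArg (pullback.lift k u e ≫ ·) hg).trans ((Category.assoc _ _ _).symm.trans ?_)
    refine congrArg (· ≫ inc₂ D) ((comp_act₂ (b := b) _ _ _ H₂).trans ?_)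
    congr 1
    · rw [reassoc_of% hl]
    · exact pullback.lift_snd _ _ _

/-- The action on points. -/
noncomputable def eact {W : Scheme.{u}} (g : W ⟶ G.left) (x : W ⟶ (obj D).left)
    (h : g ≫ G.hom = (x ≫ (obj D).hom) ≫ q) : W ⟶ (obj D).left :=
  (exists_eact D g x h).choose

theorem eact_chart₁ {W W' : Scheme.{u}} (g : W ⟶ G.left) (x : W ⟶ (obj D).left) (h)
    (k : W' ⟶ W) (u : W' ⟶ pullback M.hom j₁) (e : k ≫ x = u ≫ inc₁ D) (h') :
    k ≫ eact D g x h = act₁ (a := a) (k ≫ g) u h' ≫ inc₁ D :=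
  (exists_eact D g x h).choose_spec.1 k u e

theorem eact_chart₂ {W W' : Scheme.{u}} (g : W ⟶ G.left) (x : W ⟶ (obj D).left) (h)
    (k : W' ⟶ W) (u : W' ⟶ pullback N.hom j₂) (e : k ≫ x = u ≫ inc₂ D) (h') :
    k ≫ eact D g x h = act₂ (b := b) (k ≫ g) u h' ≫ inc₂ D :=
  (exists_eact D g x h).choose_spec.2 k u e

theorem comp_eact {W W' : Scheme.{u}} (k : W' ⟶ W) (g : W ⟶ G.left) (x : W ⟶ (obj D).left) (h) :
    k ≫ eact D g x h = eact D (k ≫ g) (k ≫ x) (by rw [Category.assoc, h]; simp only [Category.assoc]) := by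
  refine hom_ext_charts D (k ≫ x) ?_ ?_
  · have e := pullback.condition (f := k ≫ x) (g := inc₁ D)
    have h' := hom_chart₁ D _ _ (show (pullback.fst (k ≫ x) (inc₁ D) ≫ k ≫ g) ≫ G.hom =
      ((pullback.snd (k ≫ x) (inc₁ D) ≫ inc₁ D) ≫ (obj D).hom) ≫ q by
        rw [← e]; simp only [Category.assoc, h])
    rw [← Category.assoc, eact_chart₁ D g x h _ _ ((Category.assoc _ _ _).trans e) (by simpa only [Category.assoc] using h'),
      eact_chart₁ D _ _ _ _ _ e h']
    simp only [Category.assoc]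
  · have e := pullback.condition (f := k ≫ x) (g := inc₂ D)
    have h' := hom_chart₂ D _ _ (show (pullback.fst (k ≫ x) (inc₂ D) ≫ k ≫ g) ≫ G.hom =
      ((pullback.snd (k ≫ x) (inc₂ D) ≫ inc₂ D) ≫ (obj D).hom) ≫ q by
        rw [← e]; simp only [Category.assoc, h])
    rw [← Category.assoc, eact_chart₂ D g x h _ _ ((Category.assoc _ _ _).trans e) (by simpa only [Category.assoc] using h'),
      eact_chart₂ D _ _ _ _ _ e h']
    simp only [Category.assoc]

theorem eact_π {W : Scheme.{u}} (g : W ⟶ G.left) (x : W ⟶ (obj D).left) (h) :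
    eact D g x h ≫ (obj D).hom = x ≫ (obj D).hom := by
  refine hom_ext_charts D x ?_ ?_
  · rw [← Category.assoc, eact_chart₁ D g x h _ _ pullback.condition
      (hom_chart₁ D _ _ (by rw [← pullback.condition]; simp only [Category.assoc, h])), Category.assoc, inc₁_hom,
      act₁, pullback.lift_snd_assoc, pullback.condition_assoc, inc₁_hom, Category.assoc]
  · rw [← Category.assoc, eact_chart₂ D g x h _ _ pullback.condition
      (hom_chart₂ D _ _ (by rw [← pullback.condition]; simp only [Category.assoc, h])), Category.assoc, inc₂_hom,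
      act₂, pullback.lift_snd_assoc, pullback.condition_assoc, inc₂_hom, Category.assoc]

theorem eact_congr {W : Scheme.{u}} {g g' : W ⟶ G.left} {x x' : W ⟶ (obj D).left} {h} {h'}
    (e : g = g') (e' : x = x') : eact D g x h = eact D g' x' h' := by
  subst e; subst e'; rfl

theorem eact_one {W : Scheme.{u}} (x : W ⟶ (obj D).left) (h) :
    eact D (((x ≫ (obj D).hom) ≫ q) ≫ (η[G] : 𝟙_ _ ⟶ G).left) x h = x := by
  refine hom_ext_charts D x ?_ ?_
  · rw [eact_chart₁ D _ x h _ _ pullback.condition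
      (hom_chart₁ D _ _ (by rw [← pullback.condition]; simp only [Category.assoc] at h ⊢; rw [h]))]
    refine Eq.trans ?_ pullback.condition.symm
    congr 1
    apply pullback.hom_ext
    · rw [act₁, pullback.lift_fst]
      refine Eq.trans (gact_congr a ?_ rfl) (gact_one a _ ?_)
      · rw [← Category.assoc, ← Category.assoc, ← Category.assoc, pullback.condition]
        simp only [Category.assoc, inc₁_hom_assoc, pullback.condition_assoc]
      · rw [Category.assoc, show (η[G] : 𝟙_ _ ⟶ G).left ≫ G.hom = 𝟙 S from Over.w η[G], Category.comp_id]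
    · rw [act₁, pullback.lift_snd]
  · rw [eact_chart₂ D _ x h _ _ pullback.condition
      (hom_chart₂ D _ _ (by rw [← pullback.condition]; simp only [Category.assoc] at h ⊢; rw [h]))]
    refine Eq.trans ?_ pullback.condition.symm
    congr 1
    apply pullback.hom_ext
    · rw [act₂, pullback.lift_fst]
      refine Eq.trans (gact_congr b ?_ rfl) (gact_one b _ ?_)
      · rw [← Category.assoc, ← Category.assoc, ← Category.assoc, pullback.condition]
        simp only [Category.assoc, inc₂_hom_assoc, pullback.condition_assoc]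
      · rw [Category.assoc, show (η[G] : 𝟙_ _ ⟶ G).left ≫ G.hom = 𝟙 S from Over.w η[G], Category.comp_id]
    · rw [act₂, pullback.lift_snd]

theorem comp_gmul {W W' : Scheme.{u}} (k : W' ⟶ W) (β : W ⟶ A) (g g' : W ⟶ G.left) (h : g ≫ G.hom = β ≫ q)
    (h' : g' ≫ G.hom = β ≫ q) :
    k ≫ gmul β g g' h h' = gmul (k ≫ β) (k ≫ g) (k ≫ g') (by rw [Category.assoc, h, Category.assoc])
      (by rw [Category.assoc, h', Category.assoc]) := by
  let e : Over.mk (k ≫ β) ⟶ Over.mk β := Over.homMk k rfl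
  have h1 : ∀ (g : W ⟶ G.left) (h : g ≫ G.hom = β ≫ q),
      e ≫ gpt g β h = gpt (k ≫ g) (k ≫ β) (by rw [Category.assoc, h, Category.assoc]) := by
    intro g h
    ext1
    apply pullback.hom_ext
    · rw [gpt_fst, Over.comp_left, Category.assoc, gpt_fst]; rfl
    · exact (Over.w (e ≫ gpt g β h)).trans (Over.w (gpt (k ≫ g) (k ≫ β) _)).symm
  rw [gmul, gmul, ← h1, ← h1, ← comp_mul, Over.comp_left, Category.assoc]
  rfl

theorem gmul_congr {W : Scheme.{u}} {β β' : W ⟶ A} {g g₁ g' g₁' : W ⟶ G.left} {h h' h₁ h₁'}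
    (eβ : β = β') (e : g = g₁) (e' : g' = g₁') : gmul (q := q) β g g' h h' = gmul (q := q) β' g₁ g₁' h₁ h₁' := by
  subst eβ; subst e; subst e'; rfl

theorem eact_eact {W : Scheme.{u}} (β : W ⟶ A) (g g' : W ⟶ G.left) (h : g ≫ G.hom = β ≫ q) (h')
    (x : W ⟶ (obj D).left) (hx : x ≫ (obj D).hom = β) :
    eact D g (eact D g' x (by rw [hx]; exact h')) (by rw [eact_π, hx]; exact h) =
      eact D (gmul β g g' h h') x (by rw [hx]; exact gmul_hom _ _ _ _ _) := by
  subst hx
  refine hom_ext_charts D x ?_ ?_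
  · set k := pullback.fst x (inc₁ D)
    set u := pullback.snd x (inc₁ D)
    have e : k ≫ x = u ≫ inc₁ D := pullback.condition
    have hk : k ≫ x ≫ (obj D).hom = (u ≫ pullback.fst _ _) ≫ M.hom := by
      rw [reassoc_of% e, inc₁_hom, ← pullback.condition, Category.assoc]
    have hk₁ : ∀ g : W ⟶ G.left, g ≫ G.hom = (x ≫ (obj D).hom) ≫ q →
        (k ≫ g) ≫ G.hom = ((u ≫ pullback.fst _ _) ≫ M.hom) ≫ q := fun g h => by
      rw [← hk, Category.assoc, h]; simp only [Category.assoc]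
    have h₂ := eact_chart₁ D g' x h' k u e (hk₁ g' h')
    have hu : (act₁ (a := a) (k ≫ g') u (hk₁ g' h') ≫ pullback.fst _ _) ≫ M.hom = (u ≫ pullback.fst _ _) ≫ M.hom := by
      rw [act₁, pullback.lift_fst, gact_π]
    rw [eact_chart₁ D g _ _ k _ h₂ (by rw [hu]; exact hk₁ g h),
      eact_chart₁ D _ x _ k u e (hk₁ _ (gmul_hom _ _ _ _ _))]
    congr 1
    apply pullback.hom_ext
    · refine (pullback.lift_fst _ _ _).trans (Eq.trans ?_ (pullback.lift_fst _ _ _).symm)
      refine (gact_congr a rfl (pullback.lift_fst _ _ _)).trans ((gact_gact a _ _ _ (hk₁ g h) (hk₁ g' h') _ rfl).trans ?_)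
      exact gact_congr a ((gmul_congr hk.symm rfl rfl).trans (comp_gmul k _ g g' h h').symm) rfl
    · simp only [act₁, pullback.lift_snd]
  · set k := pullback.fst x (inc₂ D)
    set u := pullback.snd x (inc₂ D)
    have e : k ≫ x = u ≫ inc₂ D := pullback.condition
    have hk : k ≫ x ≫ (obj D).hom = (u ≫ pullback.fst _ _) ≫ N.hom := by
      rw [reassoc_of% e, inc₂_hom, ← pullback.condition, Category.assoc]
    have hk₁ : ∀ g : W ⟶ G.left, g ≫ G.hom = (x ≫ (obj D).hom) ≫ q →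
        (k ≫ g) ≫ G.hom = ((u ≫ pullback.fst _ _) ≫ N.hom) ≫ q := fun g h => by
      rw [← hk, Category.assoc, h]; simp only [Category.assoc]
    have h₂ := eact_chart₂ D g' x h' k u e (hk₁ g' h')
    have hu : (act₂ (b := b) (k ≫ g') u (hk₁ g' h') ≫ pullback.fst _ _) ≫ N.hom = (u ≫ pullback.fst _ _) ≫ N.hom := by
      rw [act₂, pullback.lift_fst, gact_π]
    rw [eact_chart₂ D g _ _ k _ h₂ (by rw [hu]; exact hk₁ g h),
      eact_chart₂ D _ x _ k u e (hk₁ _ (gmul_hom _ _ _ _ _))]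
    congr 1
    apply pullback.hom_ext
    · refine (pullback.lift_fst _ _ _).trans (Eq.trans ?_ (pullback.lift_fst _ _ _).symm)
      refine (gact_congr b rfl (pullback.lift_fst _ _ _)).trans ((gact_gact b _ _ _ (hk₁ g h) (hk₁ g' h') _ rfl).trans ?_)
      exact gact_congr b ((gmul_congr hk.symm rfl rfl).trans (comp_gmul k _ g g' h h').symm) rfl
    · simp only [act₂, pullback.lift_snd]

end glue

end Groth.Agent.Lib.TorsorQuillen.Glue
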