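import Groth.Agent.Lib.TorsorQuillen.Glue

/-!
# The torsor glued from two torsors
-/

universe u

open CategoryTheory CategoryTheory.Limits MonoidalCategory CartesianMonoidalCategory MonObj GrpObj AlgebraicGeometry

namespace Groth.Agent.Lib.TorsorQuillen.GlueTorsor

open Pts Glue

variable {S A : Scheme.{u}} {q : A ⟶ S} {G : Over S} [GrpObj G] {M N : Over A}
  {a : AlgGrp.Action (Red.bc q G) M} {b : AlgGrp.Action (Red.bc q G) N}
  {U₁ U₂ : Scheme.{u}} {j₁ : U₁ ⟶ A} {j₂ : U₂ ⟶ A} [IsOpenImmersion j₁] [IsOpenImmersion j₂]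
  (D : Datum a b j₁ j₂)

theorem mem_range_inc₁ (x : (obj D).left) (h : (obj D).hom x ∈ Set.range j₁) : x ∈ Set.range (inc₁ D) := by
  obtain ⟨y, hy⟩ | ⟨y, rfl⟩ := exists_inc D x
  · exact ⟨y, hy⟩
  obtain ⟨v, hv⟩ := h
  rw [← Scheme.Hom.comp_apply, inc₂_hom, Scheme.Hom.comp_apply] at hv
  obtain ⟨v', hv₁, hv₂⟩ := Scheme.Pullback.exists_preimage_pullback _ _ hv
  have e : N.hom (pullback.fst N.hom j₂ y) = jV j₁ j₂ v' := by
    rw [Scheme.Hom.comp_apply, hv₁, hv, ← Scheme.Hom.comp_apply, pullback.condition, Scheme.Hom.comp_apply]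
  obtain ⟨w, hw, -⟩ := Scheme.Pullback.exists_preimage_pullback _ _ e
  let back : pullback N.hom (jV j₁ j₂) ⟶ pullback M.hom (jV j₁ j₂) :=
    pullback.lift (D.f'.app (pullback.snd _ _) (pullback.fst _ _) pullback.condition) (pullback.snd _ _) (D.f'.π _ _ _)
  have hb₁ : back ≫ pullback.fst M.hom (jV j₁ j₂) = D.f'.app (pullback.snd _ _) (pullback.fst _ _) pullback.condition :=
    pullback.lift_fst _ _ _
  have hb₂ : back ≫ pullback.snd M.hom (jV j₁ j₂) = pullback.snd _ _ := pullback.lift_snd _ _ _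
  have hb : (back ≫ leg₂ D) ≫ pullback.fst N.hom j₂ = pullback.fst N.hom (jV j₁ j₂) := by
    rw [leg₂_fst D back (by rw [Category.assoc, pullback.condition, Category.assoc])]
    exact (D.f.app_congr hb₂ hb₁).trans (D.right_inv _ _ pullback.condition)
  have hy' : leg₂ D (back w) = y := (pullback.fst N.hom j₂).isOpenEmbedding.injective (by
    rw [← Scheme.Hom.comp_apply, ← Scheme.Hom.comp_apply, ← Category.assoc back, hb, hw])
  refine ⟨leg₁ D (back w), ?_⟩
  rw [← Scheme.Hom.comp_apply, legs_inc, Scheme.Hom.comp_apply, hy']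

theorem mem_range_inc₂ (x : (obj D).left) (h : (obj D).hom x ∈ Set.range j₂) : x ∈ Set.range (inc₂ D) := by
  obtain ⟨y, rfl⟩ | ⟨y, hy⟩ := exists_inc D x
  swap
  · exact ⟨y, hy⟩
  obtain ⟨v, hv⟩ := h
  rw [← Scheme.Hom.comp_apply, inc₁_hom, Scheme.Hom.comp_apply] at hv
  obtain ⟨v', hv₁, -⟩ := Scheme.Pullback.exists_preimage_pullback _ _ hv.symm
  have e : M.hom (pullback.fst M.hom j₁ y) = jV j₁ j₂ v' := by
    rw [Scheme.Hom.comp_apply, hv₁, ← Scheme.Hom.comp_apply, pullback.condition, Scheme.Hom.comp_apply]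
  obtain ⟨w, hw, -⟩ := Scheme.Pullback.exists_preimage_pullback _ _ e
  have hy' : leg₁ D w = y := (pullback.fst M.hom j₁).isOpenEmbedding.injective (by
    rw [← Scheme.Hom.comp_apply, leg₁, pullback.lift_fst, hw])
  refine ⟨leg₂ D w, ?_⟩
  rw [← Scheme.Hom.comp_apply, ← legs_inc, Scheme.Hom.comp_apply, hy']

/-- A point lying over the first open subscheme lies in the first chart. -/
theorem exists_lift₁ {W : Scheme.{u}} (w : W ⟶ (obj D).left) (u : W ⟶ U₁) (h : w ≫ (obj D).hom = u ≫ j₁) :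
    ∃ y : W ⟶ pullback M.hom j₁, y ≫ inc₁ D = w := by
  have hr : Set.range w ⊆ Set.range (inc₁ D) := by
    rintro _ ⟨p, rfl⟩
    exact mem_range_inc₁ D _ ⟨u p, by rw [← Scheme.Hom.comp_apply, ← h, Scheme.Hom.comp_apply]⟩
  exact ⟨IsOpenImmersion.lift (inc₁ D) w hr, IsOpenImmersion.lift_fac _ _ _⟩

/-- A point lying over the second open subscheme lies in the second chart. -/
theorem exists_lift₂ {W : Scheme.{u}} (w : W ⟶ (obj D).left) (u : W ⟶ U₂) (h : w ≫ (obj D).hom = u ≫ j₂) :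
    ∃ y : W ⟶ pullback N.hom j₂, y ≫ inc₂ D = w := by
  have hr : Set.range w ⊆ Set.range (inc₂ D) := by
    rintro _ ⟨p, rfl⟩
    exact mem_range_inc₂ D _ ⟨u p, by rw [← Scheme.Hom.comp_apply, ← h, Scheme.Hom.comp_apply]⟩
  exact ⟨IsOpenImmersion.lift (inc₂ D) w hr, IsOpenImmersion.lift_fac _ _ _⟩

/-- A point of the first torsor over the first open subscheme gives a point of the glued torsor. -/
theorem exists_pt_of₁ {W : Scheme.{u}} {c : W ⟶ A} (u : W ⟶ U₁) (hu : u ≫ j₁ = c) (m : W ⟶ M.left)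
    (hm : m ≫ M.hom = c) : ∃ w : W ⟶ (obj D).left, w ≫ (obj D).hom = c := by
  refine ⟨pullback.lift m u (hm.trans hu.symm) ≫ inc₁ D, ?_⟩
  rw [Category.assoc, inc₁_hom, pullback.lift_snd_assoc, hu]

/-- A point of the second torsor over the second open subscheme gives a point of the glued torsor. -/
theorem exists_pt_of₂ {W : Scheme.{u}} {c : W ⟶ A} (u : W ⟶ U₂) (hu : u ≫ j₂ = c) (m : W ⟶ N.left)
    (hm : m ≫ N.hom = c) : ∃ w : W ⟶ (obj D).left, w ≫ (obj D).hom = c := by
  refine ⟨pullback.lift m u (hm.trans hu.symm) ≫ inc₂ D, ?_⟩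
  rw [Category.assoc, inc₂_hom, pullback.lift_snd_assoc, hu]

/-- A point of the glued torsor over the first open subscheme gives a point of the first torsor. -/
theorem exists_pt_to₁ {W : Scheme.{u}} {c : W ⟶ A} (u : W ⟶ U₁) (hu : u ≫ j₁ = c) (w : W ⟶ (obj D).left)
    (hw : w ≫ (obj D).hom = c) : ∃ m : W ⟶ M.left, m ≫ M.hom = c := by
  obtain ⟨y, hy⟩ := exists_lift₁ D w u (hw.trans hu.symm)
  refine ⟨y ≫ pullback.fst _ _, ?_⟩
  rw [Category.assoc, pullback.condition, ← inc₁_hom D, reassoc_of% hy, hw]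

theorem act_cond :
    ((fst (Red.bc q G) (obj D)).left ≫ pullback.fst G.hom q) ≫ G.hom =
      ((snd (Red.bc q G) (obj D)).left ≫ (obj D).hom) ≫ q := by
  rw [Category.assoc, pullback.condition, Over.w (snd (Red.bc q G) (obj D))]
  exact (Category.assoc _ _ _).symm.trans (congrArg (· ≫ q) (Over.w (fst (Red.bc q G) (obj D))))

/-- The action morphism of the glued torsor. -/
noncomputable def actMor : Red.bc q G ⊗ obj D ⟶ obj D :=
  Over.homMk (eact D ((fst (Red.bc q G) (obj D)).left ≫ pullback.fst G.hom q) (snd (Red.bc q G) (obj D)).left (act_cond D))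
    ((eact_π D _ _ _).trans (Over.w (snd (Red.bc q G) (obj D))))

theorem actMor_pts {T : Over A} (g : T ⟶ Red.bc q G) (x : T ⟶ obj D) :
    (lift g x ≫ actMor D).left = eact D (g.left ≫ pullback.fst G.hom q) x.left (by
      rw [Category.assoc, pullback.condition, Over.w x]
      exact (Category.assoc _ _ _).symm.trans (congrArg (· ≫ q) (Over.w g))) := by
  rw [Over.comp_left]
  refine (comp_eact D _ _ _ (act_cond D)).trans (eact_congr D ?_ ?_)
  · rw [← Category.assoc, ← Over.comp_left, lift_fst]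
  · rw [← Over.comp_left, lift_snd]

theorem gpt_mul {T : Over A} (g g' : T ⟶ Red.bc q G) (h : (g.left ≫ pullback.fst G.hom q) ≫ G.hom = T.hom ≫ q)
    (h' : (g'.left ≫ pullback.fst G.hom q) ≫ G.hom = T.hom ≫ q) :
    (g * g').left ≫ pullback.fst G.hom q =
      gmul T.hom (g.left ≫ pullback.fst G.hom q) (g'.left ≫ pullback.fst G.hom q) h h' := by
  rw [gmul]
  exact congrArg₂ (fun z z' : T ⟶ Red.bc q G => (z * z').left ≫ pullback.fst G.hom q) (gpt_eq (b := T) g h).symm
    (gpt_eq (b := T) g' h').symm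

/-- The glued action. -/
noncomputable def action : AlgGrp.Action (Red.bc q G) (obj D) where
  act := actMor D
  one_act := by
    apply AlgGrp.Action.hom_ext_lift₂
    intro T p x
    have e : lift p x ≫ η[Red.bc q G] ▷ obj D = lift (1 : T ⟶ Red.bc q G) x := by
      rw [lift_whiskerRight, Hom.one_def, toUnit_unique p (toUnit T)]
    rw [← Category.assoc, e, leftUnitor_hom, lift_snd]
    ext1
    rw [actMor_pts]
    refine (eact_congr D ?_ rfl).trans (eact_one D x.left ?_)
    · rw [one_left, show x.left ≫ (obj D).hom = T.hom from Over.w x]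
    · rw [Category.assoc, show (η[G] : 𝟙_ _ ⟶ G).left ≫ G.hom = 𝟙 S from Over.w η[G], Category.comp_id]
  mul_act := by
    apply AlgGrp.Action.hom_ext_lift₂
    intro T p x
    have e : lift p x ≫ μ[Red.bc q G] ▷ obj D =
        lift ((p ≫ fst (Red.bc q G) (Red.bc q G)) * (p ≫ snd (Red.bc q G) (Red.bc q G))) x := by
      rw [lift_whiskerRight, Hom.mul_def, ← comp_lift, lift_fst_snd, Category.comp_id]
    have e' : lift p x ≫ (α_ (Red.bc q G) (Red.bc q G) (obj D)).hom ≫ (Red.bc q G ◁ actMor D) ≫ actMor D =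
        lift (p ≫ fst _ _) (lift (p ≫ snd _ _) x ≫ actMor D) ≫ actMor D := by
      rw [← lift_whiskerLeft_assoc, ← lift_lift_associator_hom_assoc, ← comp_lift, lift_fst_snd, Category.comp_id]
    rw [← Category.assoc, e, e']
    ext1
    rw [actMor_pts, actMor_pts]
    refine (eact_congr D (gpt_mul _ _ ?_ ?_) rfl).trans
      ((eact_eact D T.hom _ _ ?_ ?_ x.left (Over.w x)).symm.trans (eact_congr D rfl (actMor_pts D _ _).symm))
    all_goals
      rw [Category.assoc, pullback.condition]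
      exact (Category.assoc _ _ _).symm.trans (congrArg (· ≫ q) (Over.w (_ : T ⟶ Red.bc q G)))

variable (ha : NonAbH1.IsPseudoTorsorSch a) (hb : NonAbH1.IsPseudoTorsorSch b)

include ha hb in
theorem eact_left_cancel {W : Scheme.{u}} (g g' : W ⟶ G.left) (x : W ⟶ (obj D).left) (h) (h')
    (e : eact D g x h = eact D g' x h') : g = g' := by
  refine hom_ext_charts D x ?_ ?_
  · have hc := pullback.condition (f := x) (g := inc₁ D)
    have hg : ∀ g : W ⟶ G.left, g ≫ G.hom = (x ≫ (obj D).hom) ≫ q → (pullback.fst x (inc₁ D) ≫ g) ≫ G.hom =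
        ((pullback.snd x (inc₁ D) ≫ pullback.fst M.hom j₁) ≫ M.hom) ≫ q := fun g h =>
      hom_chart₁ D _ _ (by rw [← hc]; simp only [Category.assoc, h])
    have he := congrArg (pullback.fst x (inc₁ D) ≫ ·) e
    rw [eact_chart₁ D g x h _ _ hc (hg g h), eact_chart₁ D g' x h' _ _ hc (hg g' h'), cancel_mono] at he
    have he' := congrArg (· ≫ pullback.fst M.hom j₁) he
    simp only [act₁, pullback.lift_fst] at he'
    exact (existsUnique_gact a ha _ _ (gact_π a _ _ (hg g h)).symm).unique ⟨hg g h, rfl⟩ ⟨hg g' h', he'.symm⟩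
  · have hc := pullback.condition (f := x) (g := inc₂ D)
    have hg : ∀ g : W ⟶ G.left, g ≫ G.hom = (x ≫ (obj D).hom) ≫ q → (pullback.fst x (inc₂ D) ≫ g) ≫ G.hom =
        ((pullback.snd x (inc₂ D) ≫ pullback.fst N.hom j₂) ≫ N.hom) ≫ q := fun g h =>
      hom_chart₂ D _ _ (by rw [← hc]; simp only [Category.assoc, h])
    have he := congrArg (pullback.fst x (inc₂ D) ≫ ·) e
    rw [eact_chart₂ D g x h _ _ hc (hg g h), eact_chart₂ D g' x h' _ _ hc (hg g' h'), cancel_mono] at he
    have he' := congrArg (· ≫ pullback.fst N.hom j₂) he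
    simp only [act₂, pullback.lift_fst] at he'
    exact (existsUnique_gact b hb _ _ (gact_π b _ _ (hg g h)).symm).unique ⟨hg g h, rfl⟩ ⟨hg g' h', he'.symm⟩

include ha in
theorem exists_local₁ {W : Scheme.{u}} (u : W ⟶ U₁) (x y : W ⟶ (obj D).left) (hx : x ≫ (obj D).hom = u ≫ j₁)
    (hy : y ≫ (obj D).hom = u ≫ j₁) : ∃ (g : W ⟶ G.left) (h : g ≫ G.hom = (x ≫ (obj D).hom) ≫ q), eact D g x h = y := by
  obtain ⟨x', rfl⟩ := exists_lift₁ D x u hx
  obtain ⟨y', rfl⟩ := exists_lift₁ D y u hy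
  rw [Category.assoc, inc₁_hom, ← Category.assoc, cancel_mono] at hx hy
  obtain ⟨g, ⟨hg, e⟩, -⟩ := existsUnique_gact a ha (x' ≫ pullback.fst _ _) (y' ≫ pullback.fst _ _)
    (by rw [Category.assoc, pullback.condition, reassoc_of% hx, Category.assoc, pullback.condition, reassoc_of% hy])
  refine ⟨g, by rw [hg, Category.assoc x' (inc₁ D), inc₁_hom, Category.assoc x', pullback.condition], ?_⟩
  have h1 := eact_chart₁ D g (x' ≫ inc₁ D) (by rw [hg, Category.assoc x' (inc₁ D), inc₁_hom, Category.assoc x', pullback.condition])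
    (𝟙 W) x' (Category.id_comp _) (by rw [Category.id_comp]; exact hg)
  rw [Category.id_comp] at h1
  rw [h1]
  congr 1
  apply pullback.hom_ext
  · rw [act₁, pullback.lift_fst]
    exact (gact_congr a (Category.id_comp _) rfl).trans e
  · rw [act₁, pullback.lift_snd, hx, hy]

include hb in
theorem exists_local₂ {W : Scheme.{u}} (u : W ⟶ U₂) (x y : W ⟶ (obj D).left) (hx : x ≫ (obj D).hom = u ≫ j₂)
    (hy : y ≫ (obj D).hom = u ≫ j₂) : ∃ (g : W ⟶ G.left) (h : g ≫ G.hom = (x ≫ (obj D).hom) ≫ q), eact D g x h = y := by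
  obtain ⟨x', rfl⟩ := exists_lift₂ D x u hx
  obtain ⟨y', rfl⟩ := exists_lift₂ D y u hy
  rw [Category.assoc, inc₂_hom, ← Category.assoc, cancel_mono] at hx hy
  obtain ⟨g, ⟨hg, e⟩, -⟩ := existsUnique_gact b hb (x' ≫ pullback.fst _ _) (y' ≫ pullback.fst _ _)
    (by rw [Category.assoc, pullback.condition, reassoc_of% hx, Category.assoc, pullback.condition, reassoc_of% hy])
  refine ⟨g, by rw [hg, Category.assoc x' (inc₂ D), inc₂_hom, Category.assoc x', pullback.condition], ?_⟩
  have h1 := eact_chart₂ D g (x' ≫ inc₂ D) (by rw [hg, Category.assoc x' (inc₂ D), inc₂_hom, Category.assoc x', pullback.condition])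
    (𝟙 W) x' (Category.id_comp _) (by rw [Category.id_comp]; exact hg)
  rw [Category.id_comp] at h1
  rw [h1]
  congr 1
  apply pullback.hom_ext
  · rw [act₂, pullback.lift_fst]
    exact (gact_congr b (Category.id_comp _) rfl).trans e
  · rw [act₂, pullback.lift_snd, hx, hy]

variable (hcov : ∀ x : A, x ∈ Set.range j₁ ∨ x ∈ Set.range j₂)

include ha hb hcov in
theorem exists_eact_eq {W : Scheme.{u}} (x y : W ⟶ (obj D).left) (hxy : x ≫ (obj D).hom = y ≫ (obj D).hom) :
    ∃ (g : W ⟶ G.left) (h : g ≫ G.hom = (x ≫ (obj D).hom) ≫ q), eact D g x h = y := by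
  let p := x ≫ (obj D).hom
  let 𝒲 : Scheme.OpenCover.{0} W := Scheme.Cover.mkOfCovers Bool
    (fun | true => pullback p j₁ | false => pullback p j₂)
    (fun | true => pullback.fst p j₁ | false => pullback.fst p j₂)
    (fun z => by
      rcases hcov (p z) with ⟨v, hv⟩ | ⟨v, hv⟩
      · obtain ⟨w, hw, -⟩ := Scheme.Pullback.exists_preimage_pullback _ _ hv.symm
        exact ⟨true, w, hw⟩
      · obtain ⟨w, hw, -⟩ := Scheme.Pullback.exists_preimage_pullback _ _ hv.symm
        exact ⟨false, w, hw⟩)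
    (fun | true => inferInstanceAs (IsOpenImmersion (pullback.fst p j₁))
         | false => inferInstanceAs (IsOpenImmersion (pullback.fst p j₂)))
  have key : ∀ i, ∃ (g : 𝒲.X i ⟶ G.left) (h : g ≫ G.hom = ((𝒲.f i ≫ x) ≫ (obj D).hom) ≫ q),
      eact D g (𝒲.f i ≫ x) h = 𝒲.f i ≫ y := by
    intro i
    match i with
    | true => exact exists_local₁ D ha (pullback.snd p j₁) _ _ ((Category.assoc _ _ _).trans pullback.condition)
                ((Category.assoc _ _ _).trans ((congrArg (pullback.fst p j₁ ≫ ·) hxy.symm).trans pullback.condition))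
    | false => exact exists_local₂ D hb (pullback.snd p j₂) _ _ ((Category.assoc _ _ _).trans pullback.condition)
                ((Category.assoc _ _ _).trans ((congrArg (pullback.fst p j₂ ≫ ·) hxy.symm).trans pullback.condition))
  choose g hg hge using key
  have hglue : ∀ i j, pullback.fst (𝒲.f i) (𝒲.f j) ≫ g i = pullback.snd (𝒲.f i) (𝒲.f j) ≫ g j := by
    intro i j
    have hc := pullback.condition (f := 𝒲.f i) (g := 𝒲.f j)
    refine eact_left_cancel D ha hb _ _ ((pullback.fst (𝒲.f i) (𝒲.f j) ≫ 𝒲.f i) ≫ x) ?_ ?_ ?_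
    · rw [Category.assoc, hg]; simp only [Category.assoc]
    · rw [Category.assoc, hg, hc]; simp only [Category.assoc]
    · refine ((eact_congr D rfl (Category.assoc _ _ _)).trans (comp_eact D _ _ _ (hg i)).symm).trans ?_
      rw [hge i, reassoc_of% hc, ← hge j, comp_eact]
      exact eact_congr D rfl (by rw [hc]; exact (Category.assoc _ _ _).symm)
  let g₀ := Scheme.Cover.glueMorphisms 𝒲 g hglue
  have hg₀ : g₀ ≫ G.hom = (x ≫ (obj D).hom) ≫ q := by
    refine Scheme.Cover.hom_ext 𝒲 _ _ fun i => ?_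
    rw [← Category.assoc, Scheme.Cover.ι_glueMorphisms, hg]
    simp only [Category.assoc]
  refine ⟨g₀, hg₀, Scheme.Cover.hom_ext 𝒲 _ _ fun i => ?_⟩
  rw [comp_eact, ← hge i]
  exact eact_congr D (Scheme.Cover.ι_glueMorphisms 𝒲 g hglue i) rfl

include ha hb hcov in
theorem isPseudoTorsorSch_action : NonAbH1.IsPseudoTorsorSch (action D) := by
  refine Groth.Agent.Lib.TorsorSch.FibreProd.pseudo_of_existsUnique fun {T} x y => ?_
  obtain ⟨g, hg, e⟩ := exists_eact_eq D ha hb hcov x.left y.left ((Over.w x).trans (Over.w y).symm)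
  refine ⟨(Over.homMk (pullback.lift g T.hom (by rw [hg, Over.w x])) (pullback.lift_snd _ _ _) : T ⟶ Red.bc q G), ?_, ?_⟩
  · ext1
    exact (actMor_pts D _ x).trans ((eact_congr D (pullback.lift_fst _ _ _) rfl).trans e)
  · intro g' hg'
    have h1 := (actMor_pts D g' x).symm.trans ((congrArg CommaMorphism.left hg').trans e.symm)
    have h2 := eact_left_cancel D ha hb _ _ _ _ _ h1
    ext1
    apply pullback.hom_ext
    · exact h2.trans (pullback.lift_fst _ _ _).symm
    · exact (Over.w g').trans (pullback.lift_snd _ _ _).symm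

include hcov in
theorem isLocallyTrivialFor_obj (hM : NonAbH1.IsLocallyTrivialFor Scheme.fppfPrecoverage M)
    (hN : NonAbH1.IsLocallyTrivialFor Scheme.fppfPrecoverage N) :
    NonAbH1.IsLocallyTrivialFor Scheme.fppfPrecoverage (obj D) := by
  refine ⟨fun V g => (Flat g ∧ LocallyOfFinitePresentation g) ∧ NonAbH1.HasSectionOver (obj D) g, ⟨?_, fun {V} g hg => hg.1⟩,
    fun V g hg => hg.2⟩
  rw [Presieve.mem_comap_jointlySurjectivePrecoverage_iff]
  intro x
  rcases hcov x with ⟨v, hv⟩ | ⟨v, hv⟩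
  · obtain ⟨R, hR, hsec⟩ := hM
    obtain ⟨V, g, hg, z, hz⟩ := ((Presieve.mem_comap_jointlySurjectivePrecoverage_iff _).1 hR.1) x
    obtain ⟨w, hw, -⟩ := Scheme.Pullback.exists_preimage_pullback (f := g) (g := j₁) z v (hz.trans hv.symm)
    obtain ⟨hfl, hfp⟩ := hR.2 hg
    obtain ⟨m, hm⟩ := hsec g hg
    refine ⟨pullback g j₁, pullback.fst g j₁ ≫ g, ⟨⟨inferInstance, inferInstance⟩, ?_⟩, w, ?_⟩
    · exact exists_pt_of₁ D (pullback.snd g j₁) pullback.condition.symm (pullback.fst g j₁ ≫ m)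
        (by rw [Category.assoc, hm])
    · show (pullback.fst g j₁ ≫ g) w = x
      rw [Scheme.Hom.comp_apply, hw]
      exact hz
  · obtain ⟨R, hR, hsec⟩ := hN
    obtain ⟨V, g, hg, z, hz⟩ := ((Presieve.mem_comap_jointlySurjectivePrecoverage_iff _).1 hR.1) x
    obtain ⟨w, hw, -⟩ := Scheme.Pullback.exists_preimage_pullback (f := g) (g := j₂) z v (hz.trans hv.symm)
    obtain ⟨hfl, hfp⟩ := hR.2 hg
    obtain ⟨m, hm⟩ := hsec g hg
    refine ⟨pullback g j₂, pullback.fst g j₂ ≫ g, ⟨⟨inferInstance, inferInstance⟩, ?_⟩, w, ?_⟩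
    · exact exists_pt_of₂ D (pullback.snd g j₂) pullback.condition.symm (pullback.fst g j₂ ≫ m)
        (by rw [Category.assoc, hm])
    · show (pullback.fst g j₂ ≫ g) w = x
      rw [Scheme.Hom.comp_apply, hw]
      exact hz

end Groth.Agent.Lib.TorsorQuillen.GlueTorsor
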