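import Groth.Agent.Lib.TorsorQuillen.Descends

/-!
# Quillen patching: the elements over which a torsor descends form an ideal
-/

universe u

open CategoryTheory CategoryTheory.Limits MonoidalCategory CartesianMonoidalCategory MonObj GrpObj AlgebraicGeometry

namespace Groth.Agent.Lib.TorsorQuillen.Ideal

open Pts Descend Patch Descends

variable {n : Type u} {S : Scheme.{u}} {G : Over S} [GrpObj G] {X : Over 𝔸(n; S)}
  {a : AlgGrp.Action (Red.bc (𝔸(n; S) ↘ S) G) X}

theorem locallyOfFinitePresentation_hom (ha : NonAbH1.IsTorsorFor Scheme.fppfPrecoverage a)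
    [LocallyOfFinitePresentation G.hom] : LocallyOfFinitePresentation X.hom :=
  Groth.Agent.Lib.TorsorSch.Basic.of_hom (P := @LocallyOfFinitePresentation)
    (Groth.Agent.Lib.TorsorSch.Descent.isTorsorFor_mono Scheme.fppfPrecoverage_le_fpqcPrecoverage ha)
    (inferInstanceAs (LocallyOfFinitePresentation (pullback.snd G.hom (𝔸(n; S) ↘ S))))

/-- Descent along a morphism follows from descent along a larger one. -/
theorem descends_of_factors (ha : NonAbH1.IsTorsorFor Scheme.fppfPrecoverage a) {U U' : Scheme.{u}} {ρ : U ⟶ S}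
    {ρ' : U' ⟶ S} (k : U' ⟶ U) (hk : k ≫ ρ = ρ') (h : Descends a ρ) : Descends a ρ' := by
  obtain ⟨Φ⟩ := desc_of_descends h
  obtain ⟨H⟩ := hm_of_desc Φ (pullback.fst (𝔸(n; S) ↘ S) ρ') (pullback.snd (𝔸(n; S) ↘ S) ρ' ≫ k)
    (by rw [Category.assoc, hk, pullback.condition])
  exact descends_of_hm ha ρ' H

/-- Descent along an empty scheme. -/
theorem descends_of_isEmpty (ha : NonAbH1.IsTorsorFor Scheme.fppfPrecoverage a) {U : Scheme.{u}} [IsEmpty U]
    (ρ : U ⟶ S) : Descends a ρ := by
  have hi : ∀ {W : Scheme.{u}}, (W ⟶ pullback (𝔸(n; S) ↘ S) ρ) → IsInitial W := fun {W} w =>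
    haveI : IsEmpty W := Function.isEmpty (w ≫ pullback.snd (𝔸(n; S) ↘ S) ρ)
    isInitialOfIsEmpty
  exact descends_of_hm ha ρ
    { hq := zz_q _
      app := fun w _ _ => (hi w).to _
      π := fun w _ _ => (hi w).hom_ext _ _
      nat := fun b w _ _ => (hi (b ≫ w)).hom_ext _ _
      equiv := fun w _ _ _ _ => (hi w).hom_ext _ _ }

/-- **Quillen's lemma**: descents over `D(r)` and `D(s)` give a descent over `D(r + s)`. -/
theorem descends_add (ha : NonAbH1.IsTorsorFor Scheme.fppfPrecoverage a) [LocallyOfFinitePresentation G.hom]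
    {R : Type u} [CommRing R] (g : Spec (CommRingCat.of R) ⟶ S) (r s : R)
    (hr : Descends a (Spec.map (CommRingCat.ofHom (algebraMap R (Localization.Away r))) ≫ g))
    (hs : Descends a (Spec.map (CommRingCat.ofHom (algebraMap R (Localization.Away s))) ≫ g)) :
    Descends a (Spec.map (CommRingCat.ofHom (algebraMap R (Localization.Away (r + s)))) ≫ g) := by
  have := locallyOfFinitePresentation_hom ha
  obtain ⟨Φ⟩ := desc_of_descends hr
  obtain ⟨Ψ⟩ := desc_of_descends hs
  let R' := Localization.Away (r + s)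
  let ρ := Spec.map (CommRingCat.ofHom (algebraMap R R')) ≫ g
  let T := pullback (𝔸(n; S) ↘ S) ρ
  haveI : IsAffine T := isAffine_of_isAffineHom (pullback.snd (𝔸(n; S) ↘ S) ρ)
  let P := Γ(T, ⊤)
  let p : Spec (CommRingCat.of P) ⟶ 𝔸(n; S) := T.isoSpec.inv ≫ pullback.fst (𝔸(n; S) ↘ S) ρ
  obtain ⟨φ, hφ⟩ : ∃ φ : CommRingCat.of R' ⟶ CommRingCat.of P,
      Spec.map φ = T.isoSpec.inv ≫ pullback.snd (𝔸(n; S) ↘ S) ρ := ⟨_, Spec.map_preimage _⟩
  let f : R →+* P := φ.hom.comp (algebraMap R R')
  have hp : p ≫ 𝔸(n; S) ↘ S = Spec.map (CommRingCat.ofHom f) ≫ g := by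
    simp only [p, Category.assoc, pullback.condition, ρ]
    rw [← reassoc_of% hφ, ← Spec.map_comp_assoc]
    rfl
  have hcop : IsCoprime (f r) (f s) := by
    obtain ⟨u, hu⟩ : IsUnit (f (r + s)) := (IsLocalization.Away.algebraMap_isUnit (r + s)).map φ.hom
    refine ⟨↑u⁻¹, ↑u⁻¹, ?_⟩
    rw [← mul_add, ← map_add, ← hu, Units.inv_mul]
  have key : ∀ (c : R), ∃ tc : Spec (CommRingCat.of (Localization.Away (f c))) ⟶ Spec (CommRingCat.of (Localization.Away c)),
      (Spec.map (CommRingCat.ofHom (algebraMap P (Localization.Away (f c)))) ≫ p) ≫ 𝔸(n; S) ↘ S =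
        tc ≫ Spec.map (CommRingCat.ofHom (algebraMap R (Localization.Away c))) ≫ g := by
    intro c
    have hu : IsUnit (((algebraMap P (Localization.Away (f c))).comp f) c) := IsLocalization.Away.algebraMap_isUnit (f c)
    refine ⟨Spec.map (CommRingCat.ofHom (IsLocalization.Away.lift (S := Localization.Away c) c hu)), ?_⟩
    rw [Category.assoc, hp, ← Spec.map_comp_assoc, ← Spec.map_comp_assoc, ← CommRingCat.ofHom_comp,
      ← CommRingCat.ofHom_comp]
    congr 2
    exact congrArg CommRingCat.ofHom (IsLocalization.Away.lift_comp (S := Localization.Away c) c hu).symm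
  obtain ⟨tr, htr⟩ := key r
  obtain ⟨ts, hts⟩ := key s
  obtain ⟨H⟩ := exists_patch p (f r) (f s)
    (Groth.Agent.Lib.TorsorSch.Descent.isTorsorFor_mono Scheme.fppfPrecoverage_le_fpqcPrecoverage ha) hcop Φ Ψ tr htr ts hts
  have e : T.isoSpec.hom ≫ p = pullback.fst (𝔸(n; S) ↘ S) ρ := Iso.hom_inv_id_assoc _ _
  exact descends_of_hm ha ρ (H.pull T.isoSpec.hom _ _ (by rw [comp_zz, e]) e)

/-- The elements over which the torsor descends form an ideal. -/
theorem exists_ideal (ha : NonAbH1.IsTorsorFor Scheme.fppfPrecoverage a) [LocallyOfFinitePresentation G.hom]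
    {R : Type u} [CommRing R] (g : Spec (CommRingCat.of R) ⟶ S) :
    ∃ I : _root_.Ideal R, ∀ r : R,
      r ∈ I ↔ Descends a (Spec.map (CommRingCat.ofHom (algebraMap R (Localization.Away r))) ≫ g) := by
  refine ⟨{ carrier := {r | Descends a (Spec.map (CommRingCat.ofHom (algebraMap R (Localization.Away r))) ≫ g)}
            add_mem' := fun {r s} hr hs => descends_add ha g r s hr hs
            zero_mem' := ?_
            smul_mem' := fun c r hr => ?_ }, fun r => Iff.rfl⟩
  · have : Subsingleton (Localization.Away (0 : R)) := IsLocalization.subsingleton (M := Submonoid.powers (0 : R))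
      (Submonoid.mem_powers 0)
    have : IsEmpty (Spec (CommRingCat.of (Localization.Away (0 : R)))) := inferInstanceAs (IsEmpty (PrimeSpectrum _))
    exact descends_of_isEmpty ha _
  · have hu : IsUnit (algebraMap R (Localization.Away (c * r)) r) := by
      have := IsLocalization.Away.algebraMap_isUnit (c * r) (S := Localization.Away (c * r))
      rw [map_mul] at this
      exact isUnit_of_mul_isUnit_right this
    refine descends_of_factors ha (Spec.map (CommRingCat.ofHom (IsLocalization.Away.lift (S := Localization.Away r) r hu))) ?_ hr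
    rw [← Spec.map_comp_assoc, ← CommRingCat.ofHom_comp]
    congr 3
    exact IsLocalization.Away.lift_comp (S := Localization.Away r) r hu

end Groth.Agent.Lib.TorsorQuillen.Ideal
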