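import Groth.Agent.Lib.TorsorQuillen.Top
import Groth.Agent.Lib.TorsorQuillen.Glue
import Groth.Agent.Lib.Lim.LocalLimit
import Groth.Agent.Lib.Lim.Basic

/-!
# Torsors over the affine line which are trivial over the local rings of the base
-/

universe u

open CategoryTheory CategoryTheory.Limits MonoidalCategory CartesianMonoidalCategory MonObj GrpObj AlgebraicGeometry

namespace Groth.Agent.Lib.TorsorQuillen.Line

open Pts Patch Descends Ideal

variable {R : Type u} [CommRing R]

variable (R) in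
/-- The affine line. -/
noncomputable abbrev L : Scheme.{u} := 𝔸(PUnit.{u + 1}; Spec (CommRingCat.of R))

/-- The coordinate. -/
noncomputable abbrev co : Γ(L R, ⊤) := AffineSpace.coord (Spec (CommRingCat.of R)) PUnit.unit

variable (R) in
/-- The affine line over an algebra. -/
noncomputable def θ (B : Type u) [CommRing B] [Algebra R B] : Spec (CommRingCat.of (Polynomial B)) ⟶ L R :=
  AffineSpace.homOfVector (Spec.map (CommRingCat.ofHom (Polynomial.C.comp (algebraMap R B))))
    fun _ => fn (Polynomial B) Polynomial.X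

theorem θ_q (B : Type u) [CommRing B] [Algebra R B] :
    θ R B ≫ L R ↘ Spec (CommRingCat.of R) = Spec.map (CommRingCat.ofHom (Polynomial.C.comp (algebraMap R B))) :=
  AffineSpace.homOfVector_over _ _

theorem θ_co (B : Type u) [CommRing B] [Algebra R B] : (θ R B).appTop (co (R := R)) = fn (Polynomial B) Polynomial.X :=
  AffineSpace.homOfVector_appTop_coord _ _ _

theorem hom_ext {W : Scheme.{u}} {y y' : W ⟶ L R} (e : y ≫ L R ↘ Spec (CommRingCat.of R) = y' ≫ L R ↘ Spec (CommRingCat.of R))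
    (e' : y.appTop (co (R := R)) = y'.appTop (co (R := R))) : y = y' :=
  AffineSpace.hom_ext e fun ⟨⟩ => e'

theorem map_θ {B B' : Type u} [CommRing B] [CommRing B'] [Algebra R B] [Algebra R B'] (f : B →+* B')
    (hf : f.comp (algebraMap R B) = algebraMap R B') :
    Spec.map (CommRingCat.ofHom (Polynomial.mapRingHom f)) ≫ θ R B = θ R B' := by
  refine hom_ext ?_ ?_
  · rw [Category.assoc, θ_q, θ_q, ← Spec.map_comp, ← CommRingCat.ofHom_comp, ← RingHom.comp_assoc,
      Polynomial.mapRingHom_comp_C, RingHom.comp_assoc, hf]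
  · rw [Scheme.Hom.comp_appTop]
    show (Spec.map _).appTop ((θ R B).appTop (co (R := R))) = _
    rw [θ_co, θ_co, appTop_fn]
    simp

/-- Every point of the affine line comes from the polynomial ring. -/
theorem exists_lift_θ {W : Scheme.{u}} (y : W ⟶ L R) :
    ∃ κ : W ⟶ Spec (CommRingCat.of (Polynomial R)), κ ≫ θ R R = y := by
  let q := L R ↘ Spec (CommRingCat.of R)
  let φ₀ : CommRingCat.of R ⟶ Γ(W, ⊤) := (Scheme.ΓSpecIso _).inv ≫ (y ≫ q).appTop
  let φ : Polynomial R →+* Γ(W, ⊤) := Polynomial.eval₂RingHom φ₀.hom (y.appTop (co (R := R)))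
  refine ⟨W.toSpecΓ ≫ Spec.map (CommRingCat.ofHom φ), hom_ext ?_ ?_⟩
  · have e : CommRingCat.ofHom (φ.comp Polynomial.C) = φ₀ := by
      ext r
      exact Polynomial.eval₂_C _ _
    rw [Category.assoc, Category.assoc, θ_q, Algebra.algebraMap_self, RingHom.comp_id, ← Spec.map_comp,
      ← CommRingCat.ofHom_comp, e]
    simp only [φ₀, Spec.map_comp]
    rw [← Scheme.toSpecΓ_naturality_assoc, ← SpecMap_ΓSpecIso_hom, ← Spec.map_comp, Iso.inv_hom_id, Spec.map_id,
      Category.comp_id]
  · rw [Scheme.Hom.comp_appTop, Scheme.Hom.comp_appTop]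
    show W.toSpecΓ.appTop ((Spec.map (CommRingCat.ofHom φ)).appTop ((θ R R).appTop (co (R := R)))) = _
    rw [θ_co, appTop_fn, Scheme.toSpecΓ_appTop]
    simp [φ, fn]
    exact (Scheme.ΓSpecIso Γ(W, ⊤)).inv_hom_id_apply _

variable {G : Over (Spec (CommRingCat.of R))} [GrpObj G]

/-- The hypothesis: over every local ring of the base, torsors on the affine line which are trivial away
from a finite closed subscheme are trivial. -/
def HLoc (G : Over (Spec (CommRingCat.of R))) [GrpObj G] : Prop :=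
  ∀ (m : _root_.Ideal R) [m.IsMaximal]
    (Y : NonAbH1.TorsorSch (Red.bc (Spec.map (CommRingCat.ofHom (algebraMap (Localization.AtPrime m) (Polynomial (Localization.AtPrime m))))) (Red.bc (Spec.map (CommRingCat.ofHom (algebraMap R (Localization.AtPrime m)))) G)) Scheme.fppfPrecoverage),
    (∃ I : _root_.Ideal (Polynomial (Localization.AtPrime m)), Module.Finite (Localization.AtPrime m) (Polynomial (Localization.AtPrime m) ⧸ I) ∧
      NonAbH1.HasSectionOver Y.X (Scheme.Opens.ι
        (⟨(PrimeSpectrum.zeroLocus (I : Set (Polynomial (Localization.AtPrime m))))ᶜ,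
          (PrimeSpectrum.isClosed_zeroLocus _).isOpen_compl⟩ : (Spec (CommRingCat.of (Polynomial (Localization.AtPrime m)))).Opens))) →
    NonAbH1.HasSectionOver Y.X (𝟙 (Spec (CommRingCat.of (Polynomial (Localization.AtPrime m)))))

variable {E : Over (L R)} {aE : AlgGrp.Action (Red.bc (L R ↘ Spec (CommRingCat.of R)) G) E}

/-- Base change of a torsor on a scheme over the base, as a torsor under an iterated base change of the group. -/
theorem exists_torsor_bcbc {S A T T' : Scheme.{u}} {q : A ⟶ S} {H : Over S} [GrpObj H] {X : Over A}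
    {a : AlgGrp.Action (Red.bc q H) X} (ha : NonAbH1.IsTorsorFor Scheme.fppfPrecoverage a)
    (t : T ⟶ A) (d₂ : T ⟶ T') (d₁ : T' ⟶ S) (h : t ≫ q = d₂ ≫ d₁) :
    ∃ Y : NonAbH1.TorsorSch (Red.bc d₂ (Red.bc d₁ H)) Scheme.fppfPrecoverage,
      ∀ {U : Scheme.{u}} (i : U ⟶ T), NonAbH1.HasSectionOver Y.X i ↔ NonAbH1.HasSectionOver X (i ≫ t) := by
  let c₁ := ActBC.bcCompIso t q H h
  let c₂ := ActBC.bcCompIso d₂ d₁ H rfl
  haveI : IsMonHom c₁.symm.hom := inferInstanceAs (IsMonHom c₁.inv)
  refine ⟨⟨Red.bc t X, ((a.bc t).restrict c₁.inv).restrict c₂.hom,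
    isPseudoTorsorSch_restrict c₂ (isPseudoTorsorSch_restrict c₁.symm (NonAbH1.isPseudoTorsorSch_bc _ ha.1)),
    NonAbH1.isLocallyTrivialFor_bc t _ ha.2⟩, fun {U} i => ⟨?_, ?_⟩⟩
  · rintro ⟨s, hs⟩
    refine ⟨s ≫ pullback.fst X.hom t, ?_⟩
    rw [Category.assoc, pullback.condition]
    exact (Category.assoc _ _ _).symm.trans (congrArg (· ≫ t) hs)
  · rintro ⟨s, hs⟩
    exact ⟨pullback.lift s i hs, pullback.lift_snd _ _ _⟩

/-- A torsor trivial away from the zero locus of a monic polynomial over a local ring is trivial there. -/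
theorem exists_local_point (hloc : HLoc G) (hE : NonAbH1.IsTorsorFor Scheme.fppfPrecoverage aE)
    (m : _root_.Ideal R) [m.IsMaximal] (p : Polynomial (Localization.AtPrime m)) (hp : p.Monic)
    (pt : Spec (CommRingCat.of (Localization.Away p)) ⟶ E.left)
    (hpt : pt ≫ E.hom =
      Spec.map (CommRingCat.ofHom (algebraMap (Polynomial (Localization.AtPrime m)) (Localization.Away p))) ≫
        θ R (Localization.AtPrime m)) :
    ∃ s : Spec (CommRingCat.of (Polynomial (Localization.AtPrime m))) ⟶ E.left,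
      s ≫ E.hom = θ R (Localization.AtPrime m) := by
  let B := Localization.AtPrime m
  obtain ⟨Y, hY⟩ := exists_torsor_bcbc hE (θ R B)
    (Spec.map (CommRingCat.ofHom (algebraMap B (Polynomial B)))) (Spec.map (CommRingCat.ofHom (algebraMap R B)))
    (by rw [θ_q, ← Spec.map_comp, ← CommRingCat.ofHom_comp, Polynomial.algebraMap_eq])
  let V : (Spec (CommRingCat.of (Polynomial B))).Opens :=
    ⟨(PrimeSpectrum.zeroLocus (_root_.Ideal.span {p} : Set (Polynomial B)))ᶜ, (PrimeSpectrum.isClosed_zeroLocus _).isOpen_compl⟩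
  let jp := Spec.map (CommRingCat.ofHom (algebraMap (Polynomial B) (Localization.Away p)))
  haveI : IsOpenImmersion jp := IsOpenImmersion.of_isLocalization p
  have hr : Set.range V.ι ⊆ Set.range jp := by
    rw [Scheme.Opens.range_ι]
    intro z hz
    have hz' : z ∈ Set.range (PrimeSpectrum.comap (algebraMap (Polynomial B) (Localization.Away p))) := by
      rw [PrimeSpectrum.localization_away_comap_range (Localization.Away p) p, PrimeSpectrum.basicOpen_eq_zeroLocus_compl,
        ← PrimeSpectrum.zeroLocus_span]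
      exact hz
    exact hz'
  have hV : NonAbH1.HasSectionOver Y.X V.ι := (hY V.ι).2 ⟨IsOpenImmersion.lift jp V.ι hr ≫ pt, by
    rw [Category.assoc, hpt]
    exact IsOpenImmersion.lift_fac_assoc _ _ _ _⟩
  obtain ⟨s, hs⟩ := (hY _).1 (hloc m Y ⟨_root_.Ideal.span {p}, Polynomial.Monic.finite_quotient hp, hV⟩)
  exact ⟨s, hs.trans (Category.id_comp _)⟩

/-- A point over the line of a local ring spreads out. -/
theorem exists_spread_point [LocallyOfFinitePresentation E.hom] (m : _root_.Ideal R) [m.IsPrime]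
    (s : Spec (CommRingCat.of (Polynomial (Localization.AtPrime m))) ⟶ E.left)
    (hs : s ≫ E.hom = θ R (Localization.AtPrime m)) :
    ∃ f : R, f ∉ m ∧ ∃ (W : Scheme.{u}) (k : W ⟶ Spec (CommRingCat.of (Polynomial R))) (t : W ⟶ E.left),
      t ≫ E.hom = k ≫ θ R R ∧
      (Spec.map (CommRingCat.ofHom Polynomial.C)) ⁻¹' (PrimeSpectrum.basicOpen f : Set (PrimeSpectrum R)) ⊆ Set.range k ∧
      IsOpenImmersion k := by
  let A : CommRingCat.{u} := CommRingCat.of R
  let pp : PrimeSpectrum A := ⟨m, ‹_›⟩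
  let i₀ : Lim.LocalLimit.Nhd pp := ⟨1, (_root_.Ideal.ne_top_iff_one m).1 (_root_.Ideal.IsPrime.ne_top ‹_›)⟩
  let D := Lim.LocalLimit.diag pp
  let ι₀ : D.obj i₀ ⟶ Spec A := (Lim.LocalLimit.op' pp i₀).ι
  haveI : IsOpenImmersion ι₀ := inferInstanceAs (IsOpenImmersion (Lim.LocalLimit.op' pp i₀).ι)
  let sC := Spec.map (CommRingCat.ofHom (Polynomial.C : R →+* Polynomial R))
  let a₀ : Spec (CommRingCat.of (Polynomial R)) ⟶ D.obj i₀ := IsOpenImmersion.lift ι₀ sC (by
    show Set.range sC ⊆ Set.range (Lim.LocalLimit.op' pp i₀).ι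
    rw [Scheme.Opens.range_ι]
    intro z _
    show z ∈ PrimeSpectrum.basicOpen (1 : R)
    rw [PrimeSpectrum.basicOpen_one]
    trivial)
  have ha₀ : a₀ ≫ ι₀ = sC := IsOpenImmersion.lift_fac _ _ _
  let B := Localization.AtPrime m
  let qq := Spec.map (CommRingCat.ofHom (Polynomial.mapRingHom (algebraMap R B)))
  let pc : Spec (CommRingCat.of (Polynomial B)) ⟶ (Lim.LocalLimit.cone pp).pt :=
    Spec.map (CommRingCat.ofHom (Polynomial.C : B →+* Polynomial B))
  have hpi : (Lim.LocalLimit.cone pp).π.app i₀ ≫ ι₀ = Spec.map (CommRingCat.ofHom (algebraMap R B)) :=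
    Lim.LocalLimit.cone_π_ι pp i₀
  have h0 : IsPullback qq pc sC (Spec.map (CommRingCat.ofHom (algebraMap R B))) :=
    (Cover.isPullback_poly (B := R) (B' := B)).flip
  have h : IsPullback qq pc a₀ ((Lim.LocalLimit.cone pp).π.app i₀) := by
    refine IsPullback.mk' ?_ (fun T φ φ' e e' => h0.hom_ext e e') (fun T x y e => ?_)
    · rw [← cancel_mono ι₀, Category.assoc, Category.assoc, ha₀, hpi, h0.w]
    · have e' : x ≫ sC = y ≫ Spec.map (CommRingCat.ofHom (algebraMap R B)) := by
        rw [← ha₀, ← hpi, reassoc_of% e]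
      exact ⟨h0.lift x y e', h0.lift_fst _ _ _, h0.lift_snd _ _ _⟩
  haveI : ∀ {i j : Lim.LocalLimit.Nhd pp} (f : i ⟶ j), IsAffineHom (D.map f) := fun f => inferInstance
  obtain ⟨j, φ, g', hg', -⟩ := Lim.Basic.exists_bc_hom (D := D) (a := a₀) (Lim.LocalLimit.isLimit pp) h E.hom (θ R R) s (by
    rw [hs]
    exact (map_θ (algebraMap R B) (RingHom.ext fun _ => rfl)).symm)
  refine ⟨j.1, j.2, pullback a₀ (D.map φ), pullback.fst a₀ (D.map φ), g', hg', ?_, ?_⟩
  · intro z hz
    have hz' : (ι₀ (a₀ z)) ∈ (Lim.LocalLimit.op' pp j : Set _) := by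
      rw [← Scheme.Hom.comp_apply, ha₀]; exact hz
    obtain ⟨v, hv⟩ : ι₀ (a₀ z) ∈ Set.range (Lim.LocalLimit.op' pp j).ι := by
      rw [Scheme.Opens.range_ι]; exact hz'
    have e : a₀ z = D.map φ v := ι₀.isOpenEmbedding.injective (by
      rw [← hv, ← Scheme.Hom.comp_apply (D.map φ)]
      exact congr($(((Spec A).homOfLE_ι (leOfHom φ)).symm) v))
    obtain ⟨w, hw, -⟩ := Scheme.Pullback.exists_preimage_pullback _ _ e
    exact ⟨w, hw⟩
  · haveI : IsOpenImmersion (D.map φ) := by
      show IsOpenImmersion ((Spec A).homOfLE (leOfHom φ))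
      infer_instance
    infer_instance

variable {a : AlgGrp.Action (Red.bc (L R ↘ Spec (CommRingCat.of R)) G) E}

/-- A torsor with a point over the preimage of an open subscheme descends there. -/
theorem descends_of_point {n : Type u} {S : Scheme.{u}} {H : Over S} [GrpObj H] {X : Over 𝔸(n; S)}
    {a : AlgGrp.Action (Red.bc (𝔸(n; S) ↘ S) H) X} (ha : NonAbH1.IsTorsorFor Scheme.fppfPrecoverage a)
    {U : Scheme.{u}} (ρ : U ⟶ S) (sec : pullback (𝔸(n; S) ↘ S) ρ ⟶ X.left)
    (hsec : sec ≫ X.hom = pullback.fst _ _) : Descends a ρ := by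
  let T := pullback (𝔸(n; S) ↘ S) ρ
  let z₀ : T ⟶ T := pullback.lift (zz (pullback.fst _ _)) (pullback.snd _ _) (by rw [zz_q, pullback.condition])
  obtain ⟨f, -⟩ := Glue.exists_hm_map (b := a) (c := zz (pullback.fst _ _)) ha.1 (z₀ ≫ sec) sec
    (c' := pullback.fst _ _) (zz_q _) (by rw [Category.assoc, hsec, pullback.lift_fst]) hsec
  exact descends_of_hm ha ρ f

/-- **Local-to-global on the affine line.** -/
theorem exists_torsor_of_local_points [LocallyOfFinitePresentation G.hom]
    (hE : NonAbH1.IsTorsorFor Scheme.fppfPrecoverage aE)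
    (hpts : ∀ (m : _root_.Ideal R) [m.IsMaximal], ∃ s : Spec (CommRingCat.of (Polynomial (Localization.AtPrime m))) ⟶ E.left,
      s ≫ E.hom = θ R (Localization.AtPrime m)) :
    ∃ P : NonAbH1.TorsorSch G Scheme.fppfPrecoverage,
      Nonempty (NonAbH1.EquivIso (P.act.bc (L R ↘ Spec (CommRingCat.of R))) aE) := by
  haveI := locallyOfFinitePresentation_hom hE
  obtain ⟨I, hI⟩ := exists_ideal hE (R := R) (𝟙 (Spec (CommRingCat.of R)))
  refine Top.exists_torsor_of_local hE fun z => ?_
  obtain ⟨m, hm, hle⟩ := _root_.Ideal.exists_le_maximal z.asIdeal z.2.ne_top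
  obtain ⟨s, hs⟩ := hpts m
  obtain ⟨f, hf, W, k, t, ht, hk, hko⟩ := exists_spread_point m s hs
  let j := Spec.map (CommRingCat.ofHom (algebraMap R (Localization.Away f)))
  refine ⟨_, j, IsOpenImmersion.of_isLocalization f, ?_, ?_⟩
  · have : z ∈ Set.range (PrimeSpectrum.comap (algebraMap R (Localization.Away f))) := by
      rw [PrimeSpectrum.localization_away_comap_range (Localization.Away f) f]
      exact fun hz => hf (hle hz)
    exact this
  · let q := L R ↘ Spec (CommRingCat.of R)
    let T := pullback q j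
    obtain ⟨κ, hκ⟩ := exists_lift_θ (pullback.fst q j)
    have hκC : κ ≫ Spec.map (CommRingCat.ofHom Polynomial.C) = pullback.snd q j ≫ j := by
      rw [← pullback.condition, ← hκ, Category.assoc, θ_q, Algebra.algebraMap_self, RingHom.comp_id]
    have hr : Set.range κ ⊆ Set.range k := by
      rintro _ ⟨x, rfl⟩
      refine hk ?_
      show (Spec.map (CommRingCat.ofHom Polynomial.C)) (κ x) ∈ PrimeSpectrum.basicOpen f
      rw [← Scheme.Hom.comp_apply, hκC, Scheme.Hom.comp_apply]
      exact (PrimeSpectrum.localization_away_comap_range (Localization.Away f) f).subset ⟨_, rfl⟩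
    refine descends_of_point hE j (IsOpenImmersion.lift k κ hr ≫ t) ?_
    rw [Category.assoc, ht, IsOpenImmersion.lift_fac_assoc, hκ]

end Groth.Agent.Lib.TorsorQuillen.Line
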