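import Groth.Agent.Lib.TorsorQuillen.Line
import Groth.Agent.Lib.TorsorQuillen.GlueTorsor

/-!
# Torsors on the affine line trivial away from a finite closed subscheme
-/

universe u

open CategoryTheory CategoryTheory.Limits MonoidalCategory CartesianMonoidalCategory MonObj GrpObj AlgebraicGeometry

namespace Groth.Agent.Lib.TorsorQuillen.LineMain

open Pts Patch Line

section units

/-- A function invertible at all points is invertible. -/
theorem isUnit_of_forall_mem_basicOpen {W : Scheme.{u}} (r : Γ(W, ⊤)) (h : ∀ x : W, x ∈ W.basicOpen r) : IsUnit r :=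
  W.toRingedSpace.isUnit_of_isUnit_germ ⊤ r fun x hx => (Scheme.mem_basicOpen W r x hx).1 (h x)

/-- The range of a morphism lies in the locus where a function is invertible iff its pullback is a unit. -/
theorem range_subset_basicOpen_iff {W A : Scheme.{u}} (y : W ⟶ A) (r : Γ(A, ⊤)) :
    Set.range y ⊆ Set.range (A.basicOpen r).ι ↔ IsUnit (y.appTop r) := by
  rw [Scheme.Opens.range_ι]
  constructor
  · intro h
    refine isUnit_of_forall_mem_basicOpen _ fun x => ?_
    rw [← Scheme.preimage_basicOpen_top]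
    exact h ⟨x, rfl⟩
  · rintro h _ ⟨x, rfl⟩
    show x ∈ y ⁻¹ᵁ A.basicOpen r
    rw [Scheme.preimage_basicOpen_top, Scheme.mem_basicOpen W _ x (TopologicalSpace.Opens.mem_top x)]
    exact h.map _

end units

variable {R : Type u} [CommRing R]

theorem mono_θ {W : Scheme.{u}} {k k' : W ⟶ Spec (CommRingCat.of (Polynomial R))} (e : k ≫ θ R R = k' ≫ θ R R) :
    k = k' := by
  refine ext_of_isAffine ?_
  ext x
  obtain ⟨p, rfl⟩ : ∃ p : Polynomial R, (Scheme.ΓSpecIso _).inv p = x :=
    ⟨(Scheme.ΓSpecIso _).hom x, (Scheme.ΓSpecIso _).hom_inv_id_apply x⟩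
  let α : Polynomial R →+* Γ(W, ⊤) := k.appTop.hom.comp (Scheme.ΓSpecIso (CommRingCat.of (Polynomial R))).inv.hom
  let β : Polynomial R →+* Γ(W, ⊤) := k'.appTop.hom.comp (Scheme.ΓSpecIso (CommRingCat.of (Polynomial R))).inv.hom
  suffices α = β from congr($this p)
  refine Polynomial.ringHom_ext (fun r => ?_) ?_
  · have h := congr($(congrArg (fun z => (z ≫ L R ↘ Spec (CommRingCat.of R)).appTop) e) (fn R r))
    simp only [Category.assoc, θ_q, Algebra.algebraMap_self, RingHom.comp_id, Scheme.Hom.comp_appTop] at h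
    have e1 := appTop_fn (Polynomial.C : R →+* Polynomial R) r
    exact (congrArg k.appTop e1).symm.trans (h.trans (congrArg k'.appTop e1))
  · have h := congr($(congrArg Scheme.Hom.appTop e) (co (R := R)))
    simp only [Scheme.Hom.comp_appTop] at h
    have e1 := θ_co (R := R) R
    exact (congrArg k.appTop e1).symm.trans (h.trans (congrArg k'.appTop e1))

variable {G : Over (Spec (CommRingCat.of R))} [GrpObj G]

local notation "S₀" => Spec (CommRingCat.of R)

/-- Points of a constant torsor. -/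
theorem hasSectionOver_iff {E : Over (L R)} {aE : AlgGrp.Action (Red.bc (L R ↘ S₀) G) E}
    {P : NonAbH1.TorsorSch G Scheme.fppfPrecoverage} (e : NonAbH1.EquivIso (P.act.bc (L R ↘ S₀)) aE)
    {W : Scheme.{u}} (y : W ⟶ L R) :
    NonAbH1.HasSectionOver E y ↔ NonAbH1.HasSectionOver P.X (y ≫ L R ↘ S₀) := by
  constructor
  · rintro ⟨s, hs⟩
    refine ⟨s ≫ e.iso.inv.left ≫ pullback.fst P.X.hom (L R ↘ S₀), ?_⟩
    rw [Category.assoc, Category.assoc, pullback.condition, ← Category.assoc e.iso.inv.left,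
      show e.iso.inv.left ≫ pullback.snd P.X.hom (L R ↘ S₀) = E.hom from Over.w e.iso.inv, reassoc_of% hs]
  · rintro ⟨s, hs⟩
    refine ⟨pullback.lift s y hs ≫ e.iso.hom.left, ?_⟩
    rw [Category.assoc, Over.w e.iso.hom]
    exact pullback.lift_snd _ _ _

/-- The unit section of a base change of the group. -/
theorem hasSectionOver_group {S A : Scheme.{u}} {q : A ⟶ S} {H : Over S} [GrpObj H] {W : Scheme.{u}} (y : W ⟶ A) :
    NonAbH1.HasSectionOver (Red.bc q H) y :=
  ⟨(toUnit (Over.mk y) ≫ (η[Red.bc q H] : 𝟙_ _ ⟶ Red.bc q H)).left,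
    Over.w (toUnit (Over.mk y) ≫ (η[Red.bc q H] : 𝟙_ _ ⟶ Red.bc q H))⟩

/-- The trivial torsor. -/
theorem isTorsorFor_trivial (A : Scheme.{u}) (H : Over A) [GrpObj H] :
    NonAbH1.IsTorsorFor Scheme.fppfPrecoverage (NonAbH1.trivialAction H) := by
  refine ⟨NonAbH1.isPseudoTorsorSch_trivialAction H, Presieve.singleton (𝟙 A), Scheme.Hom.singleton_mem_fppfPrecoverage (𝟙 A), ?_⟩
  rintro T f ⟨⟩
  exact ⟨η[H].left, Over.w η[H]⟩

variable [LocallyOfFinitePresentation G.hom]

/-- **Gluing with the trivial torsor at infinity**: a torsor on the base which becomes trivial away from the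
zero locus of a monic polynomial is trivial. -/
theorem hasSectionOver_base (hloc : HLoc G) (P : NonAbH1.TorsorSch G Scheme.fppfPrecoverage)
    (hP : ∀ (m : _root_.Ideal R) [m.IsMaximal],
      NonAbH1.HasSectionOver P.X (Spec.map (CommRingCat.ofHom (algebraMap R (Localization.AtPrime m)))))
    (f : Polynomial R) (hf : f.Monic)
    (hσ : NonAbH1.HasSectionOver P.X
      (Spec.map (CommRingCat.ofHom ((algebraMap (Polynomial R) (Localization.Away f)).comp Polynomial.C)))) :
    NonAbH1.HasSectionOver P.X (𝟙 S₀) := by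
  obtain ⟨σ, hσ⟩ := hσ
  let q := L R ↘ S₀
  let φ₀ : R →+* Γ(L R, ⊤) := ((Scheme.ΓSpecIso _).inv ≫ q.appTop).hom
  let gco : Γ(L R, ⊤) := f.reverse.eval₂ φ₀ (co (R := R))
  have hcov : ∀ x : L R, x ∈ Set.range ((L R).basicOpen (co (R := R))).ι ∨ x ∈ Set.range ((L R).basicOpen gco).ι := by
    intro x
    rw [Scheme.Opens.range_ι, Scheme.Opens.range_ι]
    refine or_iff_not_imp_left.2 fun hx => ?_
    have h0 : gco = (co (R := R)) * f.reverse.divX.eval₂ φ₀ (co (R := R)) + 1 := by
      conv_lhs => rw [show gco = f.reverse.eval₂ φ₀ (co (R := R)) from rfl, ← Polynomial.X_mul_divX_add f.reverse]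
      simp [Polynomial.coeff_zero_reverse, hf.leadingCoeff]
    refine (Scheme.mem_basicOpen _ gco x (TopologicalSpace.Opens.mem_top x)).2 ?_
    replace hx : ¬ IsUnit ((L R).presheaf.germ ⊤ x (TopologicalSpace.Opens.mem_top x) (co (R := R))) := fun h =>
      hx ((Scheme.mem_basicOpen _ _ x (TopologicalSpace.Opens.mem_top x)).2 h)
    rw [h0, map_add, map_mul, map_one, add_comm]
    refine IsLocalRing.notMem_maximalIdeal.1 fun h1 => ?_
    have h2 := (Submodule.add_mem_iff_left _ (_root_.Ideal.mul_mem_right _ _ ((IsLocalRing.mem_maximalIdeal _).2 hx))).1 h1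
    exact (IsLocalRing.maximalIdeal.isMaximal _).ne_top ((_root_.Ideal.eq_top_iff_one _).2 h2)
  let j₁ := ((L R).basicOpen (co (R := R))).ι
  let j₂ := ((L R).basicOpen gco).ι
  let V := pullback j₁ j₂
  let jj : V ⟶ L R := Glue.jV j₁ j₂
  have hc : IsUnit (jj.appTop (co (R := R))) := (range_subset_basicOpen_iff _ _).1 (by
    rintro _ ⟨x, rfl⟩; exact ⟨_, (Scheme.Hom.comp_apply (pullback.fst j₁ j₂) j₁ x).symm⟩)
  have hg : IsUnit (jj.appTop gco) := (range_subset_basicOpen_iff _ _).1 (by
    rintro _ ⟨x, rfl⟩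
    refine ⟨pullback.snd j₁ j₂ x, ?_⟩
    rw [← Scheme.Hom.comp_apply, ← pullback.condition])
  let φV : R →+* Γ(V, ⊤) := jj.appTop.hom.comp φ₀
  let uu : Γ(V, ⊤) := ↑hc.unit⁻¹
  let ev : Polynomial R →+* Γ(V, ⊤) := Polynomial.eval₂RingHom φV uu
  have hev : IsUnit (ev f) := by
    letI : Invertible uu := ⟨jj.appTop (co (R := R)), hc.mul_val_inv, hc.val_inv_mul⟩
    have h := Polynomial.eval₂_reverse_mul_pow φV uu f
    show IsUnit (f.eval₂ φV uu)
    rw [← h]
    refine IsUnit.mul ?_ ((Units.isUnit _).pow _)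
    have : jj.appTop gco = f.reverse.eval₂ φV (⅟uu) := Polynomial.hom_eval₂ f.reverse φ₀ jj.appTop.hom (co (R := R))
    rw [← this]
    exact hg
  let κ : V ⟶ Spec (CommRingCat.of (Localization.Away f)) :=
    V.toSpecΓ ≫ Spec.map (CommRingCat.ofHom (IsLocalization.Away.lift (S := Localization.Away f) f hev))
  have hκ : κ ≫ Spec.map (CommRingCat.ofHom ((algebraMap (Polynomial R) (Localization.Away f)).comp Polynomial.C)) =
      jj ≫ q := by
    have e : (IsLocalization.Away.lift (S := Localization.Away f) f hev).comp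
        ((algebraMap (Polynomial R) (Localization.Away f)).comp Polynomial.C) = φV := by
      rw [← RingHom.comp_assoc, IsLocalization.Away.lift_comp]
      exact RingHom.ext fun r => Polynomial.eval₂_C _ _
    have e' : CommRingCat.ofHom φV = (Scheme.ΓSpecIso _).inv ≫ (jj ≫ q).appTop := by
      rw [Scheme.Hom.comp_appTop]; rfl
    rw [Category.assoc, ← Spec.map_comp, ← CommRingCat.ofHom_comp, e, e', Spec.map_comp, ← Scheme.toSpecΓ_naturality_assoc,
      ← SpecMap_ΓSpecIso_hom, ← Spec.map_comp, Iso.inv_hom_id, Spec.map_id, Category.comp_id]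
  let M := Red.bc q P.X
  let a := P.act.bc q
  have ha : NonAbH1.IsTorsorFor Scheme.fppfPrecoverage a := NonAbH1.isTorsorFor_bc q _ P.isTorsor
  have hb := isTorsorFor_trivial (L R) (Red.bc q G)
  let σV : V ⟶ M.left := pullback.lift (κ ≫ σ) jj (by rw [Category.assoc, hσ, hκ])
  obtain ⟨τ, hτ⟩ := hasSectionOver_group (q := q) (H := G) jj
  obtain ⟨F, F', hl, hr⟩ := Glue.exists_hm_of_sections ha.1 hb.1 σV (pullback.lift_snd _ _ _) τ hτ
  let D : Glue.Datum a (NonAbH1.trivialAction (Red.bc q G)) j₁ j₂ := ⟨F, F', hl, hr⟩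
  have hE : NonAbH1.IsTorsorFor Scheme.fppfPrecoverage (GlueTorsor.action D) :=
    ⟨GlueTorsor.isPseudoTorsorSch_action D ha.1 hb.1 hcov, GlueTorsor.isLocallyTrivialFor_obj D hcov ha.2 hb.2⟩
  obtain ⟨P', ⟨e'⟩⟩ := exists_torsor_of_local_points hE (fun m hm => by
    let B := Localization.AtPrime m
    obtain ⟨s, hs⟩ := hP m
    let jp := Spec.map (CommRingCat.ofHom (algebraMap (Polynomial B) (Localization.Away (Polynomial.X : Polynomial B))))
    have hu : IsUnit ((jp ≫ θ R B).appTop (co (R := R))) := by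
      rw [Scheme.Hom.comp_appTop]
      show IsUnit (jp.appTop ((θ R B).appTop (co (R := R))))
      rw [θ_co, appTop_fn]
      exact (IsLocalization.Away.algebraMap_isUnit (Polynomial.X : Polynomial B)).map _
    have hr₁ := (range_subset_basicOpen_iff _ _).2 hu
    let sM : Spec (CommRingCat.of (Localization.Away (Polynomial.X : Polynomial B))) ⟶ M.left :=
      pullback.lift (jp ≫ Spec.map (CommRingCat.ofHom Polynomial.C) ≫ s) (jp ≫ θ R B) (by
        rw [Category.assoc, Category.assoc, hs, ← Spec.map_comp, ← CommRingCat.ofHom_comp, Category.assoc, θ_q])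
    obtain ⟨w, hw⟩ := GlueTorsor.exists_pt_of₁ D (IsOpenImmersion.lift j₁ (jp ≫ θ R B) hr₁)
      (IsOpenImmersion.lift_fac _ _ _) sM (pullback.lift_snd _ _ _)
    exact exists_local_point hloc hE m Polynomial.X Polynomial.monic_X w hw)
  let at' : R → (S₀ ⟶ L R) := fun r => AffineSpace.homOfVector (𝟙 S₀) fun _ => fn R r
  have hat : ∀ r, at' r ≫ q = 𝟙 S₀ := fun r => AffineSpace.homOfVector_over _ _
  have hatco : ∀ r, (at' r).appTop (co (R := R)) = fn R r := fun r => AffineSpace.homOfVector_appTop_coord _ _ _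
  have hP' : NonAbH1.HasSectionOver P'.X (𝟙 S₀) := by
    have hu : IsUnit ((at' 0).appTop gco) := by
      have h1 : (at' 0).appTop gco = f.reverse.eval₂ ((at' 0).appTop.hom.comp φ₀) (fn R 0) := by
        rw [← hatco 0]
        exact Polynomial.hom_eval₂ f.reverse φ₀ (at' 0).appTop.hom (co (R := R))
      rw [h1, show fn R (0 : R) = 0 from map_zero _, Polynomial.eval₂_at_zero, Polynomial.coeff_zero_reverse,
        hf.leadingCoeff, map_one]
      exact isUnit_one
    obtain ⟨τ₀, hτ₀⟩ := hasSectionOver_group (q := q) (H := G) (at' 0)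
    have h := GlueTorsor.exists_pt_of₂ D (IsOpenImmersion.lift j₂ (at' 0) ((range_subset_basicOpen_iff _ _).2 hu))
      (IsOpenImmersion.lift_fac _ _ _) τ₀ hτ₀
    have := (hasSectionOver_iff e' (at' 0)).1 h
    rwa [hat] at this
  have hu : IsUnit ((at' 1).appTop (co (R := R))) := by
    rw [hatco, show fn R (1 : R) = 1 from map_one _]
    exact isUnit_one
  obtain ⟨w, hw⟩ := (hasSectionOver_iff e' (at' 1)).2 (by rw [hat]; exact hP')
  obtain ⟨mm, hm⟩ := GlueTorsor.exists_pt_to₁ D (IsOpenImmersion.lift j₁ (at' 1) ((range_subset_basicOpen_iff _ _).2 hu))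
    (IsOpenImmersion.lift_fac _ _ _) w hw
  refine ⟨mm ≫ pullback.fst P.X.hom q, ?_⟩
  rw [Category.assoc, pullback.condition]
  exact (Category.assoc _ _ _).symm.trans ((congrArg (· ≫ q) hm).trans (hat 1))

/-- **Torsors trivial away from a finite closed subscheme of the affine line are trivial**, if this
holds over the local rings of the base. -/
theorem hasSectionOver_line (hloc : HLoc G) {E : Over (L R)} {aE : AlgGrp.Action (Red.bc (L R ↘ S₀) G) E}
    (hE : NonAbH1.IsTorsorFor Scheme.fppfPrecoverage aE) (f : Polynomial R) (hf : f.Monic)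
    (hpt : NonAbH1.HasSectionOver E
      (Spec.map (CommRingCat.ofHom (algebraMap (Polynomial R) (Localization.Away f))) ≫ θ R R)) :
    NonAbH1.HasSectionOver E (𝟙 (L R)) := by
  obtain ⟨pt, hpt⟩ := hpt
  have hloc' : ∀ (m : _root_.Ideal R) [m.IsMaximal],
      ∃ s : Spec (CommRingCat.of (Polynomial (Localization.AtPrime m))) ⟶ E.left,
        s ≫ E.hom = θ R (Localization.AtPrime m) := by
    intro m hm
    let B := Localization.AtPrime m
    let fm := f.map (algebraMap R B)
    let μB := Polynomial.mapRingHom (algebraMap R B)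
    have hu : IsUnit (((algebraMap (Polynomial B) (Localization.Away fm)).comp μB) f) :=
      IsLocalization.Away.algebraMap_isUnit fm
    refine exists_local_point hloc hE m fm (hf.map _)
      (Spec.map (CommRingCat.ofHom (IsLocalization.Away.lift (S := Localization.Away f) f hu)) ≫ pt) ?_
    rw [Category.assoc, hpt, ← Spec.map_comp_assoc, ← CommRingCat.ofHom_comp, IsLocalization.Away.lift_comp,
      CommRingCat.ofHom_comp, Spec.map_comp_assoc]
    congr 1
    exact map_θ (algebraMap R B) (RingHom.ext fun _ => rfl)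
  obtain ⟨P, ⟨e⟩⟩ := exists_torsor_of_local_points hE hloc'
  have hbase : NonAbH1.HasSectionOver P.X (𝟙 S₀) := by
    refine hasSectionOver_base hloc P (fun m _ => ?_) f hf ?_
    · obtain ⟨s, hs⟩ := (hasSectionOver_iff e _).1 (hloc' m)
      refine ⟨Spec.map (CommRingCat.ofHom (Polynomial.evalRingHom (0 : Localization.AtPrime m))) ≫ s, ?_⟩
      rw [Category.assoc, hs, θ_q, ← Spec.map_comp, ← CommRingCat.ofHom_comp, ← RingHom.comp_assoc,
        show (Polynomial.evalRingHom (0 : Localization.AtPrime m)).comp Polynomial.C = RingHom.id _ from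
          RingHom.ext fun r => Polynomial.eval_C, RingHom.id_comp]
    · obtain ⟨s, hs⟩ := (hasSectionOver_iff e _).1 ⟨pt, hpt⟩
      refine ⟨s, ?_⟩
      rw [hs, Category.assoc, θ_q, Algebra.algebraMap_self, RingHom.comp_id, ← Spec.map_comp, ← CommRingCat.ofHom_comp]
  obtain ⟨s, hs⟩ := hbase
  refine (hasSectionOver_iff e (𝟙 (L R))).2 ⟨(L R ↘ S₀) ≫ s, ?_⟩
  rw [Category.assoc, hs, Category.comp_id, Category.id_comp]

/-- The statement on the spectrum of the polynomial ring. -/
theorem hasSectionOver_poly (hloc : HLoc G) {X : Over (Spec (CommRingCat.of (Polynomial R)))}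
    {aX : AlgGrp.Action (Red.bc (Spec.map (CommRingCat.ofHom (algebraMap R (Polynomial R)))) G) X}
    (hX : NonAbH1.IsTorsorFor Scheme.fppfPrecoverage aX) (f : Polynomial R) (hf : f.Monic)
    (hpt : NonAbH1.HasSectionOver X (Spec.map (CommRingCat.ofHom (algebraMap (Polynomial R) (Localization.Away f))))) :
    NonAbH1.HasSectionOver X (𝟙 (Spec (CommRingCat.of (Polynomial R)))) := by
  obtain ⟨pt, hpt⟩ := hpt
  obtain ⟨back, hback⟩ := exists_lift_θ (𝟙 (L R))
  have hθb : θ R R ≫ back = 𝟙 _ := mono_θ (by rw [Category.assoc, hback, Category.comp_id, Category.id_comp])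
  have hd : back ≫ Spec.map (CommRingCat.ofHom (algebraMap R (Polynomial R))) = L R ↘ S₀ := by
    have h := congrArg (· ≫ L R ↘ S₀) hback
    simp only [Category.assoc, θ_q, Algebra.algebraMap_self, RingHom.comp_id, Category.id_comp] at h
    rw [Polynomial.algebraMap_eq]
    exact h
  let c := ActBC.bcCompIso back (Spec.map (CommRingCat.ofHom (algebraMap R (Polynomial R)))) G hd
  haveI : IsMonHom c.symm.hom := inferInstanceAs (IsMonHom c.inv)
  have hE : NonAbH1.IsTorsorFor Scheme.fppfPrecoverage ((aX.bc back).restrict c.inv) :=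
    ⟨isPseudoTorsorSch_restrict c.symm (NonAbH1.isPseudoTorsorSch_bc _ hX.1), NonAbH1.isLocallyTrivialFor_bc back _ hX.2⟩
  obtain ⟨s, hs⟩ := hasSectionOver_line hloc hE f hf ⟨pullback.lift pt
    (Spec.map (CommRingCat.ofHom (algebraMap (Polynomial R) (Localization.Away f))) ≫ θ R R)
    (by rw [hpt, Category.assoc, hθb, Category.comp_id]), pullback.lift_snd _ _ _⟩
  refine ⟨θ R R ≫ s ≫ pullback.fst X.hom back, ?_⟩
  rw [Category.assoc, Category.assoc, pullback.condition]
  exact (congrArg (θ R R ≫ ·) (((Category.assoc _ _ _).symm.trans (congrArg (· ≫ back) hs)).trans (Category.id_comp _))).trans hθb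

end Groth.Agent.Lib.TorsorQuillen.LineMain
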