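import Groth.Agent.Lib.TorsorQuillen.Aut

/-!
# Quillen patching: gluing two descents of a torsor over affine space
-/

universe u

open CategoryTheory CategoryTheory.Limits MonoidalCategory CartesianMonoidalCategory MonObj GrpObj AlgebraicGeometry

namespace Groth.Agent.Lib.TorsorQuillen.Patch

open Pts Descend Extend Aut

variable {n : Type u} {S : Scheme.{u}}

/-- The zero section. -/
noncomputable def zer : S ⟶ 𝔸(n; S) := AffineSpace.homOfVector (𝟙 S) 0

theorem zer_q : (zer (n := n) (S := S)) ≫ 𝔸(n; S) ↘ S = 𝟙 S := AffineSpace.homOfVector_over _ _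

/-- The zero point over the image of a point. -/
noncomputable abbrev zz {W : Scheme.{u}} (y : W ⟶ 𝔸(n; S)) : W ⟶ 𝔸(n; S) := (y ≫ 𝔸(n; S) ↘ S) ≫ zer

theorem zz_q {W : Scheme.{u}} (y : W ⟶ 𝔸(n; S)) : zz y ≫ 𝔸(n; S) ↘ S = y ≫ 𝔸(n; S) ↘ S := by
  rw [zz, Category.assoc, zer_q, Category.comp_id]

theorem comp_zz {W W' : Scheme.{u}} (b : W' ⟶ W) (y : W ⟶ 𝔸(n; S)) : b ≫ zz y = zz (b ≫ y) := by
  simp only [zz, Category.assoc]

/-- A point multiplied by a scalar. -/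
noncomputable def sm {W : Scheme.{u}} (c : Γ(W, ⊤)) (y : W ⟶ 𝔸(n; S)) : W ⟶ 𝔸(n; S) :=
  AffineSpace.homOfVector (y ≫ 𝔸(n; S) ↘ S) fun i => c * y.appTop (AffineSpace.coord S i)

theorem sm_q {W : Scheme.{u}} (c : Γ(W, ⊤)) (y : W ⟶ 𝔸(n; S)) :
    sm c y ≫ 𝔸(n; S) ↘ S = y ≫ 𝔸(n; S) ↘ S := AffineSpace.homOfVector_over _ _

theorem sm_one {W : Scheme.{u}} (y : W ⟶ 𝔸(n; S)) : sm 1 y = y := by
  refine AffineSpace.hom_ext (sm_q _ _) fun i => ?_
  rw [sm, AffineSpace.homOfVector_appTop_coord, _root_.one_mul]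

theorem sm_zero {W : Scheme.{u}} (y : W ⟶ 𝔸(n; S)) : sm 0 y = zz y := by
  refine AffineSpace.hom_ext (by rw [sm_q, zz_q]) fun i => ?_
  rw [sm, AffineSpace.homOfVector_appTop_coord, zero_mul, zz, Scheme.Hom.comp_appTop]
  show (0 : Γ(W, ⊤)) = (y ≫ 𝔸(n; S) ↘ S).appTop ((zer (n := n) (S := S)).appTop (AffineSpace.coord S i))
  rw [zer, AffineSpace.homOfVector_appTop_coord, Pi.zero_apply, map_zero]

theorem comp_sm {W W' : Scheme.{u}} (b : W' ⟶ W) (c : Γ(W, ⊤)) (y : W ⟶ 𝔸(n; S)) :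
    b ≫ sm c y = sm (b.appTop c) (b ≫ y) := by
  refine AffineSpace.hom_ext (by rw [Category.assoc, sm_q, sm_q, Category.assoc]) fun i => ?_
  rw [Scheme.Hom.comp_appTop]
  show b.appTop ((sm c y).appTop (AffineSpace.coord S i)) = _
  rw [sm, sm, AffineSpace.homOfVector_appTop_coord, AffineSpace.homOfVector_appTop_coord, map_mul]
  rfl

variable {G : Over S} [GrpObj G] {X : Over 𝔸(n; S)}
  (a : AlgGrp.Action (Red.bc (𝔸(n; S) ↘ S) G) X)

/-- Compatible transition maps between the fibres of the torsor over points in the same fibre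
of the affine space, for points over `U`. -/
structure Desc {U : Scheme.{u}} (ρ : U ⟶ S) where
  map : ∀ {W : Scheme.{u}} (y y' : W ⟶ 𝔸(n; S)) (t : W ⟶ U), y ≫ 𝔸(n; S) ↘ S = t ≫ ρ →
    y' ≫ 𝔸(n; S) ↘ S = t ≫ ρ → ∀ (x : W ⟶ X.left), x ≫ X.hom = y → (W ⟶ X.left)
  π : ∀ {W : Scheme.{u}} (y y' : W ⟶ 𝔸(n; S)) (t : W ⟶ U) (h) (h') (x : W ⟶ X.left) (hx),
    map y y' t h h' x hx ≫ X.hom = y'
  nat : ∀ {W W' : Scheme.{u}} (b : W' ⟶ W) (y y' : W ⟶ 𝔸(n; S)) (t : W ⟶ U) (h : y ≫ 𝔸(n; S) ↘ S = t ≫ ρ)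
    (h' : y' ≫ 𝔸(n; S) ↘ S = t ≫ ρ) (x : W ⟶ X.left) (hx : x ≫ X.hom = y),
    b ≫ map y y' t h h' x hx = map (b ≫ y) (b ≫ y') (b ≫ t) (by rw [Category.assoc, h, Category.assoc])
      (by rw [Category.assoc, h', Category.assoc]) (b ≫ x) (by rw [Category.assoc, hx])
  equiv : ∀ {W : Scheme.{u}} (y y' : W ⟶ 𝔸(n; S)) (t : W ⟶ U) (h) (h') (g : W ⟶ G.left) (x : W ⟶ X.left)
    (hx : x ≫ X.hom = y) (hg : g ≫ G.hom = (x ≫ X.hom) ≫ 𝔸(n; S) ↘ S),
    map y y' t h h' (gact a g x hg) (by rw [gact_π, hx]) =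
      gact a g (map y y' t h h' x hx) (by rw [π, hg, hx, h, h'])
  self : ∀ {W : Scheme.{u}} (y : W ⟶ 𝔸(n; S)) (t : W ⟶ U) (h) (x : W ⟶ X.left) (hx), map y y t h h x hx = x
  comp : ∀ {W : Scheme.{u}} (y y' y'' : W ⟶ 𝔸(n; S)) (t : W ⟶ U) (h) (h') (h'') (x : W ⟶ X.left) (hx),
    map y' y'' t h' h'' (map y y' t h h' x hx) (π _ _ _ _ _ _ _) = map y y'' t h h'' x hx

variable {a}

theorem Desc.congr {U : Scheme.{u}} {ρ : U ⟶ S} (D : Desc a ρ) {W : Scheme.{u}} {y₁ y₁' y₂ y₂' : W ⟶ 𝔸(n; S)}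
    {t t' : W ⟶ U} {x x' : W ⟶ X.left} {h₁ h₂ hx h₁' h₂' hx'} (e₁ : y₁ = y₁') (e₂ : y₂ = y₂') (et : t = t')
    (ex : x = x') : D.map y₁ y₂ t h₁ h₂ x hx = D.map y₁' y₂' t' h₁' h₂' x' hx' := by
  subst e₁; subst e₂; subst et; subst ex; rfl

section conj

variable {U V : Scheme.{u}} {ρ : U ⟶ S} {σ : V ⟶ S} (Φ : Desc a ρ) (Ψ : Desc a σ)
  {W : Scheme.{u}} (y : W ⟶ 𝔸(n; S)) (t : W ⟶ U) (t' : W ⟶ V)
  (h : y ≫ 𝔸(n; S) ↘ S = t ≫ ρ) (h' : y ≫ 𝔸(n; S) ↘ S = t' ≫ σ) (x : W ⟶ X.left) (hx : x ≫ X.hom = zz y)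

/-- The inverse of the transition automorphism of the fibre at zero. -/
noncomputable def gInv : W ⟶ X.left :=
  Ψ.map y (zz y) t' h' (by rw [zz_q, h']) (Φ.map (zz y) y t (by rw [zz_q, h]) h x hx) (Φ.π _ _ _ _ _ _ _)

theorem gInv_π : gInv Φ Ψ y t t' h h' x hx ≫ X.hom = zz y := Ψ.π _ _ _ _ _ _ _

theorem gInv_congr {y₁ : W ⟶ 𝔸(n; S)} {t₁ : W ⟶ U} {t₁' : W ⟶ V} {x₁ : W ⟶ X.left} {h₁ h₁' hx₁}
    (ey : y = y₁) (et : t = t₁) (et' : t' = t₁') (ex : x = x₁) :
    gInv Φ Ψ y t t' h h' x hx = gInv Φ Ψ y₁ t₁ t₁' h₁ h₁' x₁ hx₁ := by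
  subst ey; subst et; subst et'; subst ex; rfl

theorem comp_gInv {W' : Scheme.{u}} (b : W' ⟶ W) :
    b ≫ gInv Φ Ψ y t t' h h' x hx = gInv Φ Ψ (b ≫ y) (b ≫ t) (b ≫ t') (by rw [Category.assoc, h, Category.assoc])
      (by rw [Category.assoc, h', Category.assoc]) (b ≫ x) (by rw [Category.assoc, hx, comp_zz]) := by
  unfold gInv
  rw [Ψ.nat]
  exact Ψ.congr rfl (comp_zz _ _) rfl ((Φ.nat _ _ _ _ _ _ _ _).trans (Φ.congr (comp_zz _ _) rfl rfl rfl))

theorem gInv_equiv (g : W ⟶ G.left) (hg : g ≫ G.hom = (x ≫ X.hom) ≫ 𝔸(n; S) ↘ S) :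
    gInv Φ Ψ y t t' h h' (gact a g x hg) (by rw [gact_π, hx]) =
      gact a g (gInv Φ Ψ y t t' h h' x hx) (by rw [gInv_π, hg, hx]) := by
  unfold gInv
  refine (Ψ.congr rfl rfl rfl (Φ.equiv _ _ _ _ _ g x hx hg)).trans (Ψ.equiv _ _ _ _ _ g _ (Φ.π _ _ _ _ _ _ _) _)

theorem gInv_zero (e : y = zz y) : gInv Φ Ψ y t t' h h' x hx = x := by
  unfold gInv
  exact ((Ψ.congr rfl e.symm rfl rfl (h₂' := h') (hx' := Φ.π _ _ _ _ _ _ _)).trans (Ψ.self _ _ _ _ _)).trans
    ((Φ.congr e.symm rfl rfl rfl (h₁' := h) (hx' := hx.trans e.symm)).trans (Φ.self _ _ _ _ _))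

/-- The transition automorphism of the fibre at zero. -/
noncomputable def gFwd : W ⟶ X.left :=
  Φ.map y (zz y) t h (by rw [zz_q, h]) (Ψ.map (zz y) y t' (by rw [zz_q, h']) h' x hx) (Ψ.π _ _ _ _ _ _ _)

theorem gFwd_π : gFwd Φ Ψ y t t' h h' x hx ≫ X.hom = zz y := Φ.π _ _ _ _ _ _ _

theorem gFwd_congr {y₁ : W ⟶ 𝔸(n; S)} {t₁ : W ⟶ U} {t₁' : W ⟶ V} {x₁ : W ⟶ X.left} {h₁ h₁' hx₁}
    (ey : y = y₁) (et : t = t₁) (et' : t' = t₁') (ex : x = x₁) :
    gFwd Φ Ψ y t t' h h' x hx = gFwd Φ Ψ y₁ t₁ t₁' h₁ h₁' x₁ hx₁ := by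
  subst ey; subst et; subst et'; subst ex; rfl

theorem comp_gFwd {W' : Scheme.{u}} (b : W' ⟶ W) :
    b ≫ gFwd Φ Ψ y t t' h h' x hx = gFwd Φ Ψ (b ≫ y) (b ≫ t) (b ≫ t') (by rw [Category.assoc, h, Category.assoc])
      (by rw [Category.assoc, h', Category.assoc]) (b ≫ x) (by rw [Category.assoc, hx, comp_zz]) := by
  unfold gFwd
  rw [Φ.nat]
  exact Φ.congr rfl (comp_zz _ _) rfl ((Ψ.nat _ _ _ _ _ _ _ _).trans (Ψ.congr (comp_zz _ _) rfl rfl rfl))

theorem gFwd_equiv (g : W ⟶ G.left) (hg : g ≫ G.hom = (x ≫ X.hom) ≫ 𝔸(n; S) ↘ S) :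
    gFwd Φ Ψ y t t' h h' (gact a g x hg) (by rw [gact_π, hx]) =
      gact a g (gFwd Φ Ψ y t t' h h' x hx) (by rw [gFwd_π, hg, hx]) := by
  unfold gFwd
  refine (Φ.congr rfl rfl rfl (Ψ.equiv _ _ _ _ _ g x hx hg)).trans (Φ.equiv _ _ _ _ _ g _ (Ψ.π _ _ _ _ _ _ _) _)

theorem gFwd_gInv :
    gFwd Φ Ψ y t t' h h' (gInv Φ Ψ y t t' h h' x hx) (gInv_π ..) = x := by
  unfold gFwd gInv
  refine (Φ.congr rfl rfl rfl ((Ψ.comp y (zz y) y t' h' _ h' _ _).trans (Ψ.self _ _ _ _ _))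
    (h₁' := h) (h₂' := by rw [zz_q, h]) (hx' := Φ.π _ _ _ _ _ _ _)).trans ?_
  exact (Φ.comp (zz y) y (zz y) t _ h _ x hx).trans (Φ.self _ _ _ _ _)

theorem map_gFwd :
    Φ.map (zz y) y t (by rw [zz_q, h]) h (gFwd Φ Ψ y t t' h h' x hx) (gFwd_π ..) =
      Ψ.map (zz y) y t' (by rw [zz_q, h']) h' x hx := by
  unfold gFwd
  exact (Φ.comp y (zz y) y t h _ h _ _).trans (Φ.self _ _ _ _ _)

end conj

/-- The coordinate of the polynomial ring as a global function. -/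
noncomputable abbrev fn (R : Type u) [CommRing R] (b : R) : Γ(Spec (CommRingCat.of R), ⊤) :=
  (Scheme.ΓSpecIso (CommRingCat.of R)).inv b

theorem appTop_fn {R R' : Type u} [CommRing R] [CommRing R'] (f : R →+* R') (b : R) :
    (Spec.map (CommRingCat.ofHom f)).appTop (fn R b) = fn R' (f b) :=
  (congr($(Scheme.ΓSpecIso_inv_naturality (CommRingCat.ofHom f)) b)).symm

open Polynomial in
/-- Extension of a family of automorphisms depending on a scalar, after multiplying the scalar by a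
power of `s`. -/
theorem extend_at (ha : NonAbH1.IsTorsorFor Scheme.fpqcPrecoverage a) [LocallyOfFinitePresentation X.hom]
    {B : Type u} [CommRing B] (s : B) (C : Type u) [CommRing C] [Algebra B C] [IsLocalization.Away s C]
    (z : Spec (CommRingCat.of B) ⟶ 𝔸(n; S))
    (F : ∀ {W : Scheme.{u}} (w : W ⟶ Spec (CommRingCat.of C)) (_ : Γ(W, ⊤)) (x : W ⟶ X.left),
      x ≫ X.hom = w ≫ Spec.map (CommRingCat.ofHom (algebraMap B C)) ≫ z → (W ⟶ X.left))
    (Fπ : ∀ {W : Scheme.{u}} (w : W ⟶ Spec (CommRingCat.of C)) (c : Γ(W, ⊤)) (x : W ⟶ X.left) (hx),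
      F w c x hx ≫ X.hom = w ≫ Spec.map (CommRingCat.ofHom (algebraMap B C)) ≫ z)
    (Fnat : ∀ {W W' : Scheme.{u}} (b : W' ⟶ W) (w : W ⟶ Spec (CommRingCat.of C)) (c : Γ(W, ⊤)) (x : W ⟶ X.left)
      (hx : x ≫ X.hom = w ≫ Spec.map (CommRingCat.ofHom (algebraMap B C)) ≫ z),
      b ≫ F w c x hx = F (b ≫ w) (b.appTop c) (b ≫ x) (by rw [Category.assoc, hx, Category.assoc]))
    (Fequiv : ∀ {W : Scheme.{u}} (w : W ⟶ Spec (CommRingCat.of C)) (c : Γ(W, ⊤)) (g : W ⟶ G.left) (x : W ⟶ X.left)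
      (hx : x ≫ X.hom = w ≫ Spec.map (CommRingCat.ofHom (algebraMap B C)) ≫ z)
      (hg : g ≫ G.hom = (x ≫ X.hom) ≫ 𝔸(n; S) ↘ S),
      F w c (gact a g x hg) (by rw [gact_π, hx]) = gact a g (F w c x hx) (by rw [Fπ, hg, hx]))
    (Fzero : ∀ {W : Scheme.{u}} (w : W ⟶ Spec (CommRingCat.of C)) (x : W ⟶ X.left) (hx), F w 0 x hx = x) :
    ∃ N : ℕ, ∀ b : B, ∃ ψ : Hm a a z z, ∀ {W : Scheme.{u}} (w : W ⟶ Spec (CommRingCat.of C)) (x : W ⟶ X.left)
      (hx : x ≫ X.hom = w ≫ Spec.map (CommRingCat.ofHom (algebraMap B C)) ≫ z),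
      ψ.app (w ≫ Spec.map (CommRingCat.ofHom (algebraMap B C))) x (by rw [hx, Category.assoc]) =
        F w (w.appTop (fn C (algebraMap B C (s ^ N * b)))) x hx := by
  let ιC := Spec.map (CommRingCat.ofHom (Polynomial.C : C →+* C[X]))
  let ιB := Spec.map (CommRingCat.ofHom (Polynomial.C : B →+* B[X]))
  let tC := Spec.map (CommRingCat.ofHom (toC (B := B) C))
  have hsq : tC ≫ ιB = ιC ≫ Spec.map (CommRingCat.ofHom (algebraMap B C)) :=
    spec_sq (RingHom.ext fun b => Polynomial.map_C _)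
  let φ : Hm a a (tC ≫ ιB ≫ z) (tC ≫ ιB ≫ z) :=
    { hq := rfl
      app := fun w x h => F (w ≫ ιC) (w.appTop (fn C[X] Polynomial.X)) x
        (by rw [h, reassoc_of% hsq, Category.assoc])
      π := fun w x h => by rw [Fπ, reassoc_of% hsq, Category.assoc]
      nat := fun b w x h => by
        rw [Fnat]
        simp only [Category.assoc, Scheme.Hom.comp_appTop]
        rfl
      equiv := fun w g x h hg => Fequiv _ _ g x (by rw [h, reassoc_of% hsq, Category.assoc]) hg }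
  have h0 : ∀ {W : Scheme.{u}} (w : W ⟶ Spec (CommRingCat.of C)) (x : W ⟶ X.left) (hx),
      φ.app (w ≫ Spec.map (CommRingCat.ofHom (at0 C))) x hx = x := by
    intro W w x hx
    have e1 : (w ≫ Spec.map (CommRingCat.ofHom (at0 C))) ≫ ιC = w := by
      rw [Category.assoc, ← Spec.map_comp, ← CommRingCat.ofHom_comp,
        show (at0 C).comp (Polynomial.C : C →+* C[X]) = RingHom.id C from RingHom.ext fun b => coeff_C_zero,
        CommRingCat.ofHom_id, Spec.map_id, Category.comp_id]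
    have e2 : (w ≫ Spec.map (CommRingCat.ofHom (at0 C))).appTop (fn C[X] Polynomial.X) = 0 := by
      rw [Scheme.Hom.comp_appTop]
      show w.appTop ((Spec.map (CommRingCat.ofHom (at0 C))).appTop (fn C[X] Polynomial.X)) = 0
      rw [appTop_fn, show (at0 C) Polynomial.X = 0 from coeff_X_zero]
      simp [fn]
    show F _ _ x _ = x
    have : ∀ w' c' (hx' : x ≫ X.hom = w' ≫ _ ≫ z), w' = w → c' = 0 → F w' c' x hx' = x := by
      rintro w' c' hx' rfl rfl
      exact Fzero _ _ _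
    exact this _ _ _ e1 e2
  obtain ⟨N, ψ, hψ⟩ := exists_extend_aut ha s C z φ h0
  refine ⟨N, fun b => ?_⟩
  let ev := Spec.map (CommRingCat.ofHom (evalRingHom b))
  have hev : ev ≫ ιB ≫ z = z := by
    rw [← Spec.map_comp_assoc, ← CommRingCat.ofHom_comp,
      show (evalRingHom b).comp (Polynomial.C : B →+* B[X]) = RingHom.id B from RingHom.ext fun c => eval_C,
      CommRingCat.ofHom_id, Spec.map_id, Category.id_comp]
  refine ⟨ψ.pull ev z z hev hev, fun {W} w x hx => ?_⟩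
  rw [Hm.pull_app]
  let evC := Spec.map (CommRingCat.ofHom (evalRingHom (algebraMap B C b)))
  have e1 : evC ≫ tC = Spec.map (CommRingCat.ofHom (algebraMap B C)) ≫ ev := by
    refine spec_sq ?_
    refine Polynomial.ringHom_ext (fun c => ?_) ?_
    · simp
    · simp
  have e2 : evC ≫ ιC = 𝟙 _ := by
    rw [← Spec.map_comp, ← CommRingCat.ofHom_comp,
      show (evalRingHom (algebraMap B C b)).comp (Polynomial.C : C →+* C[X]) = RingHom.id C from RingHom.ext fun c => eval_C,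
      CommRingCat.ofHom_id, Spec.map_id]
  let sC := Spec.map (CommRingCat.ofHom (scale (algebraMap B C s ^ N)))
  have e3 : sC ≫ ιC = ιC := by
    rw [← Spec.map_comp, ← CommRingCat.ofHom_comp]
    congr 2
    exact RingHom.ext fun c => Polynomial.C_comp
  have hx' : x ≫ X.hom = ((w ≫ evC) ≫ sC) ≫ tC ≫ ιB ≫ z := by
    rw [hx, reassoc_of% hsq]
    simp only [Category.assoc, reassoc_of% e3, reassoc_of% e2]
  have := hψ (w ≫ evC) x (by
    rw [hx]; simp only [Category.assoc]; rw [reassoc_of% e1, hev]) hx'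
  refine ((ψ.app_congr (by simp only [Category.assoc]; rw [← e1]) rfl).trans this).trans ?_
  show F _ _ x _ = _
  have : ∀ w' c' (hx' : x ≫ X.hom = w' ≫ _ ≫ z) (c : Γ(W, ⊤)), w' = w → c' = c → F w' c' x hx' = F w c x hx := by
    rintro w' c' hx' c rfl rfl
    rfl
  refine this _ _ _ _ (by
    simp only [Category.assoc]
    rw [show Spec.map (CommRingCat.ofHom (scale (algebraMap B C s ^ N))) ≫ ιC = ιC from e3, e2, Category.comp_id]) ?_
  rw [Scheme.Hom.comp_appTop, Scheme.Hom.comp_appTop]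
  show w.appTop (evC.appTop (sC.appTop (fn C[X] Polynomial.X))) = _
  rw [appTop_fn, appTop_fn]
  congr 2
  simp [mul_comm]

section patch

variable {P : Type u} [CommRing P] (p : Spec (CommRingCat.of P) ⟶ 𝔸(n; S)) (r s : P)
  {U V : Scheme.{u}} {ρ : U ⟶ S} {σ : V ⟶ S}

theorem spec_alg {P B C : Type u} [CommRing P] [CommRing B] [CommRing C] [Algebra P B] [Algebra P C] (f : B →+* C)
    (h : ∀ c, f (algebraMap P B c) = algebraMap P C c) :
    Spec.map (CommRingCat.ofHom f) ≫ Spec.map (CommRingCat.ofHom (algebraMap P B)) =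
      Spec.map (CommRingCat.ofHom (algebraMap P C)) := by
  rw [← Spec.map_comp, ← CommRingCat.ofHom_comp, show f.comp (algebraMap P B) = algebraMap P C from RingHom.ext h]

/-- **Patching**: descents over `D(r)` and over `D(s)` with `r, s` generating the unit ideal give
an equivariant family from the fibre at zero to the fibre at the given point. -/
theorem exists_patch (ha : NonAbH1.IsTorsorFor Scheme.fpqcPrecoverage a) [LocallyOfFinitePresentation X.hom]
    (hrs : IsCoprime r s) (Φ : Desc a ρ) (Ψ : Desc a σ)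
    (tr : Spec (CommRingCat.of (Localization.Away r)) ⟶ U)
    (htr : (Spec.map (CommRingCat.ofHom (algebraMap P (Localization.Away r))) ≫ p) ≫ 𝔸(n; S) ↘ S = tr ≫ ρ)
    (ts : Spec (CommRingCat.of (Localization.Away s)) ⟶ V)
    (hts : (Spec.map (CommRingCat.ofHom (algebraMap P (Localization.Away s))) ≫ p) ≫ 𝔸(n; S) ↘ S = ts ≫ σ) :
    Nonempty (Hm a a (zz p) p) := by
  let Br := Localization.Away r
  let Bs := Localization.Away s
  let Cr := Localization.Away (algebraMap P Br s)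
  let Cs := Localization.Away (algebraMap P Bs r)
  let ir := Spec.map (CommRingCat.ofHom (algebraMap P Br))
  let is := Spec.map (CommRingCat.ofHom (algebraMap P Bs))
  let jr := Spec.map (CommRingCat.ofHom (algebraMap Br Cr))
  let js := Spec.map (CommRingCat.ofHom (algebraMap Bs Cs))
  have hus : IsUnit (algebraMap P Cr s) := by
    rw [IsScalarTower.algebraMap_apply P Br Cr]; exact IsLocalization.Away.algebraMap_isUnit _
  have hur : IsUnit (algebraMap P Cs r) := by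
    rw [IsScalarTower.algebraMap_apply P Bs Cs]; exact IsLocalization.Away.algebraMap_isUnit _
  let kr := Spec.map (CommRingCat.ofHom (IsLocalization.Away.lift (S := Bs) s hus))
  let ks := Spec.map (CommRingCat.ofHom (IsLocalization.Away.lift (S := Br) r hur))
  have hkr : kr ≫ is = jr ≫ ir :=
    (spec_alg _ fun c => IsLocalization.Away.lift_eq _ hus c).trans
      (spec_alg (P := P) (algebraMap Br Cr) fun c => (IsScalarTower.algebraMap_apply P Br Cr c).symm).symm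
  have hks : ks ≫ ir = js ≫ is :=
    (spec_alg _ fun c => IsLocalization.Away.lift_eq _ hur c).trans
      (spec_alg (P := P) (algebraMap Bs Cs) fun c => (IsScalarTower.algebraMap_apply P Bs Cs c).symm).symm
  -- the family over `D(r)`
  have yr : ∀ {W : Scheme.{u}} (w : W ⟶ Spec (CommRingCat.of Cr)),
      (w ≫ jr ≫ ir ≫ p) ≫ 𝔸(n; S) ↘ S = (w ≫ jr ≫ tr) ≫ ρ ∧
      (w ≫ jr ≫ ir ≫ p) ≫ 𝔸(n; S) ↘ S = (w ≫ kr ≫ ts) ≫ σ := fun w => by
    constructor
    · simp only [Category.assoc, ir, ← htr]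
    · rw [← reassoc_of% hkr]; simp only [Category.assoc, is, ← hts]
  have ys : ∀ {W : Scheme.{u}} (w : W ⟶ Spec (CommRingCat.of Cs)),
      (w ≫ js ≫ is ≫ p) ≫ 𝔸(n; S) ↘ S = (w ≫ ks ≫ tr) ≫ ρ ∧
      (w ≫ js ≫ is ≫ p) ≫ 𝔸(n; S) ↘ S = (w ≫ js ≫ ts) ≫ σ := fun w => by
    constructor
    · rw [← reassoc_of% hks]; simp only [Category.assoc, ir, ← htr]
    · simp only [Category.assoc, is, ← hts]
  have zsm : ∀ {W : Scheme.{u}} (c : Γ(W, ⊤)) (y : W ⟶ 𝔸(n; S)), zz (sm c y) = zz y := fun c y => by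
    simp only [zz, sm_q]
  let zr := zz (ir ≫ p)
  let zs := zz (is ≫ p)
  have hzr : ∀ {W : Scheme.{u}} (w : W ⟶ Spec (CommRingCat.of Cr)), w ≫ jr ≫ zr = zz (w ≫ jr ≫ ir ≫ p) := fun w => by
    simp only [zr, comp_zz]
  have hzs : ∀ {W : Scheme.{u}} (w : W ⟶ Spec (CommRingCat.of Cs)), w ≫ js ≫ zs = zz (w ≫ js ≫ is ≫ p) := fun w => by
    simp only [zs, comp_zz]
  let Fr : ∀ {W : Scheme.{u}} (w : W ⟶ Spec (CommRingCat.of Cr)) (_ : Γ(W, ⊤)) (x : W ⟶ X.left),
      x ≫ X.hom = w ≫ jr ≫ zr → (W ⟶ X.left) := fun w c x hx =>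
    gFwd Φ Ψ (w ≫ jr ≫ ir ≫ p) (w ≫ jr ≫ tr) (w ≫ kr ≫ ts) (yr w).1 (yr w).2
      (gInv Φ Ψ (sm (1 - c) (w ≫ jr ≫ ir ≫ p)) (w ≫ jr ≫ tr) (w ≫ kr ≫ ts)
        (by rw [sm_q]; exact (yr w).1) (by rw [sm_q]; exact (yr w).2) x (by rw [hx, hzr, zsm]))
      (by rw [gInv_π, zsm])
  let Fs : ∀ {W : Scheme.{u}} (w : W ⟶ Spec (CommRingCat.of Cs)) (_ : Γ(W, ⊤)) (x : W ⟶ X.left),
      x ≫ X.hom = w ≫ js ≫ zs → (W ⟶ X.left) := fun w c x hx =>
    gInv Φ Ψ (sm c (w ≫ js ≫ is ≫ p)) (w ≫ ks ≫ tr) (w ≫ js ≫ ts)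
      (by rw [sm_q]; exact (ys w).1) (by rw [sm_q]; exact (ys w).2) x (by rw [hx, hzs, zsm])
  obtain ⟨Nr, hNr⟩ := extend_at ha (algebraMap P Br s) Cr zr @Fr
    (fun w c x hx => (gFwd_π ..).trans (hzr w).symm)
    (fun b w c x hx => by
      simp only [Fr]
      rw [comp_gFwd]
      refine gFwd_congr _ _ _ _ _ _ _ _ _ (by simp only [Category.assoc]) (by simp only [Category.assoc])
        (by simp only [Category.assoc]) ?_
      rw [comp_gInv]
      refine gInv_congr _ _ _ _ _ _ _ _ _ ?_ (by simp only [Category.assoc]) (by simp only [Category.assoc]) rfl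
      rw [comp_sm, map_sub, map_one]
      simp only [Category.assoc])
    (fun w c g x hx hg => by
      simp only [Fr]
      exact (gFwd_congr _ _ _ _ _ _ _ _ _ rfl rfl rfl (gInv_equiv _ _ _ _ _ _ _ x _ g hg)).trans
        (gFwd_equiv _ _ _ _ _ _ _ _ _ g _))
    (fun w x hx => by
      simp only [Fr]
      refine (gFwd_congr _ _ _ _ _ _ _ _ _ rfl rfl rfl ?_).trans (gFwd_gInv _ _ _ _ _ (yr w).1 (yr w).2 x (hx.trans (hzr w)))
      exact gInv_congr _ _ _ _ _ _ _ _ _ (by rw [sub_zero, sm_one]) rfl rfl rfl)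
  obtain ⟨Ns, hNs⟩ := extend_at ha (algebraMap P Bs r) Cs zs @Fs
    (fun w c x hx => (gInv_π ..).trans ((zsm _ _).trans (hzs w).symm))
    (fun b w c x hx => by
      simp only [Fs]
      rw [comp_gInv]
      refine gInv_congr _ _ _ _ _ _ _ _ _ ?_ (by simp only [Category.assoc]) (by simp only [Category.assoc]) rfl
      rw [comp_sm]
      simp only [Category.assoc])
    (fun w c g x hx hg => by
      simp only [Fs]
      exact gInv_equiv _ _ _ _ _ _ _ x _ g hg)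
    (fun w x hx => by
      simp only [Fs]
      exact gInv_zero _ _ _ _ _ _ _ _ _ (by rw [zsm, sm_zero]))
  obtain ⟨ca, cb, hab⟩ : IsCoprime (r ^ Ns) (s ^ Nr) := hrs.pow
  obtain ⟨ψr, hψr⟩ := hNr (algebraMap P Br cb)
  obtain ⟨ψs, hψs⟩ := hNs (algebraMap P Bs ca)
  let jj : Bool → Scheme.{u} := fun | true => Spec (CommRingCat.of Br) | false => Spec (CommRingCat.of Bs)
  let ff : ∀ i, jj i ⟶ Spec (CommRingCat.of P) := fun | true => ir | false => is
  have hopen : ∀ i, IsOpenImmersion (ff i) := fun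
    | true => IsOpenImmersion.of_isLocalization r
    | false => IsOpenImmersion.of_isLocalization s
  let 𝒰 : Scheme.OpenCover.{0} (Spec (CommRingCat.of P)) := Scheme.Cover.mkOfCovers Bool jj ff (fun z => by
    by_cases hz : r ∈ z.asIdeal
    · have : s ∉ z.asIdeal := fun hs => z.2.ne_top (Ideal.eq_top_of_isUnit_mem _ (by
        obtain ⟨c₁, c₂, h⟩ := hrs
        rw [← h]
        exact z.asIdeal.add_mem (Ideal.mul_mem_left _ _ hz) (Ideal.mul_mem_left _ _ hs)) isUnit_one)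
      refine ⟨false, ?_⟩
      have hz' : z ∈ Set.range (PrimeSpectrum.comap (algebraMap P Bs)) := by
        rw [PrimeSpectrum.localization_away_comap_range Bs s]; exact this
      exact hz'
    · refine ⟨true, ?_⟩
      have hz' : z ∈ Set.range (PrimeSpectrum.comap (algebraMap P Br)) := by
        rw [PrimeSpectrum.localization_away_comap_range Br r]; exact hz
      exact hz') hopen
  -- the two pieces
  have pr : ∀ {W : Scheme.{u}} (w : W ⟶ Spec (CommRingCat.of Br)),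
      (w ≫ ir ≫ p) ≫ 𝔸(n; S) ↘ S = (w ≫ tr) ≫ ρ := fun w => by
    simp only [Category.assoc, ir, ← htr]
  have ps : ∀ {W : Scheme.{u}} (w : W ⟶ Spec (CommRingCat.of Bs)),
      (w ≫ is ≫ p) ≫ 𝔸(n; S) ↘ S = (w ≫ ts) ≫ σ := fun w => by
    simp only [Category.assoc, is, ← hts]
  let Hr : Hm a a (ir ≫ zz p) (ir ≫ p) :=
    { hq := by rw [Category.assoc, zz_q, Category.assoc]
      app := fun w x h => Φ.map (zz (w ≫ ir ≫ p)) (w ≫ ir ≫ p) (w ≫ tr) (by rw [zz_q]; exact pr w) (pr w)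
        (ψr.app w x (by rw [h]; simp only [zr, comp_zz]))
        (by rw [ψr.π]; simp only [zr, comp_zz])
      π := fun w x h => Φ.π _ _ _ _ _ _ _
      nat := fun b w x h => by
        rw [Φ.nat]
        exact Φ.congr (by simp only [comp_zz, Category.assoc]) (Category.assoc _ _ _).symm (Category.assoc _ _ _).symm
          (ψr.nat _ _ _ _)
      equiv := fun w g x h hg =>
        (Φ.congr rfl rfl rfl (ψr.equiv w g x (by rw [h]; simp only [zr, comp_zz]) hg)).trans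
          (Φ.equiv _ _ _ _ _ g _ (by rw [ψr.π]; simp only [zr, comp_zz]) _) }
  let Hs : Hm a a (is ≫ zz p) (is ≫ p) :=
    { hq := by rw [Category.assoc, zz_q, Category.assoc]
      app := fun w x h => Ψ.map (zz (w ≫ is ≫ p)) (w ≫ is ≫ p) (w ≫ ts) (by rw [zz_q]; exact ps w) (ps w)
        (ψs.app w x (by rw [h]; simp only [zs, comp_zz]))
        (by rw [ψs.π]; simp only [zs, comp_zz])
      π := fun w x h => Ψ.π _ _ _ _ _ _ _
      nat := fun b w x h => by
        rw [Ψ.nat]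
        exact Ψ.congr (by simp only [comp_zz, Category.assoc]) (Category.assoc _ _ _).symm (Category.assoc _ _ _).symm
          (ψs.nat _ _ _ _)
      equiv := fun w g x h hg =>
        (Ψ.congr rfl rfl rfl (ψs.equiv w g x (by rw [h]; simp only [zs, comp_zz]) hg)).trans
          (Ψ.equiv _ _ _ _ _ g _ (by rw [ψs.π]; simp only [zs, comp_zz]) _) }
  -- agreement on the overlap
  have key : ∀ {W : Scheme.{u}} (w₁ : W ⟶ Spec (CommRingCat.of Br)) (w₂ : W ⟶ Spec (CommRingCat.of Bs))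
      (x : W ⟶ X.left) (e : w₁ ≫ ir = w₂ ≫ is) (h₁ : x ≫ X.hom = w₁ ≫ ir ≫ zz p) (h₂ : x ≫ X.hom = w₂ ≫ is ≫ zz p),
      Hr.app w₁ x h₁ = Hs.app w₂ x h₂ := by
    intro W w₁ w₂ x e h₁ h₂
    have : IsOpenImmersion jr := IsOpenImmersion.of_isLocalization (algebraMap P Br s)
    have : IsOpenImmersion js := IsOpenImmersion.of_isLocalization (algebraMap P Bs r)
    have : IsOpenImmersion ir := IsOpenImmersion.of_isLocalization r
    have : IsOpenImmersion is := IsOpenImmersion.of_isLocalization s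
    have hr1 : Set.range w₁ ⊆ Set.range jr := by
      rintro _ ⟨z, rfl⟩
      have hz : w₁ z ∈ Set.range (PrimeSpectrum.comap (algebraMap Br Cr)) := by
        rw [PrimeSpectrum.localization_away_comap_range Cr (algebraMap P Br s)]
        show s ∉ (ir (w₁ z)).asIdeal
        rw [show ir (w₁ z) = is (w₂ z) from congr($e z)]
        have : is (w₂ z) ∈ PrimeSpectrum.basicOpen s := by
          have hh : Set.range (PrimeSpectrum.comap (algebraMap P Bs)) = _ := PrimeSpectrum.localization_away_comap_range Bs s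
          exact hh.subset ⟨w₂ z, rfl⟩
        exact this
      exact hz
    have hs1 : Set.range w₂ ⊆ Set.range js := by
      rintro _ ⟨z, rfl⟩
      have hz : w₂ z ∈ Set.range (PrimeSpectrum.comap (algebraMap Bs Cs)) := by
        rw [PrimeSpectrum.localization_away_comap_range Cs (algebraMap P Bs r)]
        show r ∉ (is (w₂ z)).asIdeal
        rw [show is (w₂ z) = ir (w₁ z) from congr($(e.symm) z)]
        have : ir (w₁ z) ∈ PrimeSpectrum.basicOpen r := by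
          have hh : Set.range (PrimeSpectrum.comap (algebraMap P Br)) = _ := PrimeSpectrum.localization_away_comap_range Br r
          exact hh.subset ⟨w₁ z, rfl⟩
        exact this
      exact hz
    let a₁ := IsOpenImmersion.lift jr w₁ hr1
    let a₂ := IsOpenImmersion.lift js w₂ hs1
    have ha₁ : a₁ ≫ jr = w₁ := IsOpenImmersion.lift_fac _ _ _
    have ha₂ : a₂ ≫ js = w₂ := IsOpenImmersion.lift_fac _ _ _
    have hts' : w₂ = a₁ ≫ kr := by
      rw [← cancel_mono is, Category.assoc, hkr, reassoc_of% ha₁, e]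
    have htr' : w₁ = a₂ ≫ ks := by
      rw [← cancel_mono ir, Category.assoc, hks, reassoc_of% ha₂, e]
    have hxr : x ≫ X.hom = a₁ ≫ jr ≫ zr := by
      rw [h₁, reassoc_of% ha₁]; simp only [zr, comp_zz]
    have hxs : x ≫ X.hom = a₂ ≫ js ≫ zs := by
      rw [h₂, reassoc_of% ha₂]; simp only [zs, comp_zz]
    have eval : ∀ {C : Type u} [CommRing C] [Algebra P C] (a' : W ⟶ Spec (CommRingCat.of C)) (c : P),
        a'.appTop (fn C (algebraMap P C c)) =
          (a' ≫ Spec.map (CommRingCat.ofHom (algebraMap P C))).appTop (fn P c) := by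
      intro C _ _ a' c
      rw [Scheme.Hom.comp_appTop]
      exact congrArg _ (appTop_fn _ _).symm
    have ewp : a₁ ≫ Spec.map (CommRingCat.ofHom (algebraMap P Cr)) = w₁ ≫ ir := by
      rw [← spec_alg (P := P) (algebraMap Br Cr) (fun c => (IsScalarTower.algebraMap_apply P Br Cr c).symm), reassoc_of% ha₁]
    have ews : a₂ ≫ Spec.map (CommRingCat.ofHom (algebraMap P Cs)) = w₁ ≫ ir := by
      rw [← spec_alg (P := P) (algebraMap Bs Cs) (fun c => (IsScalarTower.algebraMap_apply P Bs Cs c).symm), reassoc_of% ha₂, e]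
    have hsc : sm (1 - a₁.appTop (fn Cr (algebraMap Br Cr (algebraMap P Br s ^ Nr * algebraMap P Br cb)))) (a₁ ≫ jr ≫ ir ≫ p) =
        sm (a₂.appTop (fn Cs (algebraMap Bs Cs (algebraMap P Bs r ^ Ns * algebraMap P Bs ca)))) (a₂ ≫ js ≫ is ≫ p) := by
      rw [reassoc_of% ha₁, reassoc_of% ha₂, reassoc_of% e]
      congr 1
      rw [← map_pow, ← map_pow, ← map_mul, ← map_mul, ← IsScalarTower.algebraMap_apply P Br Cr,
        ← IsScalarTower.algebraMap_apply P Bs Cs, eval, eval, ewp, ews, sub_eq_iff_eq_add, ← map_add, ← map_add,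
        show r ^ Ns * ca + s ^ Nr * cb = 1 by linear_combination hab, map_one, map_one]
    show Φ.map _ _ _ _ _ (ψr.app w₁ x _) _ = Ψ.map _ _ _ _ _ (ψs.app w₂ x _) _
    have er := (ψr.app_congr ha₁.symm rfl (h := hxr.trans (by rw [reassoc_of% ha₁])) (h' := by
      rw [hxr, Category.assoc])).trans (hψr a₁ x hxr)
    have es := (ψs.app_congr ha₂.symm rfl (h := hxs.trans (by rw [reassoc_of% ha₂])) (h' := by
      rw [hxs, Category.assoc])).trans (hψs a₂ x hxs)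
    refine (Φ.congr rfl rfl rfl er (h₁' := by rw [zz_q]; exact pr w₁) (h₂' := pr w₁)
      (hx' := (gFwd_π ..).trans (by rw [reassoc_of% ha₁]))).trans ?_
    refine Eq.trans ?_ (Ψ.congr rfl rfl rfl es (h₁' := by rw [zz_q]; exact ps w₂) (h₂' := ps w₂)
      (hx' := ((gInv_π ..).trans (zsm _ _)).trans (by rw [reassoc_of% ha₂]))).symm
    refine (Φ.congr (by rw [reassoc_of% ha₁]) (by rw [reassoc_of% ha₁]) (by rw [reassoc_of% ha₁]) rfl).trans
      ((map_gFwd Φ Ψ (a₁ ≫ jr ≫ ir ≫ p) (a₁ ≫ jr ≫ tr) (a₁ ≫ kr ≫ ts) (yr a₁).1 (yr a₁).2 _ _).trans ?_)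
    refine Ψ.congr (by rw [reassoc_of% ha₁, reassoc_of% e]) (by rw [reassoc_of% ha₁, reassoc_of% e])
      (by rw [← Category.assoc, ← hts']) ?_
    refine gInv_congr _ _ _ _ _ _ _ _ _ hsc (by rw [reassoc_of% ha₁, ← Category.assoc, ← htr'])
      (by rw [← Category.assoc, ← hts', reassoc_of% ha₂]) rfl
  refine exists_glue 𝒰 (zz_q p) (fun | true => Hr | false => Hs) ?_
  intro i j W w₁ w₂ x e h₁ h₂
  match i, j with
  | true, true =>
    obtain rfl : w₁ = w₂ := (@cancel_mono _ _ _ _ _ ir (@IsOpenImmersion.mono _ _ ir (hopen true)) w₁ w₂).1 e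
    rfl
  | false, false =>
    obtain rfl : w₁ = w₂ := (@cancel_mono _ _ _ _ _ is (@IsOpenImmersion.mono _ _ is (hopen false)) w₁ w₂).1 e
    rfl
  | true, false => exact key w₁ w₂ x e h₁ h₂
  | false, true => exact (key w₂ w₁ x e.symm h₂ h₁).symm

end patch

end Groth.Agent.Lib.TorsorQuillen.Patch
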