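import Groth.Prelude.Def_ActBC
import Groth.Prelude.Def_NonAbH2
import Mathlib
import Groth.Agent.Lib.TorsorSch.FibreProd

/-!
# Quillen patching: points of schemes with a group action, families of equivariant maps
-/

universe u

open CategoryTheory CategoryTheory.Limits MonoidalCategory CartesianMonoidalCategory MonObj GrpObj AlgebraicGeometry

namespace Groth.Agent.Lib.TorsorQuillen.Pts

variable {S A : Scheme.{u}} {q : A ⟶ S} {G : Over S} [GrpObj G] {X : Over A}

/-- A point of the group as a point of the base-changed group. -/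
noncomputable def gpt {W : Scheme.{u}} (g : W ⟶ G.left) (b : W ⟶ A) (h : g ≫ G.hom = b ≫ q) :
    Over.mk b ⟶ Red.bc q G :=
  Over.homMk (pullback.lift g b h) (pullback.lift_snd _ _ _)

theorem gpt_fst {W : Scheme.{u}} (g : W ⟶ G.left) (b : W ⟶ A) (h : g ≫ G.hom = b ≫ q) :
    (gpt g b h).left ≫ pullback.fst G.hom q = g :=
  pullback.lift_fst _ _ _

theorem gpt_eq {b : Over A} (g : b ⟶ Red.bc q G) (h) :
    gpt (W := b.left) (g.left ≫ pullback.fst G.hom q) b.hom h = g := by
  ext1
  apply pullback.hom_ext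
  · exact gpt_fst _ _ _
  · exact (pullback.lift_snd _ _ _).trans (Over.w g).symm

variable (a : AlgGrp.Action (Red.bc q G) X)

/-- The action on points. -/
noncomputable def gact {W : Scheme.{u}} (g : W ⟶ G.left) (x : W ⟶ X.left) (h : g ≫ G.hom = (x ≫ X.hom) ≫ q) :
    W ⟶ X.left :=
  (lift (gpt g (x ≫ X.hom) h) (Over.homMk (U := Over.mk (x ≫ X.hom)) x rfl) ≫ a.act).left

theorem gact_π {W : Scheme.{u}} (g : W ⟶ G.left) (x : W ⟶ X.left) (h) :
    gact a g x h ≫ X.hom = x ≫ X.hom :=
  Over.w (lift (gpt g (x ≫ X.hom) h) (Over.homMk (U := Over.mk (x ≫ X.hom)) x rfl) ≫ a.act)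

theorem gact_congr {W : Scheme.{u}} {g g' : W ⟶ G.left} {x x' : W ⟶ X.left} {h} {h'} (e : g = g') (e' : x = x') :
    gact a g x h = gact a g' x' h' := by
  subst e; subst e'; rfl

theorem lift_act_left_aux {W : Scheme.{u}} (x : W ⟶ X.left) {b : W ⟶ A} (hb : x ≫ X.hom = b)
    (g : Over.mk b ⟶ Red.bc q G) (h) :
    (lift g (Over.homMk (U := Over.mk b) x hb) ≫ a.act).left = gact a (g.left ≫ pullback.fst G.hom q) x h := by
  subst hb
  unfold gact
  congr 3
  exact (gpt_eq (b := Over.mk (x ≫ X.hom)) g _).symm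

theorem lift_act_left {Wo : Over A} (g : Wo ⟶ Red.bc q G) (x : Wo ⟶ X) :
    (lift g x ≫ a.act).left = gact a (g.left ≫ pullback.fst G.hom q) x.left
      (by rw [Category.assoc, pullback.condition, Over.w x, ← Category.assoc, show g.left ≫ pullback.snd G.hom q = Wo.hom from Over.w g]) :=
  lift_act_left_aux a x.left (Over.w x) g _

theorem comp_gact {W W' : Scheme.{u}} (b : W' ⟶ W) (g : W ⟶ G.left) (x : W ⟶ X.left) (h) :
    b ≫ gact a g x h = gact a (b ≫ g) (b ≫ x) (by rw [Category.assoc, h]; simp only [Category.assoc]) := by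
  let β : Over.mk (b ≫ x ≫ X.hom) ⟶ Over.mk (x ≫ X.hom) := Over.homMk b rfl
  have := lift_act_left a (β ≫ gpt g (x ≫ X.hom) h) (β ≫ Over.homMk (U := Over.mk (x ≫ X.hom)) x rfl)
  rw [← comp_lift, Category.assoc] at this
  refine this.trans (gact_congr a ?_ rfl)
  exact (Category.assoc _ _ _).trans (congrArg (b ≫ ·) (gpt_fst _ _ _))

theorem one_left {Z : Over A} :
    ((1 : Z ⟶ Red.bc q G)).left ≫ pullback.fst G.hom q = (Z.hom ≫ q) ≫ (η[G] : 𝟙_ _ ⟶ G).left := by
  rw [Hom.one_def, Over.comp_left, Category.assoc, Functor.obj.η_def, Over.comp_left, Category.assoc,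
    ActBC.pullback_map_left_fst]
  simp

theorem gact_one {W : Scheme.{u}} (x : W ⟶ X.left) (h) :
    gact a (((x ≫ X.hom) ≫ q) ≫ (η[G] : 𝟙_ _ ⟶ G).left) x h = x := by
  have h1 := one_left (q := q) (G := G) (Z := Over.mk (x ≫ X.hom))
  have := lift_act_left a (1 : Over.mk (x ≫ X.hom) ⟶ Red.bc q G) (Over.homMk (U := Over.mk (x ≫ X.hom)) x rfl)
  rw [AlgGrp.Action.lift_one_act] at this
  simp only [Over.homMk_left] at this
  refine Eq.trans ?_ this.symm
  exact gact_congr a h1.symm rfl

/-- The product of two points of the group, read over a point of the base. -/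
noncomputable def gmul {W : Scheme.{u}} (b : W ⟶ A) (g g' : W ⟶ G.left) (h : g ≫ G.hom = b ≫ q)
    (h' : g' ≫ G.hom = b ≫ q) : W ⟶ G.left :=
  (gpt g b h * gpt g' b h').left ≫ pullback.fst G.hom q

theorem gmul_hom {W : Scheme.{u}} (b : W ⟶ A) (g g' : W ⟶ G.left) (h : g ≫ G.hom = b ≫ q) (h') :
    gmul b g g' h h' ≫ G.hom = b ≫ q := by
  rw [gmul, Category.assoc, pullback.condition, ← Category.assoc]
  exact congrArg (· ≫ q) (Over.w _)

theorem gact_gact {W : Scheme.{u}} (b : W ⟶ A) (g g' : W ⟶ G.left) (h : g ≫ G.hom = b ≫ q) (h')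
    (x : W ⟶ X.left) (hx : x ≫ X.hom = b) :
    gact a g (gact a g' x (by rw [hx]; exact h')) (by rw [gact_π, hx]; exact h) =
      gact a (gmul b g g' h h') x (by rw [hx]; exact gmul_hom _ _ _ _ _) := by
  subst hx
  have e1 := lift_act_left a (gpt g (x ≫ X.hom) h) (lift (gpt g' (x ≫ X.hom) h') (Over.homMk (U := Over.mk (x ≫ X.hom)) x rfl) ≫ a.act)
  rw [← AlgGrp.Action.lift_mul_act, lift_act_left] at e1
  exact (gact_congr a (gpt_fst _ _ _).symm rfl).trans e1.symm

theorem existsUnique_gact (ha : NonAbH1.IsPseudoTorsorSch a) {W : Scheme.{u}} (x y : W ⟶ X.left)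
    (hxy : x ≫ X.hom = y ≫ X.hom) :
    ∃! g : W ⟶ G.left, ∃ h, gact a g x h = y := by
  let xo : Over.mk (x ≫ X.hom) ⟶ X := Over.homMk x rfl
  let yo : Over.mk (x ≫ X.hom) ⟶ X := Over.homMk y hxy.symm
  obtain ⟨gam, hgam, hu⟩ := Groth.Agent.Lib.TorsorSch.FibreProd.existsUnique_of_pseudo ha xo yo
  refine ⟨gam.left ≫ pullback.fst G.hom q, ⟨?_, ?_⟩, ?_⟩
  · rw [Category.assoc, pullback.condition, ← Category.assoc]
    exact congrArg (· ≫ q) (Over.w gam)
  · exact (lift_act_left a gam xo).symm.trans (congrArg CommaMorphism.left hgam)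
  · rintro g ⟨h, hg⟩
    have : gpt g (x ≫ X.hom) h = gam := hu _ (by
      ext1
      rw [lift_act_left]
      exact (gact_congr a (gpt_fst _ _ _) rfl).trans hg)
    rw [← this, gpt_fst]

variable {A' : Scheme.{u}} {q' : A' ⟶ S} {X' : Over A'} (a' : AlgGrp.Action (Red.bc q' G) X')
  {A'' : Scheme.{u}} {q'' : A'' ⟶ S} {X'' : Over A''} (a'' : AlgGrp.Action (Red.bc q'' G) X'')

/-- A family of equivariant maps from the fibres of `X` over `u` to the fibres of `X'` over `v`. -/
structure Hm {T : Scheme.{u}} (u : T ⟶ A) (v : T ⟶ A') where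
  hq : u ≫ q = v ≫ q'
  app : ∀ {W : Scheme.{u}} (w : W ⟶ T) (x : W ⟶ X.left), x ≫ X.hom = w ≫ u → (W ⟶ X'.left)
  π : ∀ {W : Scheme.{u}} (w : W ⟶ T) (x : W ⟶ X.left) (h : x ≫ X.hom = w ≫ u), app w x h ≫ X'.hom = w ≫ v
  nat : ∀ {W W' : Scheme.{u}} (b : W' ⟶ W) (w : W ⟶ T) (x : W ⟶ X.left) (h : x ≫ X.hom = w ≫ u),
    b ≫ app w x h = app (b ≫ w) (b ≫ x) (by rw [Category.assoc, h, Category.assoc])
  equiv : ∀ {W : Scheme.{u}} (w : W ⟶ T) (g : W ⟶ G.left) (x : W ⟶ X.left) (h : x ≫ X.hom = w ≫ u)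
    (hg : g ≫ G.hom = (x ≫ X.hom) ≫ q),
    app w (gact a g x hg) (by rw [gact_π, h]) =
      gact a' g (app w x h) (by rw [π, hg, h, Category.assoc, Category.assoc, hq])

variable {a a' a''}

namespace Hm

variable {T T' : Scheme.{u}} {u : T ⟶ A} {v : T ⟶ A'} {z : T ⟶ A''}

theorem ext' {f f' : Hm a a' u v}
    (e : ∀ {W : Scheme.{u}} (w : W ⟶ T) (x : W ⟶ X.left) (h : x ≫ X.hom = w ≫ u), f.app w x h = f'.app w x h) :
    f = f' := by
  obtain ⟨hq, app, π, nat, equiv⟩ := f
  obtain ⟨hq', app', π', nat', equiv'⟩ := f'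
  have : @app = @app' := by funext W w x h; exact e w x h
  subst this
  rfl

theorem app_congr (f : Hm a a' u v) {W : Scheme.{u}} {w w' : W ⟶ T} {x x' : W ⟶ X.left} {h} {h'}
    (e : w = w') (e' : x = x') : f.app w x h = f.app w' x' h' := by
  subst e; subst e'; rfl

variable (a u) in
/-- The identity family. -/
noncomputable def id : Hm a a u u where
  hq := rfl
  app _ x _ := x
  π _ _ h := h
  nat _ _ _ _ := rfl
  equiv _ _ _ _ _ := rfl

/-- Composition of families. -/
noncomputable def comp (f : Hm a a' u v) (f' : Hm a' a'' v z) : Hm a a'' u z where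
  hq := f.hq.trans f'.hq
  app w x h := f'.app w (f.app w x h) (f.π w x h)
  π w x h := f'.π _ _ _
  nat b w x h := (f'.nat b w _ _).trans (f'.app_congr rfl (f.nat b w x h))
  equiv w g x h hg := (f'.app_congr rfl (f.equiv w g x h hg)).trans (f'.equiv w g _ _ _)

/-- Pulling back a family along a morphism of parameter schemes. -/
noncomputable def pull (f : Hm a a' u v) (b : T' ⟶ T) (u' : T' ⟶ A) (v' : T' ⟶ A') (hu : b ≫ u = u')
    (hv : b ≫ v = v') : Hm a a' u' v' where
  hq := by rw [← hu, ← hv, Category.assoc, Category.assoc, f.hq]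
  app w x h := f.app (w ≫ b) x (by rw [h, ← hu, Category.assoc])
  π w x h := by rw [f.π, ← hv, Category.assoc]
  nat c w x h := (f.nat c _ _ _).trans (f.app_congr (Category.assoc _ _ _).symm rfl)
  equiv w g x h hg := f.equiv _ g x _ hg

theorem pull_app (f : Hm a a' u v) (b : T' ⟶ T) (u' : T' ⟶ A) (v' : T' ⟶ A') (hu : b ≫ u = u') (hv : b ≫ v = v')
    {W : Scheme.{u}} (w : W ⟶ T') (x : W ⟶ X.left) (h) :
    (f.pull b u' v' hu hv).app w x h = f.app (w ≫ b) x (by rw [h, ← hu, Category.assoc]) := rfl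

end Hm

/-! ### Families coming from a torsor on the base -/

theorem homEquiv_left_fst {S' : Scheme.{u}} (f : S' ⟶ A) {Y : Over A} {Wo : Over S'}
    (y : (Over.map f).obj Wo ⟶ Y) :
    ((Over.mapPullbackAdj f).homEquiv Wo Y y).left ≫ pullback.fst Y.hom f = y.left := by
  simp [Adjunction.homEquiv_unit]
  rw [pullback.lift_fst, pullback.lift_fst_assoc, Category.id_comp]

variable (a)

/-- The points form of a base-changed action, restricted along `bcCompIso`. -/
theorem bc_restrict_act {T : Scheme.{u}} (f : T ⟶ A) {d : T ⟶ S} (hd : f ≫ q = d) {Wo : Over T}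
    (g : Wo ⟶ Red.bc d G) (x : Wo ⟶ Red.bc f X) :
    (lift g x ≫ ((a.bc f).restrict (ActBC.bcCompIso f q G hd).inv).act).left ≫ pullback.fst X.hom f =
      gact a (g.left ≫ pullback.fst G.hom d) (x.left ≫ pullback.fst X.hom f) (by
        have h1 : g.left ≫ pullback.snd G.hom d = Wo.hom := Over.w g
        have h2 : x.left ≫ pullback.snd X.hom f = Wo.hom := Over.w x
        rw [Category.assoc, pullback.condition, reassoc_of% h1, Category.assoc, Category.assoc, pullback.condition_assoc,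
          reassoc_of% h2, ← hd]) := by
  rw [AlgGrp.Action.lift_restrict_act]
  set g' := g ≫ (ActBC.bcCompIso f q G hd).inv with hg'
  obtain ⟨g₀, hg₀⟩ : ∃ g₀, (Over.mapPullbackAdj f).homEquiv Wo (Red.bc q G) g₀ = g' :=
    ⟨_, Equiv.apply_symm_apply _ _⟩
  obtain ⟨x₀, hx₀⟩ : ∃ x₀, (Over.mapPullbackAdj f).homEquiv Wo X x₀ = x := ⟨_, Equiv.apply_symm_apply _ _⟩
  rw [← hg₀, ← hx₀, AlgGrp.Action.lift_homEquiv_bc_act, homEquiv_left_fst, lift_act_left]
  refine gact_congr a ?_ ?_
  · have h1 := homEquiv_left_fst f g₀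
    rw [hg₀] at h1
    rw [← h1, Category.assoc]
    rw [hg', Over.comp_left, Category.assoc]
    congr 1
    rw [← cancel_epi (ActBC.bcCompIso f q G hd).hom.left, ← Category.assoc, ← Over.comp_left, Iso.hom_inv_id,
      ActBC.bcCompIso_hom_left_fst]
    exact Category.id_comp _
  · exact (homEquiv_left_fst f x₀).symm

variable (a')

theorem isPseudoTorsorSch_restrict {Y : Over A} {H : Over A} [GrpObj H] {G₀ : Over A} [GrpObj G₀] (φ : H ≅ G₀)
    [IsMonHom φ.hom] {b : AlgGrp.Action G₀ Y} (hb : NonAbH1.IsPseudoTorsorSch b) :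
    NonAbH1.IsPseudoTorsorSch (b.restrict φ.hom) := by
  have : IsIso (lift b.act (snd G₀ Y)) := hb
  have : lift (b.restrict φ.hom).act (snd H Y) = (φ.hom ▷ Y) ≫ lift b.act (snd G₀ Y) := by
    rw [comp_lift, AlgGrp.Action.restrict_act, whiskerRight_snd]
  show IsIso _
  rw [this]
  infer_instance

variable {T : Scheme.{u}} {f : T ⟶ A} {f' : T ⟶ A'} {d : T ⟶ S} (hd : f ≫ q = d) (hd' : f' ≫ q' = d)

/-- A point of a base change. -/
noncomputable def bpt {Y : Over A} {W : Scheme.{u}} (w : W ⟶ T) (x : W ⟶ Y.left) (h : x ≫ Y.hom = w ≫ f) :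
    Over.mk w ⟶ Red.bc f Y :=
  Over.homMk (pullback.lift x w h) (pullback.lift_snd _ _ _)

theorem bpt_fst {Y : Over A} {W : Scheme.{u}} (w : W ⟶ T) (x : W ⟶ Y.left) (h : x ≫ Y.hom = w ≫ f) :
    (bpt w x h).left ≫ pullback.fst Y.hom f = x :=
  pullback.lift_fst _ _ _

/-- The points of an equivariant morphism of base changes. -/
noncomputable def ofMor (φ : Red.bc f X ⟶ Red.bc f' X')
    (hφ : AlgGrp.Action.IsEquivariant ((a.bc f).restrict (ActBC.bcCompIso f q G hd).inv)
      ((a'.bc f').restrict (ActBC.bcCompIso f' q' G hd').inv) φ) : Hm a a' f f' where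
  hq := hd.trans hd'.symm
  app w x h := (bpt w x h).left ≫ φ.left ≫ pullback.fst X'.hom f'
  π w x h := by
    simp only [Category.assoc, pullback.condition]
    rw [← Category.assoc φ.left, show φ.left ≫ pullback.snd X'.hom f' = pullback.snd X.hom f from Over.w φ,
      ← Category.assoc, show (bpt w x h).left ≫ pullback.snd X.hom f = w from Over.w (bpt w x h)]
  nat b w x h := by
    rw [← Category.assoc]
    congr 1
    apply pullback.hom_ext
    · rw [Category.assoc, bpt_fst, bpt_fst]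
    · rw [Category.assoc]
      exact (congrArg (b ≫ ·) (Over.w (bpt w x h))).trans (Over.w (bpt (b ≫ w) (b ≫ x) _)).symm
  equiv {W} w g x h hg := by
    let gg : Over.mk w ⟶ Red.bc d G := gpt (q := d) g w (by rw [hg, h, Category.assoc, hd])
    let xx := bpt (f := f) w x h
    have e : lift gg xx ≫ ((a.bc f).restrict (ActBC.bcCompIso f q G hd).inv).act ≫ φ =
        lift gg (xx ≫ φ) ≫ ((a'.bc f').restrict (ActBC.bcCompIso f' q' G hd').inv).act := by
      rw [show ((a.bc f).restrict (ActBC.bcCompIso f q G hd).inv).act ≫ φ = _ from hφ, lift_whiskerLeft_assoc]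
    have e1 := bc_restrict_act a f hd gg xx
    have e2 := bc_restrict_act a' f' hd' gg (xx ≫ φ)
    have hz : bpt w (gact a g x hg) (by rw [gact_π, h]) = lift gg xx ≫ ((a.bc f).restrict (ActBC.bcCompIso f q G hd).inv).act := by
      ext1
      apply pullback.hom_ext
      · rw [bpt_fst, e1]
        exact gact_congr a (gpt_fst _ _ _).symm (bpt_fst _ _ _).symm
      · exact (Over.w (bpt w (gact a g x hg) _)).trans (Over.w (lift gg xx ≫ _)).symm
    rw [hz, ← Category.assoc, ← Over.comp_left, Category.assoc (lift gg xx), e, e2]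
    exact gact_congr a' (gpt_fst _ _ _) (Category.assoc _ _ _)

theorem ofMor_app (φ : Red.bc f X ⟶ Red.bc f' X') (hφ) {W : Scheme.{u}} (w : W ⟶ T) (x : W ⟶ X.left) (h) :
    (ofMor a a' hd hd' φ hφ).app w x h = (bpt w x h).left ≫ φ.left ≫ pullback.fst X'.hom f' := rfl

/-- The equivariant morphism of base changes with the given points. -/
noncomputable def toMor (F : Hm a a' f f') : Red.bc f X ⟶ Red.bc f' X' :=
  Over.homMk (pullback.lift (F.app (pullback.snd X.hom f) (pullback.fst X.hom f) pullback.condition)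
    (pullback.snd X.hom f) (F.π _ _ _)) (pullback.lift_snd _ _ _)

theorem toMor_fst (F : Hm a a' f f') :
    (toMor a a' F).left ≫ pullback.fst X'.hom f' = F.app (pullback.snd X.hom f) (pullback.fst X.hom f) pullback.condition :=
  pullback.lift_fst _ _ _

theorem isEquivariant_toMor (F : Hm a a' f f') :
    AlgGrp.Action.IsEquivariant ((a.bc f).restrict (ActBC.bcCompIso f q G hd).inv)
      ((a'.bc f').restrict (ActBC.bcCompIso f' q' G hd').inv) (toMor a a' F) := by
  apply AlgGrp.Action.hom_ext_lift₂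
  intro Wo gg xx
  rw [lift_whiskerLeft_assoc]
  ext1
  apply pullback.hom_ext
  · rw [bc_restrict_act a' f' hd', Over.comp_left, Over.comp_left, Category.assoc, Category.assoc, toMor_fst,
      ← Category.assoc, ← Over.comp_left, F.nat]
    have hw : (lift gg xx ≫ ((a.bc f).restrict (ActBC.bcCompIso f q G hd).inv).act).left ≫ pullback.snd X.hom f = Wo.hom :=
      Over.w _
    refine (F.app_congr hw (bc_restrict_act a f hd gg xx)
      (h' := by rw [gact_π, Category.assoc, pullback.condition, ← Category.assoc, show xx.left ≫ pullback.snd X.hom f = Wo.hom from Over.w xx])).trans ?_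
    refine (F.equiv Wo.hom _ _ ?_ _).trans ?_
    · rw [Category.assoc, pullback.condition, ← Category.assoc, show xx.left ≫ pullback.snd X.hom f = Wo.hom from Over.w xx]
    refine gact_congr a' rfl ?_
    refine Eq.trans ?_ (Category.assoc _ _ _).symm
    rw [toMor_fst, F.nat]
    exact F.app_congr (Over.w xx).symm rfl
  · exact (Over.w _).trans (Over.w _).symm

end Groth.Agent.Lib.TorsorQuillen.Pts
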