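import Groth.Agent.Lib.TorsorQuillen.Ideal

/-!
# Quillen patching: torsors descending over an affine base
-/

universe u

open CategoryTheory CategoryTheory.Limits MonoidalCategory CartesianMonoidalCategory MonObj GrpObj AlgebraicGeometry

namespace Groth.Agent.Lib.TorsorQuillen.Top

open Pts Descend Patch Descends Ideal

variable {n : Type u} {S : Scheme.{u}} {G : Over S} [GrpObj G] {X : Over 𝔸(n; S)}
  {a : AlgGrp.Action (Red.bc (𝔸(n; S) ↘ S) G) X}

/-- A scheme is its base change along the identity. -/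
noncomputable def idIso (G : Over S) : G ≅ Red.bc (𝟙 S) G :=
  (Over.isoMk (asIso (pullback.fst G.hom (𝟙 S)))
    (by simpa using (pullback.condition (f := G.hom) (g := 𝟙 S)))).symm

theorem idIso_hom_fst (G : Over S) : (idIso G).hom.left ≫ pullback.fst G.hom (𝟙 S) = 𝟙 _ := by
  simp [idIso]

theorem idIso_mul :
    μ[G] ≫ (idIso G).hom = ((idIso G).hom ⊗ₘ (idIso G).hom) ≫ μ[Red.bc (𝟙 S) G] := by
  ext
  apply pullback.hom_ext
  · simp only [Functor.obj.μ_def, Over.comp_left, Category.assoc, idIso_hom_fst, Category.comp_id,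
      ActBC.pullback_map_left_fst]
    simp only [← Category.assoc]
    conv_lhs => rw [← Category.id_comp (μ[G] : G ⊗ G ⟶ G).left]
    congr 1
    apply pullback.hom_ext
    · simp only [Category.assoc]
      rw [ActBC.μ_left_fst_fst, ActBC.tensorHom_left_fst'_assoc, idIso_hom_fst, Category.id_comp, Category.comp_id]
    · simp only [Category.assoc]
      rw [ActBC.μ_left_fst_snd, ActBC.tensorHom_left_snd'_assoc, idIso_hom_fst, Category.id_comp, Category.comp_id]
  · exact (Over.w _).trans (Over.w _).symm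

instance : IsMonHom (idIso G).hom := by
  have hmul := idIso_mul (G := G)
  refine { one_hom := ?_, mul_hom := hmul }
  have h1 : (1 : 𝟙_ (Over S) ⟶ G) = η := by rw [Hom.one_def, toUnit_unique (toUnit _) (𝟙 _), Category.id_comp]
  have h1' : (1 : 𝟙_ (Over S) ⟶ Red.bc (𝟙 S) G) = η := by
    rw [Hom.one_def, toUnit_unique (toUnit _) (𝟙 _), Category.id_comp]
  have hx : (η ≫ (idIso G).hom) * (η ≫ (idIso G).hom) = (η ≫ (idIso G).hom) * 1 := by
    rw [_root_.mul_one, Hom.mul_def, ← lift_map_assoc, ← hmul, ← Category.assoc, ← Hom.mul_def, ← h1,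
      _root_.mul_one]
  rw [← h1']
  exact mul_left_cancel hx

/-- A family of maps from the fibre at zero over all of the affine space gives a torsor on the base. -/
theorem exists_torsor (ha : NonAbH1.IsTorsorFor Scheme.fppfPrecoverage a)
    (H : Hm a a (zz (𝟙 𝔸(n; S))) (𝟙 𝔸(n; S))) :
    ∃ P : NonAbH1.TorsorSch G Scheme.fppfPrecoverage,
      Nonempty (NonAbH1.EquivIso (P.act.bc (𝔸(n; S) ↘ S)) a) := by
  let q := 𝔸(n; S) ↘ S
  have hz : (zer (n := n) (S := S)) ≫ q = 𝟙 S := zer_q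
  haveI : IsMonHom (ActBC.bcCompIso zer q G hz).symm.hom := inferInstanceAs (IsMonHom (ActBC.bcCompIso zer q G hz).inv)
  let a₀ : AlgGrp.Action (Red.bc (𝟙 S) G) (Red.bc zer X) := (a.bc zer).restrict (ActBC.bcCompIso zer q G hz).inv
  have ha₀ : NonAbH1.IsPseudoTorsorSch a₀ :=
    isPseudoTorsorSch_restrict (ActBC.bcCompIso zer q G hz).symm (NonAbH1.isPseudoTorsorSch_bc zer ha.1)
  let P : NonAbH1.TorsorSch G Scheme.fppfPrecoverage :=
    ⟨Red.bc zer X, a₀.restrict (idIso G).hom, isPseudoTorsorSch_restrict (idIso G) ha₀,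
      NonAbH1.isLocallyTrivialFor_bc zer _ ha.2⟩
  refine ⟨P, ?_⟩
  let Y : Over S := Red.bc zer X
  have hY : ∀ {W : Scheme.{u}} (w : W ⟶ 𝔸(n; S)) (x : W ⟶ Y.left), x ≫ Y.hom = w ≫ q →
      (x ≫ pullback.fst X.hom zer) ≫ X.hom = w ≫ zz (𝟙 𝔸(n; S)) := by
    intro W w x h
    rw [Category.assoc, pullback.condition, ← Category.assoc]
    exact (congrArg (· ≫ zer) h).trans (by simp only [zz, q, Category.id_comp, Category.assoc])
  let φ : Red.bc q Y ⟶ X := Over.homMk
    (H.app (pullback.snd Y.hom q) (pullback.fst Y.hom q ≫ pullback.fst X.hom zer) (hY _ _ pullback.condition))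
    ((H.π _ _ _).trans (Category.comp_id _))
  have hφ : AlgGrp.Action.IsEquivariant (P.act.bc q) a φ := by
    apply AlgGrp.Action.hom_ext_lift₂
    intro Wo gg xx
    rw [lift_whiskerLeft_assoc]
    obtain ⟨g₀, rfl⟩ : ∃ g₀, (Over.mapPullbackAdj q).homEquiv Wo G g₀ = gg := ⟨_, Equiv.apply_symm_apply _ gg⟩
    obtain ⟨x₀, rfl⟩ : ∃ x₀, (Over.mapPullbackAdj q).homEquiv Wo Y x₀ = xx := ⟨_, Equiv.apply_symm_apply _ xx⟩
    rw [← Category.assoc, AlgGrp.Action.lift_homEquiv_bc_act]
    ext1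
    rw [lift_act_left, Over.comp_left]
    show ((Over.mapPullbackAdj q).homEquiv Wo Y (lift g₀ x₀ ≫ (a₀.restrict (idIso G).hom).act)).left ≫
      H.app _ _ _ = _
    rw [H.nat]
    have hyb : x₀.left ≫ Y.hom = Wo.hom ≫ q := Over.w x₀
    have hb := hY Wo.hom x₀.left hyb
    have hgb : g₀.left ≫ G.hom = ((x₀.left ≫ pullback.fst X.hom zer) ≫ X.hom) ≫ q := by
      rw [hb, show g₀.left ≫ G.hom = Wo.hom ≫ q from Over.w g₀]
      simp only [zz, q, Category.id_comp, Category.assoc, zer_q, Category.comp_id]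
    have e1 : (lift g₀ x₀ ≫ (a₀.restrict (idIso G).hom).act).left ≫ pullback.fst X.hom zer =
        gact a g₀.left (x₀.left ≫ pullback.fst X.hom zer) hgb := by
      rw [AlgGrp.Action.lift_restrict_act]
      refine (bc_restrict_act a zer hz _ x₀).trans (gact_congr a ?_ rfl)
      rw [Over.comp_left, Category.assoc, idIso_hom_fst, Category.comp_id]
    refine (H.app_congr (Over.w _) ((reassoc_of% homEquiv_left_fst q (lift g₀ x₀ ≫ (a₀.restrict (idIso G).hom).act))
      (pullback.fst X.hom zer) |>.trans e1)).trans ((H.equiv Wo.hom g₀.left _ hb hgb).trans ?_)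
    refine gact_congr a (homEquiv_left_fst q g₀).symm ?_
    show _ = _ ≫ H.app _ _ _
    rw [H.nat]
    exact H.app_congr (Over.w _).symm ((reassoc_of% homEquiv_left_fst q x₀) (pullback.fst X.hom zer)).symm
  haveI : IsIso φ := Groth.Agent.Lib.TorsorSch.Basic.isIso_of_isEquivariant
    (Groth.Agent.Lib.TorsorSch.Descent.isTorsorFor_mono Scheme.fppfPrecoverage_le_fpqcPrecoverage
      (NonAbH1.isTorsorFor_bc q _ P.isTorsor)) ha.1 φ hφ
  exact ⟨⟨asIso φ, hφ⟩⟩

/-- **Patching over an affine base**: a torsor descending Zariski locally descends. -/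
theorem exists_torsor_of_local [IsAffine S] [LocallyOfFinitePresentation G.hom]
    (ha : NonAbH1.IsTorsorFor Scheme.fppfPrecoverage a)
    (hloc : ∀ s : S, ∃ (U : Scheme.{u}) (j : U ⟶ S) (_ : IsOpenImmersion j), s ∈ Set.range j.base ∧ Descends a j) :
    ∃ P : NonAbH1.TorsorSch G Scheme.fppfPrecoverage,
      Nonempty (NonAbH1.EquivIso (P.act.bc (𝔸(n; S) ↘ S)) a) := by
  obtain ⟨I, hI⟩ := exists_ideal ha (R := Γ(S, ⊤)) S.isoSpec.inv
  have h1 : (1 : Γ(S, ⊤)) ∈ I := by
    rw [← _root_.Ideal.eq_top_iff_one]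
    by_contra hne
    obtain ⟨m, hm, hle⟩ := _root_.Ideal.exists_le_maximal I hne
    let z : PrimeSpectrum Γ(S, ⊤) := ⟨m, hm.isPrime⟩
    obtain ⟨U, j, hj, hzj, hd⟩ := hloc (S.isoSpec.inv z)
    obtain ⟨_, ⟨f, rfl⟩, hzf, hfU⟩ := PrimeSpectrum.isTopologicalBasis_basic_opens.exists_subset_of_mem_open
      (show z ∈ (fun y => S.isoSpec.inv y) ⁻¹' Set.range j.base from hzj)
      (j.opensRange.2.preimage S.isoSpec.inv.continuous)
    refine hzf (hle ((hI f).2 ?_))
    have hr : Set.range (Spec.map (CommRingCat.ofHom (algebraMap Γ(S, ⊤) (Localization.Away f))) ≫ S.isoSpec.inv).base ⊆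
        Set.range j.base := by
      rintro _ ⟨w, rfl⟩
      have hw : Spec.map (CommRingCat.ofHom (algebraMap Γ(S, ⊤) (Localization.Away f))) w ∈
          (PrimeSpectrum.basicOpen f : Set (PrimeSpectrum Γ(S, ⊤))) := by
        rw [← PrimeSpectrum.localization_away_comap_range (Localization.Away f) f]
        exact ⟨w, rfl⟩
      exact hfU hw
    exact descends_of_factors ha (IsOpenImmersion.lift j _ hr) (IsOpenImmersion.lift_fac _ _ _) hd
  have : IsIso (Spec.map (CommRingCat.ofHom (algebraMap Γ(S, ⊤) (Localization.Away (1 : Γ(S, ⊤)))))) :=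
    have : IsIso (CommRingCat.ofHom (algebraMap Γ(S, ⊤) (Localization.Away (1 : Γ(S, ⊤))))) :=
      (ConcreteCategory.isIso_iff_bijective _).2 (by
        let e := IsLocalization.atUnit Γ(S, ⊤) (Localization.Away (1 : Γ(S, ⊤))) 1 isUnit_one
        have he : ⇑(algebraMap Γ(S, ⊤) (Localization.Away (1 : Γ(S, ⊤)))) = ⇑e := funext fun b => (e.commutes b).symm
        exact he ▸ e.bijective)
    inferInstance
  obtain ⟨Φ⟩ := desc_of_descends ((hI 1).1 h1)
  obtain ⟨H⟩ := hm_of_desc Φ (𝟙 𝔸(n; S)) ((𝔸(n; S) ↘ S) ≫ inv (Spec.map (CommRingCat.ofHom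
    (algebraMap Γ(S, ⊤) (Localization.Away (1 : Γ(S, ⊤))))) ≫ S.isoSpec.inv)) (by simp)
  exact exists_torsor ha H

end Groth.Agent.Lib.TorsorQuillen.Top
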